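import Mathlib

/-!
Small general lemmas on finite groups: index-two extensions, conjugation orbits, pairs of involutions, subgroups of
cyclic subgroups, and counting conjugates of trivial-intersection subsets.
-/

set_option autoImplicit false

namespace Cfsg.Agent.H9

variable {G : Type*} [Group G]

/-- The subgroup `P ∪ P t` for an element `t` normalising `P` with `t ^ 2 ∈ P`. -/
def adj (P : Subgroup G) (t : G) (h2 : t * t ∈ P) (hn : ∀ x ∈ P, t * x * t⁻¹ ∈ P) : Subgroup G where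
  carrier := {g | g ∈ P ∨ g * t ∈ P}
  one_mem' := Or.inl (one_mem P)
  mul_mem' := by
    have hn' : ∀ x ∈ P, t⁻¹ * x * t ∈ P := by
      intro x hx
      have := mul_mem (mul_mem (inv_mem h2) (hn x hx)) h2
      simpa [mul_assoc] using this
    rintro g g' (hg | hg) (hg' | hg')
    · exact Or.inl (mul_mem hg hg')
    · exact Or.inr (by rw [mul_assoc]; exact mul_mem hg hg')
    · refine Or.inr ?_
      have := mul_mem hg (hn' _ hg')
      simpa [mul_assoc] using this
    · refine Or.inl ?_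
      have := mul_mem (mul_mem hg (hn' _ hg')) (inv_mem h2)
      simpa [mul_assoc] using this
  inv_mem' := by
    rintro g (hg | hg)
    · exact Or.inl (inv_mem hg)
    · refine Or.inr ?_
      have := mul_mem (hn _ (inv_mem hg)) h2
      simpa [mul_assoc] using this

theorem mem_adj {P : Subgroup G} {t : G} {h2 : t * t ∈ P} {hn : ∀ x ∈ P, t * x * t⁻¹ ∈ P} {g : G} :
    g ∈ adj P t h2 hn ↔ g ∈ P ∨ g * t ∈ P := Iff.rfl

theorem le_adj {P : Subgroup G} {t : G} {h2 : t * t ∈ P} {hn : ∀ x ∈ P, t * x * t⁻¹ ∈ P} : P ≤ adj P t h2 hn :=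
  fun _ h => Or.inl h

theorem self_mem_adj {P : Subgroup G} {t : G} {h2 : t * t ∈ P} {hn : ∀ x ∈ P, t * x * t⁻¹ ∈ P} :
    t ∈ adj P t h2 hn := Or.inr h2

theorem card_adj {P : Subgroup G} {t : G} {h2 : t * t ∈ P} {hn : ∀ x ∈ P, t * x * t⁻¹ ∈ P} (ht : t ∉ P) :
    Nat.card (adj P t h2 hn) = 2 * Nat.card P := by
  have h1 : (P.subgroupOf (adj P t h2 hn)).index = 2 := by
    rw [Subgroup.index_eq_two_iff]
    refine ⟨⟨t, self_mem_adj⟩, ?_⟩
    rintro ⟨g, hg⟩
    simp only [Subgroup.mem_subgroupOf, Subgroup.coe_mul]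
    by_cases h : g ∈ P
    · refine Or.inr ⟨h, fun h' => ht ?_⟩
      simpa using mul_mem (inv_mem h) h'
    · exact Or.inl ⟨hg.resolve_left h, h⟩
  rw [← (P.subgroupOf (adj P t h2 hn)).index_mul_card, h1,
    Nat.card_congr (Subgroup.subgroupOfEquivOfLe le_adj).toEquiv]

/-- Orbit-stabiliser for conjugation by a subgroup. -/
theorem card_eq_conj_orbit_mul (N : Subgroup G) (x : G) (O : Set G)
    (hO : ∀ y, y ∈ O ↔ ∃ g ∈ N, g * x * g⁻¹ = y) :
    Nat.card N = O.ncard * Nat.card ↥(N ⊓ Subgroup.centralizer {x}) := by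
  have h1 : Nat.card ((Subgroup.centralizer {x}).subgroupOf N) = Nat.card ↥(N ⊓ Subgroup.centralizer {x}) := by
    rw [← Subgroup.inf_subgroupOf_left, Nat.card_congr (Subgroup.subgroupOfEquivOfLe inf_le_left).toEquiv]
  rw [← ((Subgroup.centralizer {x}).subgroupOf N).index_mul_card, h1]
  congr 1
  rw [Subgroup.index, ← Nat.card_coe_set_eq]
  refine Nat.card_congr (Equiv.ofBijective (Quotient.lift
    (fun g : N => (⟨g * x * (g : G)⁻¹, (hO _).mpr ⟨g, g.2, rfl⟩⟩ : O)) ?_) ⟨?_, ?_⟩)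
  · intro a b hab
    have h := QuotientGroup.leftRel_apply.mp hab
    rw [Subgroup.mem_subgroupOf, Subgroup.mem_centralizer_singleton_iff] at h
    simp only [Subgroup.coe_mul, InvMemClass.coe_inv] at h
    apply Subtype.ext
    show (a : G) * x * (a : G)⁻¹ = b * x * (b : G)⁻¹
    calc (a : G) * x * (a : G)⁻¹ = a * (x * ((a : G)⁻¹ * b)) * (b : G)⁻¹ := by simp [mul_assoc]
      _ = _ := by rw [← h]; simp [mul_assoc]
  · intro a b
    induction a using Quotient.inductionOn
    induction b using Quotient.inductionOn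
    rename_i a b
    intro h
    have h' : (a : G) * x * (a : G)⁻¹ = b * x * (b : G)⁻¹ := congrArg Subtype.val h
    apply Quotient.sound
    apply QuotientGroup.leftRel_apply.mpr
    rw [Subgroup.mem_subgroupOf, Subgroup.mem_centralizer_singleton_iff]
    simp only [Subgroup.coe_mul, InvMemClass.coe_inv]
    calc (a : G)⁻¹ * b * x = (a : G)⁻¹ * (b * x * (b : G)⁻¹) * b := by simp [mul_assoc]
      _ = _ := by rw [← h']; simp [mul_assoc]
  · rintro ⟨y, hy⟩
    obtain ⟨g, hg, rfl⟩ := (hO y).mp hy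
    exact ⟨Quotient.mk _ ⟨g, hg⟩, rfl⟩

/-- Two involutions are conjugate by a power of their product, or some such power is an involution commuting with
both. -/
theorem involutions_conj_or [Finite G] {s t : G} (hs : s * s = 1) (ht : t * t = 1) :
    ∃ k : ℕ, (s * t) ^ k * s * ((s * t) ^ k)⁻¹ = t ∨
      ((s * t) ^ k ≠ 1 ∧ (s * t) ^ k * (s * t) ^ k = 1 ∧ s * (s * t) ^ k = (s * t) ^ k * s ∧
        t * (s * t) ^ k = (s * t) ^ k * t) := by
  have hs' : s⁻¹ = s := inv_eq_of_mul_eq_one_right hs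
  have ht' : t⁻¹ = t := inv_eq_of_mul_eq_one_right ht
  have h1 : s * (s * t) * s⁻¹ = (s * t)⁻¹ := by
    rw [← mul_assoc, hs, one_mul, mul_inv_rev, hs', ht']
  have h2 : ∀ k : ℕ, s * (s * t) ^ k = ((s * t) ^ k)⁻¹ * s := by
    intro k
    rw [← inv_pow, ← h1, conj_pow, inv_mul_cancel_right]
  have h2' : ∀ k : ℕ, s * ((s * t) ^ k)⁻¹ = (s * t) ^ k * s := by
    intro k
    rw [eq_comm, ← inv_mul_eq_iff_eq_mul, hs', ← mul_assoc, h2, mul_assoc, hs, mul_one]
  rcases Nat.even_or_odd' (orderOf (s * t)) with ⟨k, hk | hk⟩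
  · refine ⟨k, Or.inr ?_⟩
    have hpos : 0 < orderOf (s * t) := orderOf_pos _
    have h3 : (s * t) ^ k * (s * t) ^ k = 1 := by rw [← pow_add, ← two_mul, ← hk, pow_orderOf_eq_one]
    have h4 : s * (s * t) ^ k = (s * t) ^ k * s := by rw [h2, inv_eq_of_mul_eq_one_right h3]
    refine ⟨pow_ne_one_of_lt_orderOf (by omega) (by omega), h3, h4, ?_⟩
    have h5 : Commute (s * (s * t)) ((s * t) ^ k) :=
      Commute.mul_left h4 (Commute.self_pow _ _)
    rwa [← mul_assoc, hs, one_mul] at h5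
  · refine ⟨k, Or.inl ?_⟩
    have h3 : (s * t) ^ k * (s * t) ^ k * (s * t) = 1 := by
      rw [← pow_add, ← two_mul, ← pow_succ, ← hk, pow_orderOf_eq_one]
    rw [mul_assoc, h2', ← mul_assoc, eq_inv_of_mul_eq_one_left h3, mul_inv_rev, hs', ht', mul_assoc, hs, mul_one]

/-- In a finite cyclic subgroup, a subgroup contains every element killed by its order. -/
theorem mem_of_pow_card_eq_one [Finite G] {A A₀ : Subgroup G} [IsCyclic A] (hle : A₀ ≤ A) {y : G} (hy : y ∈ A)
    (h : y ^ Nat.card A₀ = 1) : y ∈ A₀ := by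
  classical
  cases nonempty_fintype A
  have h1 := IsCyclic.card_pow_eq_one_le (α := A) (n := Nat.card A₀) Nat.card_pos
  have h2 : (Finset.univ.filter fun a : A => (a : G) ∈ A₀) ⊆ Finset.univ.filter fun a : A => a ^ Nat.card A₀ = 1 := by
    intro a ha
    simp only [Finset.mem_filter, Finset.mem_univ, true_and] at ha ⊢
    apply Subtype.ext
    have := pow_card_eq_one' (G := A₀) (x := ⟨a, ha⟩)
    have h' : (a : G) ^ Nat.card A₀ = 1 := congrArg Subtype.val this
    exact h'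
  have h3 : (Finset.univ.filter fun a : A => (a : G) ∈ A₀).card = Nat.card A₀ := by
    rw [← Nat.card_congr (Subgroup.subgroupOfEquivOfLe hle).toEquiv, Nat.card_eq_fintype_card, Fintype.card_subtype]
    rfl
  have h4 := Finset.eq_of_subset_of_card_le h2 (by rw [h3]; exact h1)
  have h5 : (⟨y, hy⟩ : A) ∈ Finset.univ.filter fun a : A => a ^ Nat.card A₀ = 1 := by
    simp only [Finset.mem_filter, Finset.mem_univ, true_and]
    exact Subtype.ext h
  rw [← h4] at h5
  simpa using h5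

theorem normalizer_le_of_isCyclic [Finite G] {A A₀ : Subgroup G} [IsCyclic A] (hle : A₀ ≤ A) :
    Subgroup.normalizer (A : Set G) ≤ Subgroup.normalizer (A₀ : Set G) := by
  intro g hg
  apply Subgroup.mem_normalizer_fintype
  intro x hx
  refine mem_of_pow_card_eq_one hle ((Subgroup.mem_normalizer_iff.mp hg x).mp (hle hx)) ?_
  have := pow_card_eq_one' (G := A₀) (x := ⟨x, hx⟩)
  have h' : x ^ Nat.card A₀ = 1 := congrArg Subtype.val this
  rw [conj_pow, h']; simp

/-- The set of conjugates of elements of a set. -/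
def conjSet (S : Set G) : Set G := {y | ∃ g, ∃ s ∈ S, y = g * s * g⁻¹}

/-- Counting the conjugates of a trivial-intersection subset. -/
theorem ncard_conjSet (S : Set G) (N : Subgroup G) (h1 : ∀ g ∈ N, ∀ s ∈ S, g * s * g⁻¹ ∈ S)
    (h2 : ∀ g, ∀ s ∈ S, g * s * g⁻¹ ∈ S → g ∈ N) : (conjSet S).ncard = N.index * S.ncard := by
  rw [Subgroup.index, ← Nat.card_coe_set_eq, ← Nat.card_coe_set_eq, ← Nat.card_prod]
  symm
  refine Nat.card_congr (Equiv.ofBijective
    (fun p => (⟨p.1.out * p.2 * p.1.out⁻¹, p.1.out, p.2, p.2.2, rfl⟩ : conjSet S)) ⟨?_, ?_⟩)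
  · rintro ⟨c, s⟩ ⟨c', s'⟩ e
    have e' : c.out * s * c.out⁻¹ = c'.out * s' * c'.out⁻¹ := congrArg Subtype.val e
    have h3 : c'.out⁻¹ * c.out ∈ N := by
      apply h2 _ s s.2
      have : c'.out⁻¹ * c.out * s * (c'.out⁻¹ * c.out)⁻¹ = s' := by
        calc _ = c'.out⁻¹ * (c.out * s * c.out⁻¹) * c'.out := by simp [mul_assoc]
          _ = _ := by rw [e']; simp [mul_assoc]
      rw [this]; exact s'.2
    have h4 : c' = c := by
      rw [← c.out_eq', ← c'.out_eq']
      exact QuotientGroup.eq.mpr h3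
    subst h4
    exact Prod.ext rfl (Subtype.ext (by simpa using e'))
  · rintro ⟨_, g, s, hs, rfl⟩
    obtain ⟨h, hh⟩ := QuotientGroup.mk_out_eq_mul N g
    refine ⟨((g : G ⧸ N), ⟨(h : G)⁻¹ * s * (h : G)⁻¹⁻¹, h1 _ (inv_mem h.2) s hs⟩), Subtype.ext ?_⟩
    show (g : G ⧸ N).out * ((h : G)⁻¹ * s * (h : G)⁻¹⁻¹) * (g : G ⧸ N).out⁻¹ = g * s * g⁻¹
    rw [hh]; simp [mul_assoc]

/-- An element whose order is divisible by a prime has a power of that order. -/
theorem exists_pow_orderOf_eq_prime [Finite G] {g : G} {p : ℕ} (hp : p ∣ orderOf g) :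
    ∃ k : ℕ, orderOf (g ^ k) = p :=
  ⟨orderOf g / p, orderOf_pow_orderOf_div (orderOf_pos g).ne' hp⟩

end Cfsg.Agent.H9
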