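import Cfsg.Agent.H9.Ree7c

/-!
The embedding of PSL₂ into the small Ree group, and an element of order three, as 7 × 7 matrices.
-/

set_option autoImplicit false
set_option linter.unusedSectionVars false
set_option linter.unusedSimpArgs false

namespace Cfsg.Agent.H9.Ree

open Matrix

variable {K : Type*} [Field K]

def Phi (p q r s P Q R S : K) : Matrix (Fin 7) (Fin 7) K :=
  !![P*p, 0, -P*q, 0, -Q*p, 0, -Q*q;
    0, p^2, 0, p*q, 0, -q^2, 0;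
    -P*r, 0, P*s, 0, Q*r, 0, Q*s;
    0, -p*r, 0, p*s + q*r, 0, q*s, 0;
    -R*p, 0, R*q, 0, S*p, 0, S*q;
    0, -r^2, 0, -r*s, 0, s^2, 0;
    -R*r, 0, R*s, 0, S*r, 0, S*s]

def Tm : Matrix (Fin 7) (Fin 7) K :=
  !![-1, -1, 1, -1, -1, -1, 1;
    1, -1, 0, 0, 0, 1, 1;
    -1, 1, -1, -1, 1, 1, 1;
    0, 0, -1, 0, -1, 0, 0;
    -1, -1, -1, 1, 1, -1, 1;
    1, 1, 0, 0, 0, -1, 1;
    -1, 1, 1, 1, -1, 1, 1]

def Tm' : Matrix (Fin 7) (Fin 7) K :=
  !![1, 1, 1, 0, 1, 1, 1;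
    1, -1, -1, 0, 1, 1, -1;
    -1, 0, 1, 1, 1, 0, -1;
    -1, 0, -1, 0, 1, 0, 1;
    1, 0, -1, 1, -1, 0, 1;
    1, 1, -1, 0, 1, -1, -1;
    -1, 1, -1, 0, -1, 1, -1]

def Am : Matrix (Fin 7) (Fin 7) K := Dg (-1) 1 (-1) 1 (-1) 1 (-1)

def Jm : Matrix (Fin 7) (Fin 7) K := Phi 1 1 1 (-1) 1 1 1 (-1)

variable [CharP K 3]

theorem Phi_mul (p q r s P Q R S p' q' r' s' P' Q' R' S' : K) :
    Phi p q r s P Q R S * Phi p' q' r' s' P' Q' R' S' =
      Phi (p * p' + q * r') (p * q' + q * s') (r * p' + s * r') (r * q' + s * s')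
        (P * P' + Q * R') (P * Q' + Q * S') (R * P' + S * R') (R * Q' + S * S') := by
  simp only [Phi, mul7]
  apply mat7_congr <;> grobner

theorem Phi_one : Phi (1 : K) 0 0 1 1 0 0 1 = 1 := by
  simp only [Phi, one7]
  apply mat7_congr <;> grobner

theorem rel_Phi (p q r s P Q R S : K) (h : p * s - q * r = 1) (h' : P * S - Q * R = 1) :
    Rel (Phi p q r s P Q R S) (Phi P Q R S (p ^ 3) (q ^ 3) (r ^ 3) (s ^ 3)) := by
  refine ⟨fun v w => ?_, fun v w hvw => ?_⟩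
  · simp only [Phi, cross, mulVec7, v7_0, v7_1, v7_2, v7_3, v7_4, v7_5, v7_6]
    apply vec7_congr <;> grobner
  · obtain ⟨h0, h1, h2, h3, h4, h5, h6⟩ := cross_eq_zero hvw
    simp only [Phi, piw, mulVec7, v7_0, v7_1, v7_2, v7_3, v7_4, v7_5, v7_6]
    apply vec7_congr <;> grobner

theorem rel_Tm : Rel (Tm : Matrix (Fin 7) (Fin 7) K) Tm := by
  refine ⟨fun v w => ?_, fun v w hvw => ?_⟩
  · simp only [Tm, cross, mulVec7, v7_0, v7_1, v7_2, v7_3, v7_4, v7_5, v7_6]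
    apply vec7_congr <;> grobner
  · obtain ⟨h0, h1, h2, h3, h4, h5, h6⟩ := cross_eq_zero hvw
    simp only [Tm, piw, mulVec7, v7_0, v7_1, v7_2, v7_3, v7_4, v7_5, v7_6]
    apply vec7_congr <;> grobner

theorem Tm_mul_Tm' : (Tm : Matrix (Fin 7) (Fin 7) K) * Tm' = 1 := by
  simp only [Tm, Tm', mul7, one7]
  apply mat7_congr <;> grobner

theorem Tm_Am : (Tm : Matrix (Fin 7) (Fin 7) K) * Am = Nm * Tm := by
  simp only [Tm, Am, Dg, Nm, mul7]
  apply mat7_congr <;> grobner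

theorem Tm_Nm : (Tm : Matrix (Fin 7) (Fin 7) K) * Nm = Am * Nm * Tm := by
  simp only [Tm, Am, Dg, Nm, mul7]
  apply mat7_congr <;> grobner

theorem Tm_Jm : (Tm : Matrix (Fin 7) (Fin 7) K) * Jm = Nm * Jm * Tm := by
  simp only [Tm, Jm, Phi, Nm, mul7]
  apply mat7_congr <;> grobner

theorem Phi_i : Phi (0 : K) (-1) 1 0 0 (-1) 1 0 = Nm := by
  simp only [Phi, Nm]
  apply mat7_congr <;> grobner

theorem Am_Phi (p q r s P Q R S : K) : Am * Phi p q r s P Q R S = Phi p q r s P Q R S * Am := by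
  simp only [Phi, Am, Dg, mul7]
  apply mat7_congr <;> grobner

theorem Phi_upper (b B : K) : Phi 1 b 0 1 1 B 0 1 = Xg 0 0 b B 0 0 := by
  simp only [Phi, Xg]
  apply mat7_congr <;> grobner

theorem Phi_diag (p s P S : K) : Phi p 0 0 s P 0 0 S = Dg (P * p) (p ^ 2) (P * s) (p * s) (S * p) (s ^ 2) (S * s) := by
  simp only [Phi, Dg]
  apply mat7_congr <;> grobner

end Cfsg.Agent.H9.Ree
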