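import Cfsg.Agent.H9.ReeFacts1
import Cfsg.Agent.H9.ReePhi

/-!
The centraliser of the involution of the torus in a model of the small Ree group.
-/

set_option autoImplicit false
set_option linter.unusedSectionVars false
set_option linter.unusedSimpArgs false

namespace Cfsg.Agent.H9.Ree
open Matrix MulAction
open scoped MatrixGroups

variable {K : Type*} [Field K]

def sl (p q r s : K) (h : p * s - q * r = 1) : SL(2, K) := ⟨!![p, q; r, s], by rw [det_fin_two_of]; exact h⟩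

theorem sl_det (y : SL(2, K)) : y 0 0 * y 1 1 - y 0 1 * y 1 0 = 1 := by
  have := y.det_coe
  rwa [det_fin_two] at this

theorem sl_ext {y z : SL(2, K)} (h00 : y 0 0 = z 0 0) (h01 : y 0 1 = z 0 1) (h10 : y 1 0 = z 1 0)
    (h11 : y 1 1 = z 1 1) : y = z := by
  ext i j
  fin_cases i <;> fin_cases j <;> assumption

theorem sl_mul_apply (y z : SL(2, K)) (i j : Fin 2) : (y * z) i j = y i 0 * z 0 j + y i 1 * z 1 j := by
  simp [Matrix.SpecialLinearGroup.coe_mul, Matrix.mul_apply, Fin.sum_univ_two]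

@[simp] theorem sl_00 (p q r s : K) (h : p * s - q * r = 1) : sl p q r s h 0 0 = p := rfl
@[simp] theorem sl_01 (p q r s : K) (h : p * s - q * r = 1) : sl p q r s h 0 1 = q := rfl
@[simp] theorem sl_10 (p q r s : K) (h : p * s - q * r = 1) : sl p q r s h 1 0 = r := rfl
@[simp] theorem sl_11 (p q r s : K) (h : p * s - q * r = 1) : sl p q r s h 1 1 = s := rfl

theorem sl_one_00 : (1 : SL(2, K)) 0 0 = 1 := rfl
theorem sl_one_01 : (1 : SL(2, K)) 0 1 = 0 := rfl
theorem sl_one_10 : (1 : SL(2, K)) 1 0 = 0 := rfl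
theorem sl_one_11 : (1 : SL(2, K)) 1 1 = 1 := rfl

theorem mem_center_iff' (y : SL(2, K)) : y ∈ Subgroup.center SL(2, K) ↔
    y 0 1 = 0 ∧ y 1 0 = 0 ∧ y 0 0 = y 1 1 := by
  rw [Matrix.SpecialLinearGroup.mem_center_iff]
  constructor
  · rintro ⟨r, -, h⟩
    have h00 := congrFun (congrFun h 0) 0
    have h01 := congrFun (congrFun h 0) 1
    have h10 := congrFun (congrFun h 1) 0
    have h11 := congrFun (congrFun h 1) 1
    simp at h00 h01 h10 h11
    exact ⟨h01.symm, h10.symm, h00.symm.trans h11⟩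
  · rintro ⟨h1, h2, h3⟩
    have := sl_det y
    refine ⟨y 0 0, ?_, ?_⟩
    · simp only [Fintype.card_fin]
      rw [h1, ← h3] at this
      linear_combination this
    · ext i j
      fin_cases i <;> fin_cases j <;> simp [h1, h2, h3]

variable [TwF K] [CharP K 3] {G : Type*} [Group G]

local notation "σ" => TwF.s (K := K)

def PhiS (y : SL(2, K)) : Matrix (Fin 7) (Fin 7) K :=
  Phi (y 0 0) (y 0 1) (y 1 0) (y 1 1) (σ (y 0 0)) (σ (y 0 1)) (σ (y 1 0)) (σ (y 1 1))

theorem PhiS_mul (y z : SL(2, K)) : PhiS (y * z) = PhiS y * PhiS z := by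
  simp only [PhiS, Phi_mul, sl_mul_apply, map_add, map_mul]

theorem PhiS_one : PhiS (1 : SL(2, K)) = 1 := by
  simp only [PhiS, sl_one_00, sl_one_01, sl_one_10, sl_one_11, map_zero, map_one, Phi_one]

theorem isRee_PhiS (y : SL(2, K)) : IsRee (PhiS y) := by
  unfold IsRee
  have h := sl_det y
  have h' : σ (y 0 0) * σ (y 1 1) - σ (y 0 1) * σ (y 1 0) = 1 := by
    rw [← map_mul, ← map_mul, ← map_sub, h, map_one]
  have : (PhiS y).map σ = Phi (σ (y 0 0)) (σ (y 0 1)) (σ (y 1 0)) (σ (y 1 1))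
      (y 0 0 ^ 3) (y 0 1 ^ 3) (y 1 0 ^ 3) (y 1 1 ^ 3) := by
    simp only [PhiS, Phi, map7, map_zero, map_mul, map_neg, map_add, map_pow, TwF.ss]
  rw [this]
  exact rel_Phi _ _ _ _ _ _ _ _ h h'

theorem isRee_Tm : IsRee (Tm : Matrix (Fin 7) (Fin 7) K) := by
  unfold IsRee
  have : (Tm : Matrix (Fin 7) (Fin 7) K).map σ = Tm := by
    simp only [Tm, map7, map_zero, map_neg, map_one]
  rw [this]
  exact rel_Tm

theorem Hm_neg_one : Hm (-1 : K) = Am := by
  simp [Hm, Am]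

def slI : SL(2, K) := sl 0 (-1) 1 0 (by ring)
def slJ : SL(2, K) := sl 1 1 1 (-1) (by grobner)
def slW : SL(2, K) := sl 0 1 (-1) (-1) (by ring)

namespace Model

variable (M : Model K G)

theorem exists_φ (y : SL(2, K)) : ∃ g, M.ρ g = PhiS y :=
  M.surj _ (PhiS y⁻¹) (by rw [← PhiS_mul, mul_inv_cancel, PhiS_one]) (isRee_PhiS y)

noncomputable def φ : SL(2, K) →* G where
  toFun y := (M.exists_φ y).choose
  map_one' := M.inj (by rw [(M.exists_φ 1).choose_spec, map_one, PhiS_one])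
  map_mul' y z := M.inj (by
    rw [map_mul, (M.exists_φ _).choose_spec, (M.exists_φ _).choose_spec, (M.exists_φ _).choose_spec, PhiS_mul])

theorem ρ_φ (y : SL(2, K)) : M.ρ (M.φ y) = PhiS y := (M.exists_φ y).choose_spec

theorem ρ_a : M.ρ M.a = Am := by rw [Model.a, ρ_h, ← Hm_neg_one]; simp

noncomputable def τ : G := (M.surj _ _ Tm_mul_Tm' isRee_Tm).choose

theorem ρ_τ : M.ρ M.τ = Tm := (M.surj _ _ Tm_mul_Tm' isRee_Tm).choose_spec

noncomputable def j : G := M.φ slJ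

theorem ρ_j : M.ρ M.j = Jm := by
  rw [Model.j, ρ_φ]
  simp [PhiS, slJ, Jm]

theorem φ_slI : M.φ slI = M.n := M.inj (by
  rw [ρ_φ, ρ_n, ← Phi_i]
  simp [PhiS, slI])

theorem τ_a : M.τ * M.a * M.τ⁻¹ = M.n := by
  rw [mul_inv_eq_iff_eq_mul]
  exact M.inj (by rw [map_mul, map_mul, ρ_τ, ρ_a, ρ_n, Tm_Am])

theorem τ_n : M.τ * M.n * M.τ⁻¹ = M.a * M.n := by
  rw [mul_inv_eq_iff_eq_mul]
  exact M.inj (by rw [map_mul, map_mul, map_mul, ρ_τ, ρ_a, ρ_n, Tm_Nm])

theorem τ_j : M.τ * M.j * M.τ⁻¹ = M.n * M.j := by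
  rw [mul_inv_eq_iff_eq_mul]
  exact M.inj (by rw [map_mul, map_mul, map_mul, ρ_τ, ρ_j, ρ_n, Tm_Jm])

theorem a_φ (y : SL(2, K)) : M.a * M.φ y = M.φ y * M.a :=
  M.inj (by rw [map_mul, map_mul, ρ_a, ρ_φ, PhiS, Am_Phi])

theorem φ_eq_one_iff {y : SL(2, K)} : M.φ y = 1 ↔ y ∈ Subgroup.center SL(2, K) := by
  rw [mem_center_iff']
  have hd := sl_det y
  constructor
  · intro h
    have h1 := congrArg M.ρ h
    rw [ρ_φ, map_one] at h1
    have e15 := congrFun (congrFun h1 1) 5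
    have e51 := congrFun (congrFun h1 5) 1
    have e11 := congrFun (congrFun h1 1) 1
    simp [PhiS, Phi] at e15 e51 e11
    refine ⟨e15, e51, ?_⟩
    rw [e15, zero_mul, sub_zero] at hd
    rcases e11 with e | e <;> rw [e] at hd ⊢ <;> grobner
  · rintro ⟨h1, h2, h3⟩
    apply M.inj
    rw [h1, zero_mul, sub_zero, ← h3] at hd
    rw [ρ_φ, map_one, PhiS, h1, h2, ← h3, map_zero, Phi_diag, one7]
    have : σ (y 0 0) * y 0 0 = 1 := by
      rcases mul_self_eq_one_iff.mp hd with e | e <;> rw [e] <;> simp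
    simp only [Dg, this, sq, hd]

theorem φ_ne_a (y : SL(2, K)) : M.φ y ≠ M.a := by
  intro h
  have h1 := congrArg M.ρ h
  rw [ρ_φ, ρ_a] at h1
  have e00 := congrFun (congrFun h1 0) 0
  have e11 := congrFun (congrFun h1 1) 1
  simp [PhiS, Phi, Am, Dg] at e00 e11
  rcases e11 with e | e <;> rw [e] at e00 <;> simp at e00 <;> grobner

theorem x0b0_eq_φ (b : K) : M.x 0 b 0 = M.φ (sl 1 b 0 1 (by ring)) := M.inj (by
  rw [ρ_φ, ρ_x]
  simp [PhiS, Xm, Phi_upper])

theorem h_sq_eq_φ (c : Kˣ) : ∃ y, M.h (c ^ 2) = M.φ y := by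
  have hc := c.ne_zero
  have hs := s_ne_zero hc
  refine ⟨sl (σ c * (c : K)⁻¹) 0 0 (c * (σ c)⁻¹) (by field_simp; ring), M.inj ?_⟩
  rw [ρ_φ, ρ_h]
  simp only [PhiS, sl_00, sl_01, sl_10, sl_11, map_zero, Phi_diag, Hm, map_mul, map_inv₀, TwF.ss, Units.val_pow_eq_pow_val,
    map_pow]
  congr 1 <;> field_simp

theorem h_eq_φ [Finite K] (k : Kˣ) : ∃ y, M.h k = M.φ y ∨ M.h k = M.a * M.φ y := by
  rcases sq_or_neg_sq (k : K) with ⟨c, hc⟩ | ⟨c, hc⟩
  · have hc0 : c ≠ 0 := by rintro rfl; exact k.ne_zero (by simpa using hc)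
    obtain ⟨y, hy⟩ := M.h_sq_eq_φ (Units.mk0 c hc0)
    exact ⟨y, Or.inl (by rw [← hy]; congr 1; exact Units.ext hc)⟩
  · have hc0 : c ≠ 0 := by rintro rfl; exact k.ne_zero (by simpa using hc)
    obtain ⟨y, hy⟩ := M.h_sq_eq_φ (Units.mk0 c hc0)
    refine ⟨y, Or.inr ?_⟩
    rw [← hy, Model.a, ← map_mul]
    congr 1
    apply Units.ext
    simpa using hc

theorem a_comm_n : M.a * M.n = M.n * M.a := by rw [← M.φ_slI, a_φ]

theorem a_comm_h (k : Kˣ) : M.a * M.h k = M.h k * M.a := M.R.H_comm M.a_mem (M.h_mem k)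

theorem comm_a_of_mem_B [Finite K] {g : G} (hg : g ∈ M.B) (h : M.a * g = g * M.a) :
    ∃ y, g = M.φ y ∨ g = M.a * M.φ y := by
  obtain ⟨_, ⟨a, b, c, rfl⟩, _, ⟨k, rfl⟩, rfl⟩ := M.mem_B_iff.mp hg
  rw [mul_assoc, ← a_comm_h, ← mul_assoc, ← mul_assoc, mul_left_inj, a_comm_x_iff] at h
  obtain ⟨rfl, rfl⟩ := h
  obtain ⟨y, hy | hy⟩ := M.h_eq_φ k
  · exact ⟨_, Or.inl (by rw [hy, x0b0_eq_φ, ← map_mul])⟩
  · exact ⟨_, Or.inr (by rw [hy, x0b0_eq_φ, ← mul_assoc, ← a_φ, mul_assoc, ← map_mul])⟩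

/-- The centraliser of the involution `a`. -/
theorem comm_a_iff [Finite K] {g : G} : M.a * g = g * M.a ↔ ∃ y, g = M.φ y ∨ g = M.a * M.φ y := by
  constructor
  · intro h
    by_cases hg : g ∈ M.B
    · exact M.comm_a_of_mem_B hg h
    · have h1 : g • M.R.inf ≠ M.R.inf := fun e => hg (M.R.smul_inf_eq_iff.mp e)
      obtain ⟨u, hu, e⟩ := M.R.exists_U h1
      have h2 : M.a • u • M.R.zero = u • M.R.zero := by
        rw [e, ← mul_smul, h, mul_smul, M.R.H_smul_inf M.a_mem]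
      have h3 := (M.R.H_fix_iff M.a_mem hu).mp h2
      have h4 : M.n * u⁻¹ * g ∈ M.B := by
        rw [← R_B, ← M.R.smul_inf_eq_iff, mul_smul, mul_smul, ← e, inv_smul_smul]
        exact M.R.n_smul_zero
      have h5 : M.a * (M.n * u⁻¹ * g) = (M.n * u⁻¹ * g) * M.a := by
        have : Commute M.a (M.n * u⁻¹ * g) :=
          ((show Commute M.a M.n from M.a_comm_n).mul_right (show Commute M.a u from h3).inv_right).mul_right h
        exact this
      obtain ⟨y, hy⟩ := M.comm_a_of_mem_B h4 h5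
      obtain ⟨a, b, c, rfl⟩ := hu
      obtain ⟨rfl, rfl⟩ := M.a_comm_x_iff.mp h3
      have h6 : g = M.x 0 b 0 * M.n * (M.n * (M.x 0 b 0)⁻¹ * g) := by
        rw [mul_assoc, ← mul_assoc M.n, ← mul_assoc M.n, M.n_sq]; simp
      rcases hy with hy | hy
      · exact ⟨_, Or.inl (by rw [h6, hy, x0b0_eq_φ, ← φ_slI, ← map_mul, ← map_mul])⟩
      · exact ⟨_, Or.inr (by rw [h6, hy, x0b0_eq_φ, ← φ_slI, ← map_mul, ← mul_assoc, ← a_φ, mul_assoc, ← map_mul])⟩
  · rintro ⟨y, rfl | rfl⟩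
    · exact M.a_φ y
    · rw [mul_assoc, ← a_φ]

theorem centralizer_a_equiv [Finite K] : Nonempty (↥(Subgroup.centralizer {M.a}) ≃*
    Multiplicative (ZMod 2) × Matrix.ProjectiveSpecialLinearGroup (Fin 2) K) := by
  classical
  have : Fact (Nat.Prime 2) := ⟨Nat.prime_two⟩
  have : Finite G := M.finite
  let e : Multiplicative (ZMod 2) ≃* Subgroup.zpowers M.a :=
    mulEquivOfPrimeCardEq (p := 2) (by simp) (by rw [Nat.card_zpowers, M.orderOf_a])
  let f : Multiplicative (ZMod 2) →* G := (Subgroup.zpowers M.a).subtype.comp e.toMonoidHom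
  let g : Matrix.ProjectiveSpecialLinearGroup (Fin 2) K →* G :=
    QuotientGroup.lift _ M.φ (fun y hy => M.φ_eq_one_iff.mpr hy)
  have hf : f.range = Subgroup.zpowers M.a := by
    have he : e.toMonoidHom.range = ⊤ := MonoidHom.range_eq_top.mpr e.surjective
    simp only [f, MonoidHom.range_comp, he]
    rw [← MonoidHom.range_eq_map, Subgroup.range_subtype]
  have hg : g.range = M.φ.range := by
    ext z
    constructor
    · rintro ⟨y, rfl⟩
      obtain ⟨y, rfl⟩ := QuotientGroup.mk_surjective y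
      exact ⟨y, rfl⟩
    · rintro ⟨y, rfl⟩
      exact ⟨(y : SL(2, K) ⧸ Subgroup.center SL(2, K)), rfl⟩
  have hz : ∀ z ∈ Subgroup.zpowers M.a, z = 1 ∨ z = M.a := by
    intro z hz
    rw [mem_zpowers_iff_mem_range_orderOf, M.orderOf_a] at hz
    simp only [Finset.mem_image, Finset.mem_range] at hz
    obtain ⟨i, hi, rfl⟩ := hz
    interval_cases i <;> simp
  have comm : ∀ s t, Commute (f s) (g t) := by
    intro s t
    obtain ⟨y, rfl⟩ := QuotientGroup.mk_surjective t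
    rcases hz (f s) (hf ▸ ⟨s, rfl⟩) with h | h <;> rw [h]
    · exact Commute.one_left _
    · exact M.a_φ y
  have hinj : Function.Injective (f.noncommCoprod g comm) := by
    rw [MonoidHom.noncommCoprod_injective]
    refine ⟨(Subgroup.zpowers M.a).subtype_injective.comp e.injective, ?_, ?_⟩
    · rw [injective_iff_map_eq_one]
      intro t ht
      obtain ⟨y, rfl⟩ := QuotientGroup.mk_surjective t
      exact (QuotientGroup.eq_one_iff y).mpr (M.φ_eq_one_iff.mp ht)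
    · rw [hf, hg, Subgroup.disjoint_def]
      rintro z hz1 ⟨y, rfl⟩
      exact (hz _ hz1).resolve_right (M.φ_ne_a y)
  have hr : (f.noncommCoprod g comm).range = Subgroup.centralizer {M.a} := by
    rw [MonoidHom.noncommCoprod_range, hf, hg]
    apply le_antisymm
    · apply sup_le
      · rw [Subgroup.zpowers_le, Subgroup.mem_centralizer_singleton_iff]
      · rintro _ ⟨y, rfl⟩
        rw [Subgroup.mem_centralizer_singleton_iff, a_φ]
    · intro z hz
      rw [Subgroup.mem_centralizer_singleton_iff] at hz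
      obtain ⟨y, rfl | rfl⟩ := M.comm_a_iff.mp hz.symm
      · exact Subgroup.mem_sup_right ⟨y, rfl⟩
      · exact mul_mem (Subgroup.mem_sup_left (Subgroup.mem_zpowers _)) (Subgroup.mem_sup_right ⟨y, rfl⟩)
  exact ⟨((MonoidHom.ofInjective hinj).trans (MulEquiv.subgroupCongr hr)).symm⟩

end Model

end Cfsg.Agent.H9.Ree
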