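import Cfsg.Agent.H9.ReeTwoB
import Cfsg.Agent.H9.PpdLin

/-!
Centralisers of elements of prime order and the classification of the elements of a model of the small Ree group.
-/

set_option autoImplicit false
set_option linter.unusedSectionVars false
set_option linter.unusedSimpArgs false

namespace Cfsg.Agent.H9.Ree
open Matrix MulAction
open scoped MatrixGroups

/-- The value `q² - q + 1`. -/
def tq (q : ℕ) : ℕ := q ^ 2 - q + 1

/-- The complementary factor `q³ (q - 1) (q + 1)`. -/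
def mq (q : ℕ) : ℕ := q ^ 3 * (q - 1) * (q + 1)

theorem tq_succ (s : ℕ) : tq (s + 1) = s ^ 2 + s + 1 := by
  unfold tq
  rw [show (s + 1) ^ 2 = s ^ 2 + s + (s + 1) by ring, Nat.add_sub_cancel]

theorem cube_add_one {q : ℕ} (hq : 0 < q) : q ^ 3 + 1 = (q + 1) * tq q := by
  obtain ⟨s, rfl⟩ : ∃ s, q = s + 1 := ⟨q - 1, by omega⟩
  rw [tq_succ]; ring

theorem coprime_tq_mq {q : ℕ} (hq : 0 < q) (h3 : 3 ∣ q) : Nat.Coprime (tq q) (mq q) := by
  obtain ⟨s, rfl⟩ := h3
  obtain ⟨s, rfl⟩ : ∃ u, s = u + 1 := ⟨s - 1, by omega⟩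
  rw [mq, show 3 * (s + 1) = (3 * s + 2) + 1 by ring, tq_succ, Nat.add_sub_cancel]
  refine Nat.Coprime.mul_right (Nat.Coprime.mul_right (Nat.Coprime.pow_right _ ?_) ?_) ?_ <;>
    rw [← Nat.isCoprime_iff_coprime]
  · exact ⟨1, -(3 * s + 2), by push_cast; ring⟩
  · exact ⟨1, -(3 * s + 3), by push_cast; ring⟩
  · exact ⟨-(s + 1), 3 * s ^ 2 + 4 * s + 2, by push_cast; ring⟩

theorem odd_tq {q : ℕ} (hq : 0 < q) : Odd (tq q) := by
  obtain ⟨s, rfl⟩ : ∃ s, q = s + 1 := ⟨q - 1, by omega⟩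
  rw [tq_succ, sq, ← Nat.mul_succ]
  exact (Nat.even_mul_succ_self s).add_one

theorem not_three_dvd_tq {q : ℕ} (hq : 0 < q) (h3 : 3 ∣ q) : ¬ 3 ∣ tq q := by
  intro h
  have h1 : 3 ∣ mq q := (h3.trans (dvd_pow_self q three_ne_zero)).trans ⟨(q - 1) * (q + 1), by rw [mq, mul_assoc]⟩
  exact absurd (Nat.eq_one_of_dvd_coprimes (coprime_tq_mq hq h3) h h1) (by norm_num)

theorem six_dvd_of_modEq {q p : ℕ} (hq : 0 < q) (h3 : 3 ∣ q) [hp : Fact p.Prime] (hpt : p ∣ tq q) (a b : ℕ)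
    (hab : b ≤ a) (h : q ^ a ≡ q ^ b [MOD p]) : 6 ∣ a - b := by
  have h1 : ((q : ZMod p)) ^ 2 - q + 1 = 0 := by
    have := (ZMod.natCast_eq_zero_iff _ p).mpr hpt
    rw [tq, Nat.cast_add, Nat.cast_sub (by nlinarith)] at this
    simpa using this
  have h2 : (2 : ZMod p) ≠ 0 := by
    intro h
    have := (ZMod.natCast_eq_zero_iff 2 p).mp (by simpa using h)
    rw [Nat.prime_dvd_prime_iff_eq hp.out Nat.prime_two] at this
    exact (odd_tq hq).not_two_dvd_nat (this ▸ hpt)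
  have h3' : (3 : ZMod p) ≠ 0 := by
    intro h
    have := (ZMod.natCast_eq_zero_iff 3 p).mp (by simpa using h)
    rw [Nat.prime_dvd_prime_iff_eq hp.out Nat.prime_three] at this
    exact not_three_dvd_tq hq h3 (this ▸ hpt)
  have h0 : (q : ZMod p) ≠ 0 := by
    intro h; rw [h] at h1; simp at h1
  have ho : orderOf (q : ZMod p) = 6 := by
    apply orderOf_eq_of_pow_and_pow_div_prime (by norm_num) (by linear_combination (q ^ 4 + q ^ 3 - q - 1) * h1)
    intro r hr hd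
    have : r = 2 ∨ r = 3 := by
      have := Nat.le_of_dvd (by norm_num) hd
      interval_cases r <;> first | omega | exact absurd hr (by norm_num)
    rcases this with rfl | rfl
    · intro h
      apply h2
      have h' : (q : ZMod p) ^ 3 = 1 := h
      linear_combination (q + 1) * h1 - h'
    · intro h
      apply h3'
      have h' : (q : ZMod p) ^ 2 = 1 := h
      linear_combination (q + 2) * h1 - (q + 1) * h'
  rw [← ho, orderOf_dvd_iff_pow_eq_one]
  have h4 : (q : ZMod p) ^ a = (q : ZMod p) ^ b := by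
    have := (ZMod.natCast_eq_natCast_iff _ _ _).mpr h
    simpa using this
  obtain ⟨c, rfl⟩ := Nat.exists_eq_add_of_le hab
  rw [Nat.add_sub_cancel_left]
  rw [pow_add] at h4
  exact mul_left_cancel₀ (pow_ne_zero b h0) (h4.trans (mul_one _).symm)

theorem isCyclic_of_conj_le {G : Type*} [Group G] {P A : Subgroup G} [IsCyclic A] {c : G}
    (h : ∀ x ∈ P, c⁻¹ * x * c ∈ A) : IsCyclic P := by
  let f : P →* A :=
    { toFun := fun x => ⟨c⁻¹ * x * c, h x x.2⟩
      map_one' := by ext; simp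
      map_mul' := fun x y => by ext; simp [mul_assoc] }
  refine isCyclic_of_injective f fun x y e => Subtype.ext ?_
  have : c⁻¹ * x * c = c⁻¹ * y * c := congrArg Subtype.val e
  simpa using this

theorem pow_eq_one_of_conj {G : Type*} [Group G] {c y : G} {k : ℕ} (h : (c⁻¹ * y * c) ^ k = 1) : y ^ k = 1 := by
  have : c⁻¹ * y * c = c⁻¹ * y * c⁻¹⁻¹ := by rw [inv_inv]
  rw [this, conj_pow] at h
  by_contra h'
  exact conj_ne_one _ h' h

theorem conj_comm' {G : Type*} [Group G] {x y : G} (c : G) (h : x * y = y * x) :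
    (c⁻¹ * x * c) * (c⁻¹ * y * c) = (c⁻¹ * y * c) * (c⁻¹ * x * c) := by
  simpa using conj_comm c⁻¹ h

theorem conj_ne_one' {G : Type*} [Group G] {x : G} (c : G) (h : x ≠ 1) : c⁻¹ * x * c ≠ 1 := by
  simpa using conj_ne_one c⁻¹ h

theorem pow_card_of_mem {G : Type*} [Group G] {P : Subgroup G} {x : G} (h : x ∈ P) : x ^ Nat.card P = 1 :=
  congrArg Subtype.val (pow_card_eq_one' (G := P) (x := ⟨x, h⟩))

variable {K : Type*} [Field K] [TwF K] [CharP K 3] {G : Type*} [Group G]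

local notation "σ" => TwF.s (K := K)

namespace Model

variable (M : Model K G)

/-- The stabiliser of the pair of points. -/
noncomputable def N : Subgroup G := adj M.H M.n (by rw [M.n_sq]; exact one_mem _) (by
  intro x hx
  rw [M.n_inv]
  exact (M.R.n_conj x hx) ▸ inv_mem hx)

theorem card_N : Nat.card M.N = 2 * (Nat.card K - 1) := by
  rw [N, card_adj, card_H]
  exact fun h => M.R.n_not_mem (M.R.H_le_B h)

theorem conj_of_mem_N {g h : G} (hg : g ∈ M.N) (hh : h ∈ M.H) : g * h * g⁻¹ = h ∨ g * h * g⁻¹ = h⁻¹ := by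
  rcases hg with hg | hg
  · left
    rw [M.R.H_comm hg hh, mul_inv_cancel_right]
  · right
    have h1 := M.R.n_conj h hh
    rw [R_n] at h1
    have : g * h * g⁻¹ = (g * M.n) * (M.n * h * M.n) * (g * M.n)⁻¹ := by
      rw [_root_.mul_inv_rev, n_inv]
      calc g * h * g⁻¹ = g * (M.n * M.n) * h * (M.n * M.n) * g⁻¹ := by rw [M.n_sq]; simp
        _ = _ := by simp only [mul_assoc]
    rw [this, h1, M.R.H_comm hg (inv_mem hh), mul_inv_cancel_right]

theorem mem_N_of_conj {g h : G} (hh : h ∈ M.H) (h1 : h ≠ 1) (ha : h ≠ M.a) (hg : g * h * g⁻¹ ∈ M.H) : g ∈ M.N := by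
  have key : ∀ z : M.R.Pt, (g * h * g⁻¹) • z = z → g⁻¹ • z = M.R.inf ∨ g⁻¹ • z = M.R.zero := by
    intro z hz
    by_contra hne
    push Not at hne
    rw [mul_smul, mul_smul, ← eq_inv_smul_iff] at hz
    rcases M.H_fix_three hh hne.1 hne.2 hz with e | e
    · exact h1 e
    · exact ha e
  rw [← inv_mem_iff]
  rcases key _ (M.R.H_smul_inf hg) with e1 | e1 <;> rcases key _ (M.R.H_smul_zero hg) with e2 | e2
  · exact absurd (smul_left_cancel _ (e2.trans e1.symm)) M.R.zero_ne_inf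
  · exact Or.inl (M.R.mem_H_iff.mpr ⟨e1, e2⟩)
  · have h2 := M.R.swap_iff.mp ⟨e1, e2⟩
    refine Or.inr ?_
    have h3 := M.R.n_conj _ h2
    rw [R_n, ← mul_assoc, M.n_sq, one_mul] at h3
    show g⁻¹ * M.n ∈ M.H
    rw [h3]
    exact inv_mem h2
  · exact absurd (smul_left_cancel _ (e2.trans e1.symm)) M.R.zero_ne_inf

variable [Finite K]

theorem card_centralizer_a :
    Nat.card (Subgroup.centralizer {M.a}) = (Nat.card K + 1) * (Nat.card K * (Nat.card K - 1)) := by
  rw [← (stabilizer (Subgroup.centralizer {M.a}) M.R.inf).index_mul_card, index_stabilizer]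
  have hx : ∀ b, M.x 0 b 0 ∈ Subgroup.centralizer {M.a} := fun b =>
    Subgroup.mem_centralizer_singleton_iff.mpr (M.a_comm_x_iff.mpr ⟨rfl, rfl⟩).symm
  have hn : M.n ∈ Subgroup.centralizer {M.a} := Subgroup.mem_centralizer_singleton_iff.mpr M.a_comm_n.symm
  congr 1
  · rw [← Finite.card_option, ← Nat.card_coe_set_eq]
    symm
    refine Nat.card_congr (Equiv.ofBijective (fun o => o.elim ⟨M.R.inf, mem_orbit_self _⟩ fun b =>
      ⟨M.x 0 b 0 • M.R.zero, ⟨M.x 0 b 0 * M.n, mul_mem (hx b) hn⟩, ?_⟩) ⟨?_, ?_⟩)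
    · show (M.x 0 b 0 * M.n) • M.R.inf = _
      rw [mul_smul]; exact congrArg _ M.R.n_smul_inf
    · rintro (_ | b) (_ | b') e
      · rfl
      · exact absurd (congrArg Subtype.val e).symm (M.R.U_smul_zero_ne_inf (M.x_mem ..))
      · exact absurd (congrArg Subtype.val e) (M.R.U_smul_zero_ne_inf (M.x_mem ..))
      · have := M.R.U_smul_zero_inj (M.x_mem 0 b 0) (M.x_mem 0 b' 0) (congrArg Subtype.val e)
        rw [(M.x_inj this).2.1]
    · rintro ⟨_, ⟨g, hg⟩, rfl⟩
      have hg' := Subgroup.mem_centralizer_singleton_iff.mp hg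
      by_cases h : g • M.R.inf = M.R.inf
      · exact ⟨none, Subtype.ext h.symm⟩
      · obtain ⟨u, hu, e⟩ := M.R.exists_U h
        have h2 : M.a • u • M.R.zero = u • M.R.zero := by
          rw [e, ← mul_smul, ← hg', mul_smul, M.R.H_smul_inf M.a_mem]
        have h3 := (M.R.H_fix_iff M.a_mem hu).mp h2
        obtain ⟨a, b, c, rfl⟩ := hu
        obtain ⟨rfl, rfl⟩ := M.a_comm_x_iff.mp h3
        exact ⟨some b, Subtype.ext e⟩
  · rw [← Nat.card_units, ← Nat.card_prod]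
    symm
    refine Nat.card_congr (Equiv.ofBijective (fun p => ⟨⟨M.x 0 p.1 0 * M.h p.2, mul_mem (hx _)
      (Subgroup.mem_centralizer_singleton_iff.mpr (M.a_comm_h _).symm)⟩, ?_⟩) ⟨?_, ?_⟩)
    · show (M.x 0 p.1 0 * M.h p.2) • M.R.inf = _
      rw [mul_smul, M.R.H_smul_inf (M.h_mem _), M.R.U_smul_inf (M.x_mem ..)]
    · rintro ⟨b, k⟩ ⟨b', k'⟩ e
      have e' : M.x 0 b 0 * M.h k = M.x 0 b' 0 * M.h k' := congrArg (fun z => z.1.1) e
      have h1 := congrArg (· • M.R.zero) e'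
      simp only [mul_smul, M.R.H_smul_zero (M.h_mem _)] at h1
      have h2 := M.R.U_smul_zero_inj (M.x_mem 0 b 0) (M.x_mem 0 b' 0) h1
      rw [h2, mul_right_inj] at e'
      rw [(M.x_inj h2).2.1, M.h_inj e']
    · rintro ⟨⟨g, hg⟩, hg2⟩
      have h := (Subgroup.mem_centralizer_singleton_iff.mp hg).symm
      obtain ⟨_, ⟨a, b, c, rfl⟩, _, ⟨k, rfl⟩, rfl⟩ := M.mem_B_iff.mp (M.R.smul_inf_eq_iff.mp hg2)
      rw [mul_assoc, ← a_comm_h, ← mul_assoc, ← mul_assoc, mul_left_inj, a_comm_x_iff] at h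
      obtain ⟨rfl, rfl⟩ := h
      exact ⟨(b, k), rfl⟩

include M in
theorem card_G' : Nat.card G = tq (Nat.card K) * mq (Nat.card K) := by
  rw [M.card_G, cube_add_one Nat.card_pos, mq]; ring

theorem index_H : M.H.index = (Nat.card K ^ 3 + 1) * Nat.card K ^ 3 := by
  have := M.finite
  have h := M.R.index_H
  rwa [R_H, R_U, card_U] at h

variable (hq : Nat.card K % 8 = 3)
include hq

theorem index_A : M.A.index = 4 * (tq (Nat.card K) * (Nat.card K ^ 3 * (Nat.card K - 1))) := by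
  have h := M.A.index_mul_card
  rw [M.card_A hq, M.card_G', mq] at h
  apply Nat.eq_of_mul_eq_mul_right (show 0 < (Nat.card K + 1) / 4 by omega)
  rw [h]
  have : Nat.card K + 1 = 4 * ((Nat.card K + 1) / 4) := by omega
  generalize (Nat.card K + 1) / 4 = r at *
  rw [this]; ring

theorem not_dvd_index_H {l : ℕ} (hl : l.Prime) (h2 : l ≠ 2) (hd : l ∣ Nat.card K - 1) : ¬ l ∣ M.H.index := by
  rw [index_H]
  obtain ⟨s, hs⟩ : ∃ s, Nat.card K = s + 1 := ⟨Nat.card K - 1, by omega⟩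
  rw [hs] at hd ⊢
  rw [Nat.add_sub_cancel] at hd
  intro h
  rcases (Nat.Prime.dvd_mul hl).mp h with h | h
  · rw [show (s + 1) ^ 3 + 1 = s * (s ^ 2 + 3 * s + 3) + 2 by ring] at h
    exact h2 ((Nat.prime_dvd_prime_iff_eq hl Nat.prime_two).mp ((Nat.dvd_add_right (hd.mul_right _)).mp h))
  · exact hl.one_lt.ne' (Nat.dvd_one.mp ((Nat.dvd_add_right hd).mp (hl.dvd_of_dvd_pow h)))

theorem not_dvd_index_A {l : ℕ} (hl : l.Prime) (h2 : l ≠ 2) (hd : l ∣ Nat.card K + 1) : ¬ l ∣ M.A.index := by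
  rw [M.index_A hq]
  have h4 : ¬ l ∣ 4 := fun h =>
    h2 ((Nat.prime_dvd_prime_iff_eq hl Nat.prime_two).mp (hl.dvd_of_dvd_pow (show l ∣ 2 ^ 2 from h)))
  have hr : l ∣ (Nat.card K + 1) / 4 := by
    have : Nat.card K + 1 = 4 * ((Nat.card K + 1) / 4) := by omega
    rw [this] at hd
    exact ((Nat.Prime.dvd_mul hl).mp hd).resolve_left h4
  intro h
  rcases (Nat.Prime.dvd_mul hl).mp h with h | h
  · exact h4 h
  · rcases (Nat.Prime.dvd_mul hl).mp h with h | h
    · exact hl.one_lt.ne' (Nat.eq_one_of_dvd_coprimes (coprime_tq_mq Nat.card_pos three_dvd_card) h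
        (hd.trans (Dvd.intro_left _ rfl)))
    · exact hl.one_lt.ne' (Nat.eq_one_of_dvd_coprimes (coprime_r hq) hr h)

omit hq in
theorem prime_dvd_mq {l : ℕ} (hl : l.Prime) (hd : l ∣ mq (Nat.card K)) :
    l = 2 ∨ l = 3 ∨ (l ≠ 2 ∧ l ∣ Nat.card K - 1) ∨ (l ≠ 2 ∧ l ∣ Nat.card K + 1) := by
  by_cases h2 : l = 2
  · exact Or.inl h2
  rcases (Nat.Prime.dvd_mul hl).mp hd with h | h
  · rcases (Nat.Prime.dvd_mul hl).mp h with h | h
    · right; left
      cases nonempty_fintype K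
      obtain ⟨k, -, hk⟩ := FiniteField.card K 3
      rw [Nat.card_eq_fintype_card, hk] at h
      exact (Nat.prime_dvd_prime_iff_eq hl Nat.prime_three).mp (hl.dvd_of_dvd_pow (hl.dvd_of_dvd_pow h))
    · exact Or.inr (Or.inr (Or.inl ⟨h2, h⟩))
  · exact Or.inr (Or.inr (Or.inr ⟨h2, h⟩))

omit hq in
theorem ne_a_of_prime_order {l : ℕ} (h2 : l ≠ 2) {x : G} (hx : orderOf x = l) (c : G) : c⁻¹ * x * c ≠ M.a := by
  intro h
  have := orderOf_conj' c⁻¹ x
  rw [inv_inv, h, orderOf_a, hx] at this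
  exact h2 this.symm

include M in
theorem pow_mq_of_comm {l : ℕ} (hl : l.Prime) (hd : l ∣ mq (Nat.card K)) {x y : G} (hx : orderOf x = l)
    (h : y * x = x * y) : y ^ mq (Nat.card K) = 1 := by
  have := M.finite
  have : Fact l.Prime := ⟨hl⟩
  have hx1 : x ≠ 1 := by rintro rfl; exact hl.one_lt.ne (by simpa using hx)
  have hxl : x ^ l ^ 1 = 1 := by rw [pow_one, ← hx, pow_orderOf_eq_one]
  have key : ∀ k, k ∣ mq (Nat.card K) → y ^ k = 1 → y ^ mq (Nat.card K) = 1 := by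
    rintro k ⟨j, hj⟩ e
    rw [hj, pow_mul, e, one_pow]
  rcases prime_dvd_mq hl hd with rfl | rfl | ⟨h2, h3⟩ | ⟨h2, h3⟩
  · obtain ⟨c, rfl⟩ := M.conj_a_of_two_elt hq hxl hx1
    have h1 : c⁻¹ * y * c ∈ Subgroup.centralizer {M.a} := by
      rw [Subgroup.mem_centralizer_singleton_iff]
      simpa [mul_assoc] using conj_comm' c h
    refine key _ ?_ (pow_eq_one_of_conj (pow_card_of_mem h1))
    rw [card_centralizer_a, mq]
    exact ⟨Nat.card K ^ 2, by ring⟩
  · exact key _ (Dvd.intro _ rfl) (M.pow_card_B_of_comm_three hx h)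
  · obtain ⟨c, hc⟩ := exists_conj_mem_of_not_dvd_index hxl (M.not_dvd_index_H hq hl h2 h3)
    have h1 := M.mem_N_of_conj (g := c⁻¹ * y * c) hc (conj_ne_one' c hx1) (M.ne_a_of_prime_order h2 hx c)
      (by rw [conj_comm' c h, mul_inv_cancel_right]; exact hc)
    refine key _ ?_ (pow_eq_one_of_conj (pow_card_of_mem h1))
    rw [card_N, mq]
    obtain ⟨s, hs⟩ : ∃ s, Nat.card K + 1 = 2 * s := ⟨(Nat.card K + 1) / 2, by omega⟩
    exact ⟨Nat.card K ^ 3 * s, by rw [hs]; ring⟩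
  · obtain ⟨c, hc⟩ := exists_conj_mem_of_not_dvd_index hxl (M.not_dvd_index_A hq hl h2 h3)
    have h1 := M.mem_Y_of_comm_A hq hc (conj_ne_one' c hx1) (conj_comm' c h)
    refine key _ ?_ (pow_eq_one_of_conj (pow_card_of_mem h1))
    rw [card_Y, mq]
    exact Dvd.intro_left _ rfl

include M in
theorem pow_tq_of_comm {p : ℕ} (hp : p.Prime) (hd : p ∣ tq (Nat.card K)) {y c : G} (hy : orderOf y = p)
    (h : c * y = y * c) : c ^ tq (Nat.card K) = 1 := by
  have := M.finite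
  have hco := coprime_tq_mq (Nat.card_pos (α := K)) three_dvd_card
  have h1 : Nat.Coprime (orderOf c) (mq (Nat.card K)) := by
    apply Nat.coprime_of_dvd
    intro l hl h2 h3
    obtain ⟨k, hk⟩ := exists_pow_orderOf_eq_prime h2
    have h4 := M.pow_mq_of_comm hq hl h3 hk (Commute.pow_right h.symm k)
    have h5 : p ∣ mq (Nat.card K) := hy ▸ orderOf_dvd_of_pow_eq_one h4
    exact hp.one_lt.ne' (Nat.eq_one_of_dvd_coprimes hco hd h5)
  have h2 : orderOf c ∣ tq (Nat.card K) * mq (Nat.card K) := M.card_G' ▸ orderOf_dvd_natCard c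
  exact orderOf_dvd_iff_pow_eq_one.mp (h1.dvd_of_dvd_mul_right h2)

include M in
theorem centralizer_ppd {p : ℕ} (hp : p.Prime) (hd : p ∣ tq (Nat.card K)) {y : G} (hy : orderOf y = p) :
    IsCyclic (Subgroup.centralizer {y}) ∧ {z : G | z * y = y * z ∧ ∃ g : G, g * y * g⁻¹ = z}.ncard ≤ 6 := by
  have := M.finite
  have : Fact p.Prime := ⟨hp⟩
  refine ppd_centralizer (K := K) (V := Fin 7 → K) ((Matrix.toLinAlgEquiv' (R := K) (n := Fin 7)).toMonoidHom.comp M.ρ)
    ((Matrix.toLinAlgEquiv' (R := K) (n := Fin 7)).injective.comp M.inj) (by norm_num) (by simp)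
    (six_dvd_of_modEq Nat.card_pos three_dvd_card hd) hy ?_
  intro c hc h1
  refine eq_one_of_pow_coprime ?_ (M.pow_tq_of_comm hq hp hd hy hc) h1
  exact (coprime_tq_mq (Nat.card_pos (α := K)) three_dvd_card).coprime_dvd_right
    ⟨Nat.card K ^ 3 * (Nat.card K + 1), by rw [mq]; ring⟩

include M in
theorem sylow_cyclic {p : ℕ} [hp : Fact p.Prime] (h3 : 3 < p) (P : Sylow p G) : IsCyclic (P : Subgroup G) := by
  have := M.finite
  by_cases h1 : p ∣ Nat.card K - 1
  · have := M.isCyclic_H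
    obtain ⟨c, hc⟩ := exists_conj_le_of_not_dvd_index P.isPGroup' (M.not_dvd_index_H hq hp.out (by omega) h1)
    exact isCyclic_of_conj_le hc
  by_cases h2 : p ∣ Nat.card K + 1
  · have := M.isCyclic_A
    obtain ⟨c, hc⟩ := exists_conj_le_of_not_dvd_index P.isPGroup' (M.not_dvd_index_A hq hp.out (by omega) h2)
    exact isCyclic_of_conj_le hc
  rcases subsingleton_or_nontrivial (P : Subgroup G) with h | h
  · infer_instance
  have hc := P.isPGroup'.center_nontrivial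
  have hd : p ∣ Nat.card (Subgroup.center (P : Subgroup G)) :=
    ((P.isPGroup'.to_subgroup _).card_eq_or_dvd).resolve_left Finite.one_lt_card.ne'
  obtain ⟨z, hz⟩ := exists_prime_orderOf_dvd_card' p hd
  have hz' : orderOf (z.1.1 : G) = p := by rw [Subgroup.orderOf_coe, Subgroup.orderOf_coe, hz]
  have hpt : p ∣ tq (Nat.card K) := by
    have h4 : p ∣ tq (Nat.card K) * mq (Nat.card K) := M.card_G' ▸ hz' ▸ orderOf_dvd_natCard _
    refine ((Nat.Prime.dvd_mul hp.out).mp h4).resolve_right fun h5 => ?_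
    rcases prime_dvd_mq hp.out h5 with h | h | h | h
    · omega
    · omega
    · exact h1 h.2
    · exact h2 h.2
  have := (M.centralizer_ppd hq hp.out hpt hz').1
  refine isCyclic_of_conj_le (A := Subgroup.centralizer {(z.1.1 : G)}) (c := 1) fun x hx => ?_
  rw [inv_one, one_mul, mul_one, Subgroup.mem_centralizer_singleton_iff]
  exact congrArg Subtype.val (Subgroup.mem_center_iff.mp z.2 ⟨x, hx⟩)

end Model

end Cfsg.Agent.H9.Ree
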