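import Cfsg.Agent.H9.ReeClass

/-!
Counting the elements of a model of the small Ree group by type.
-/

set_option autoImplicit false
set_option linter.unusedSectionVars false
set_option linter.unusedSimpArgs false

namespace Cfsg.Agent.H9.Ree
open Matrix MulAction
open scoped MatrixGroups

theorem conjSet_pow {G : Type*} [Group G] {S : Set G} {k : ℕ} (h : ∀ s ∈ S, s ^ k = 1) {y : G} (hy : y ∈ conjSet S) :
    y ^ k = 1 := by
  obtain ⟨g, s, hs, rfl⟩ := hy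
  rw [conj_pow, h s hs]; simp

theorem conjSet_pow_ne {G : Type*} [Group G] {S : Set G} {k : ℕ} (h : ∀ s ∈ S, s ^ k ≠ 1) {y : G}
    (hy : y ∈ conjSet S) : y ^ k ≠ 1 := by
  obtain ⟨g, s, hs, rfl⟩ := hy
  rw [conj_pow]
  exact conj_ne_one _ (h s hs)

theorem mem_conjSet_of_conj {G : Type*} [Group G] {S : Set G} {y c : G} (h : c⁻¹ * y * c ∈ S) : y ∈ conjSet S :=
  ⟨c, _, h, by simp [mul_assoc]⟩

theorem conjSet_of_conj {G : Type*} [Group G] {S : Set G} {y c : G} (h : c⁻¹ * y * c ∈ conjSet S) :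
    y ∈ conjSet S := by
  obtain ⟨g, s, hs, e⟩ := h
  refine ⟨c * g, s, hs, ?_⟩
  calc y = c * (c⁻¹ * y * c) * c⁻¹ := by simp [mul_assoc]
    _ = _ := by rw [e]; simp [mul_assoc]

variable {K : Type*} [Field K] [TwF K] [CharP K 3] {G : Type*} [Group G]

local notation "σ" => TwF.s (K := K)

namespace Model

variable (M : Model K G)

def SU : Set G := {u | u ∈ M.U ∧ u ≠ 1}
def S6 : Set G := {g | g * M.a ∈ M.U ∧ g * g ≠ 1}
def SH : Set G := {h | h ∈ M.H ∧ h ≠ 1 ∧ h ≠ M.a}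
def SY : Set G := {g | g ∈ M.Y ∧ g ∉ M.V4}
def XT (K : Type*) (G : Type*) [Group G] : Set G := {g | g ≠ 1 ∧ g ^ tq (Nat.card K) = 1}

theorem mem_B_of_conj_U {u c : G} (hu : u ∈ M.U) (hu1 : u ≠ 1) (h : c * u * c⁻¹ ∈ M.U) : c ∈ M.B := by
  have h1 := M.R.U_smul_inf h
  rw [mul_smul, mul_smul, ← eq_inv_smul_iff] at h1
  have h2 := M.R.U_fix hu hu1 h1
  exact inv_mem_iff.mp (M.R.smul_inf_eq_iff.mp h2)

theorem xa_sq (a b c : K) : M.x a b c * M.a * (M.x a b c * M.a) = M.x 0 (-(b - σ a * a)) (a * (b - σ a * a)) := by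
  rw [mul_assoc, ← mul_assoc M.a, a_mul_x, mul_assoc, a_sq, mul_one, x_mul]
  simp only [map_neg]
  congr 1 <;> grobner

theorem mem_S6_iff {g : G} : g ∈ M.S6 ↔ ∃ a b c, b - σ a * a ≠ 0 ∧ g = M.x a b c * M.a := by
  constructor
  · rintro ⟨⟨a, b, c, h⟩, h2⟩
    have : g = M.x a b c * M.a := by rw [← h, mul_assoc, a_sq, mul_one]
    refine ⟨a, b, c, fun h3 => h2 ?_, this⟩
    rw [this, xa_sq, h3, x_eq_one]; simp
  · rintro ⟨a, b, c, h, rfl⟩
    refine ⟨by rw [mul_assoc, a_sq, mul_one]; exact M.x_mem .., ?_⟩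
    rw [xa_sq, Ne, x_eq_one]
    exact fun h' => h (neg_eq_zero.mp h'.2.1)

theorem S6_pow_six {g : G} (hg : g ∈ M.S6) : g ^ 6 = 1 := by
  obtain ⟨a, b, c, -, rfl⟩ := M.mem_S6_iff.mp hg
  rw [show 6 = 2 * 3 from rfl, pow_mul, pow_two, xa_sq, x_cube_eq_one]

theorem S6_pow_nine {g : G} (hg : g ∈ M.S6) [Finite K] : g ^ 9 ≠ 1 := by
  intro h
  have := M.finite
  have : Fact (Nat.Prime 3) := ⟨Nat.prime_three⟩
  have h1 : g ∈ M.B := by
    have := mul_mem (M.R.U_le_B hg.1) (M.R.H_le_B M.a_mem)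
    rwa [mul_assoc, a_sq, mul_one] at this
  have h2 := M.R.mem_U_of_mem_B M.isPGroup_U M.U_ne_bot M.not_three_dvd_card_H h1 (k := 2) h
  have h3 : M.a ∈ M.U := by simpa using mul_mem (inv_mem h2) hg.1
  exact M.a_ne_one (M.R.disj _ h3 M.a_mem)

theorem S6_sq_mem {g : G} (hg : g ∈ M.S6) : g * g ∈ M.U := by
  obtain ⟨a, b, c, -, rfl⟩ := M.mem_S6_iff.mp hg
  rw [xa_sq]; exact M.x_mem ..

variable [Finite K]

theorem ncard_SU : M.SU.ncard = Nat.card K ^ 3 - 1 := by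
  have := M.finite
  have : M.SU = (M.U : Set G) \ {1} := rfl
  rw [this, Set.ncard_sdiff_singleton_of_mem (one_mem M.U), ← Nat.card_coe_set_eq]
  exact congrArg (· - 1) M.card_U

theorem ncard_S6 : M.S6.ncard = Nat.card K * ((Nat.card K - 1) * Nat.card K) := by
  rw [← Nat.card_units, ← Nat.card_prod, ← Nat.card_prod, ← Nat.card_coe_set_eq]
  symm
  refine Nat.card_congr (Equiv.ofBijective (fun p => ⟨M.x p.1 (p.2.1 + σ p.1 * p.1) p.2.2 * M.a,
    M.mem_S6_iff.mpr ⟨_, _, _, by simp, rfl⟩⟩) ⟨?_, ?_⟩)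
  · rintro ⟨a, b, c⟩ ⟨a', b', c'⟩ e
    have e' : M.x a (b + σ a * a) c * M.a = M.x a' (b' + σ a' * a') c' * M.a := congrArg Subtype.val e
    obtain ⟨rfl, h, rfl⟩ := M.x_inj (mul_right_cancel e')
    rw [Units.ext (add_right_cancel h)]
  · rintro ⟨g, hg⟩
    obtain ⟨a, b, c, h, rfl⟩ := M.mem_S6_iff.mp hg
    exact ⟨(a, Units.mk0 _ h, c), Subtype.ext (by simp)⟩

theorem ncard_SH : M.SH.ncard = Nat.card K - 3 := by
  have := M.finite
  have h : M.SH = ((M.H : Set G) \ {1}) \ {M.a} := by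
    ext g; simp [SH, and_assoc]
  rw [h, Set.ncard_sdiff_singleton_of_mem (show M.a ∈ (M.H : Set G) \ {1} from ⟨M.a_mem, M.a_ne_one⟩),
    Set.ncard_sdiff_singleton_of_mem (one_mem M.H), ← Nat.card_coe_set_eq]
  have := M.card_H
  show Nat.card M.H - 1 - 1 = _
  omega

theorem ncard_SY : M.SY.ncard = Nat.card K - 3 := by
  have := M.finite
  have h : M.SY = (M.Y : Set G) \ M.V4 := rfl
  rw [h, Set.ncard_sdiff M.V4_le_Y, ← Nat.card_coe_set_eq, ← Nat.card_coe_set_eq]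
  have h1 := M.card_Y
  have h2 := M.card_V4
  show Nat.card M.Y - Nat.card M.V4 = _
  omega

theorem index_B : M.B.index = Nat.card K ^ 3 + 1 := by
  have := M.finite
  have h := M.R.index_B
  rwa [R_B, R_U, card_U] at h

theorem ncard_conj_SU : (conjSet M.SU).ncard = (Nat.card K ^ 3 + 1) * (Nat.card K ^ 3 - 1) := by
  rw [ncard_conjSet M.SU M.B, index_B, ncard_SU]
  · rintro g hg s ⟨hs, hs1⟩
    exact ⟨M.R.conj_mem_U hg hs, conj_ne_one _ hs1⟩
  · rintro g s ⟨hs, hs1⟩ ⟨h, -⟩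
    exact M.mem_B_of_conj_U hs hs1 h

theorem ncard_conj_S6 :
    (conjSet M.S6).ncard = (Nat.card K ^ 3 + 1) * (Nat.card K * ((Nat.card K - 1) * Nat.card K)) := by
  rw [ncard_conjSet M.S6 M.B, index_B, ncard_S6]
  · rintro g hg s ⟨hs, hs1⟩
    refine ⟨?_, by rw [← conj_mul]; exact conj_ne_one _ hs1⟩
    have h1 := M.R.conj_mem_U hg hs
    obtain ⟨u, hu, _, ⟨k, rfl⟩, rfl⟩ := M.mem_B_iff.mp hg
    have h2 := mul_mem (mul_mem h1 hu) (M.R.conj_mem _ M.a_mem _ (inv_mem hu))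
    have h3 : M.a * (M.h k)⁻¹ = (M.h k)⁻¹ * M.a := by rw [← map_inv, a_comm_h]
    have h4 : u * M.h k * s * (u * M.h k)⁻¹ * M.a =
        u * M.h k * (s * M.a) * (u * M.h k)⁻¹ * u * (M.a * u⁻¹ * M.a⁻¹) := by
      calc u * M.h k * s * (u * M.h k)⁻¹ * M.a
          = u * M.h k * s * ((M.h k)⁻¹ * (M.a * M.a)) * u⁻¹ * M.a := by rw [M.a_sq]; simp [mul_assoc]
        _ = u * M.h k * s * (M.a * (M.h k)⁻¹ * M.a) * u⁻¹ * M.a := by rw [h3, mul_assoc (M.h k)⁻¹]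
        _ = _ := by rw [a_inv]; simp [mul_assoc]
    rw [h4]; exact h2
  · intro g s hs h
    refine M.mem_B_of_conj_U (M.S6_sq_mem hs) hs.2 ?_
    rw [conj_mul]; exact M.S6_sq_mem h

theorem ncard_conj_SH : (conjSet M.SH).ncard = M.N.index * (Nat.card K - 3) := by
  rw [ncard_conjSet M.SH M.N, ncard_SH]
  · rintro g hg s ⟨hs, hs1, hsa⟩
    rcases M.conj_of_mem_N hg hs with h | h <;> rw [h]
    · exact ⟨hs, hs1, hsa⟩
    · exact ⟨inv_mem hs, by simpa using hs1, fun e => hsa (by rw [← inv_inv s, e, a_inv])⟩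
  · rintro g s ⟨hs, hs1, hsa⟩ ⟨h, -⟩
    exact M.mem_N_of_conj hs hs1 hsa h

theorem ncard_conj_a : (conjSet {M.a}).ncard = (Subgroup.centralizer {M.a}).index := by
  rw [ncard_conjSet {M.a} (Subgroup.centralizer {M.a}), Set.ncard_singleton, mul_one]
  · rintro g hg s rfl
    rw [Subgroup.mem_centralizer_singleton_iff.mp hg]; simp
  · rintro g s rfl h
    exact Subgroup.mem_centralizer_singleton_iff.mpr (mul_inv_eq_iff_eq_mul.mp h)

/-- A coset of `U` through an element of the torus acting without fixed points consists of conjugates. -/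
theorem conj_of_mem_SH {h u : G} (hh : h ∈ M.SH) (hu : u ∈ M.U) : u * h ∈ conjSet M.SH := by
  have := M.finite
  let f : M.U → M.U := fun v => ⟨v * (h * (v : G)⁻¹ * h⁻¹), mul_mem v.2 (M.R.conj_mem h hh.1 _ (inv_mem v.2))⟩
  have hf : Function.Injective f := by
    intro v w e
    have e' : (v : G) * (h * (v : G)⁻¹ * h⁻¹) = w * (h * (w : G)⁻¹ * h⁻¹) := congrArg Subtype.val e
    have h1 : h * ((w : G)⁻¹ * v) = ((w : G)⁻¹ * v) * h := by
      calc h * ((w : G)⁻¹ * v) = (w : G)⁻¹ * (w * (h * (w : G)⁻¹ * h⁻¹)) * h * v := by simp [mul_assoc]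
        _ = _ := by rw [← e']; simp [mul_assoc]
    have := M.comm_H_U hh.1 hh.2.1 hh.2.2 (mul_mem (inv_mem w.2) v.2) h1
    exact Subtype.ext (inv_mul_eq_one.mp this).symm
  obtain ⟨v, hv⟩ := Finite.injective_iff_surjective.mp hf ⟨u, hu⟩
  have hv' : (v : G) * (h * (v : G)⁻¹ * h⁻¹) = u := congrArg Subtype.val hv
  exact ⟨v, h, hh, by rw [← hv']; simp [mul_assoc]⟩

variable (hq : Nat.card K % 8 = 3)
include hq

theorem SY_sq {g : G} (hg : g ∈ M.SY) : g * g ∈ M.A ∧ g * g ≠ 1 := by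
  refine ⟨?_, fun h => hg.2 (M.Y_sq hg.1 h)⟩
  obtain ⟨v, hv, x, hx, rfl⟩ := (M.mem_Y_iff hq).mp hg.1
  rw [mul_assoc, ← mul_assoc x, ← M.Y_comm (M.V4_le_Y hv) (M.Z_le_Y hx.1), ← mul_assoc, ← mul_assoc,
    M.V4_sq hv, one_mul]
  exact mul_mem hx hx

theorem ncard_conj_SY :
    (conjSet M.SY).ncard = (Subgroup.normalizer (M.V4 : Set G)).index * (Nat.card K - 3) := by
  rw [ncard_conjSet M.SY (Subgroup.normalizer (M.V4 : Set G)), ncard_SY]
  · rintro g hg s ⟨hs, hs1⟩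
    exact ⟨M.conj_mem_Y hq hg hs, fun h => hs1 ((Subgroup.mem_normalizer_iff.mp hg s).mpr h)⟩
  · intro g s hs h
    refine M.mem_normalizer_V4_of_conj hq (M.SY_sq hq hs).1 (M.SY_sq hq hs).2 ?_
    rw [conj_mul]; exact (M.SY_sq hq h).1

theorem mem_conj_a {g : G} (h1 : g ≠ 1) {k : ℕ} (h : g ^ 2 ^ k = 1) : g ∈ conjSet {M.a} := by
  obtain ⟨c, hc⟩ := M.conj_a_of_two_elt hq h h1
  exact ⟨c, _, rfl, hc⟩

theorem classify_B {g : G} (hg : g ∈ M.B) :
    g = 1 ∨ g ∈ conjSet {M.a} ∨ g ∈ conjSet M.SU ∨ g ∈ conjSet M.S6 ∨ g ∈ conjSet M.SH := by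
  by_cases h1 : g = 1
  · exact Or.inl h1
  right
  obtain ⟨u, hu, h, hh, rfl⟩ := M.mem_B_iff.mp hg
  by_cases e1 : h = 1
  · subst e1
    exact Or.inr (Or.inl ⟨1, u * 1, ⟨by simpa using hu, h1⟩, by simp⟩)
  by_cases e2 : h = M.a
  · subst e2
    by_cases e3 : u * M.a * (u * M.a) = 1
    · exact Or.inl (M.mem_conj_a hq h1 (k := 1) (by rw [pow_one, pow_two, e3]))
    · exact Or.inr (Or.inr (Or.inl ⟨1, u * M.a, ⟨by rwa [mul_assoc, a_sq, mul_one], e3⟩, by simp⟩))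
  · exact Or.inr (Or.inr (Or.inr (M.conj_of_mem_SH ⟨hh, e1, e2⟩ hu)))

theorem classify (g : G) : g = 1 ∨ g ∈ conjSet {M.a} ∨ g ∈ conjSet M.SU ∨ g ∈ conjSet M.S6 ∨ g ∈ conjSet M.SH ∨
    g ∈ conjSet M.SY ∨ g ∈ XT K G := by
  have := M.finite
  have fixed : ∀ c : G, c⁻¹ * g * c ∈ M.B → g = 1 ∨ g ∈ conjSet {M.a} ∨ g ∈ conjSet M.SU ∨ g ∈ conjSet M.S6 ∨
      g ∈ conjSet M.SH ∨ g ∈ conjSet M.SY ∨ g ∈ XT K G := by
    intro c hc
    rcases M.classify_B hq hc with h | h | h | h | h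
    · left
      by_contra h1
      exact conj_ne_one' c h1 h
    · exact Or.inr (Or.inl (conjSet_of_conj h))
    · exact Or.inr (Or.inr (Or.inl (conjSet_of_conj h)))
    · exact Or.inr (Or.inr (Or.inr (Or.inl (conjSet_of_conj h))))
    · exact Or.inr (Or.inr (Or.inr (Or.inr (Or.inl (conjSet_of_conj h)))))
  by_cases h1 : g = 1
  · exact Or.inl h1
  rcases Nat.eq_two_pow_or_exists_odd_prime_and_dvd (orderOf g) with ⟨k, hk⟩ | ⟨l, hl, hd, hodd⟩
  · exact Or.inr (Or.inl (M.mem_conj_a hq h1 (k := k) (by rw [← hk, pow_orderOf_eq_one])))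
  have hl2 : l ≠ 2 := by rintro rfl; exact absurd hodd (by decide)
  have : Fact l.Prime := ⟨hl⟩
  obtain ⟨k, hx⟩ := exists_pow_orderOf_eq_prime hd
  have hx1 : g ^ k ≠ 1 := by intro h; rw [h] at hx; exact hl.one_lt.ne (by simpa using hx)
  have hxl : (g ^ k) ^ l ^ 1 = 1 := by rw [pow_one, ← hx, pow_orderOf_eq_one]
  have hc : g * g ^ k = g ^ k * g := Commute.self_pow g k
  have hg2 : g * g ≠ 1 := by
    intro h
    have := hd.trans (orderOf_dvd_of_pow_eq_one (n := 2) (by rw [pow_two, h]))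
    exact hl2 ((Nat.prime_dvd_prime_iff_eq hl Nat.prime_two).mp this)
  have h4 : l ∣ tq (Nat.card K) * mq (Nat.card K) := M.card_G' ▸ hd.trans (orderOf_dvd_natCard g)
  rcases (Nat.Prime.dvd_mul hl).mp h4 with h5 | h5
  · exact Or.inr (Or.inr (Or.inr (Or.inr (Or.inr (Or.inr ⟨h1, M.pow_tq_of_comm hq hl h5 hx hc⟩)))))
  rcases prime_dvd_mq hl h5 with h | rfl | ⟨h2, h3⟩ | ⟨h2, h3⟩
  · exact absurd h hl2
  · obtain ⟨p, hp, hu⟩ := M.R.p_elt_fix_unique M.isPGroup_U M.U_ne_bot M.not_three_dvd_card_H hx1 hxl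
    have h6 : g • p = p := hu _ (by rw [← mul_smul, ← hc, mul_smul, hp])
    obtain ⟨c, rfl⟩ := M.R.trans p
    refine fixed c ?_
    rw [← R_B, ← M.R.smul_inf_eq_iff, mul_smul, mul_smul, h6, inv_smul_smul]
  · obtain ⟨c, hc'⟩ := exists_conj_mem_of_not_dvd_index hxl (M.not_dvd_index_H hq hl h2 h3)
    have h6 := M.mem_N_of_conj (g := c⁻¹ * g * c) hc' (conj_ne_one' c hx1) (M.ne_a_of_prime_order h2 hx c)
      (by rw [conj_comm' c hc, mul_inv_cancel_right]; exact hc')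
    rcases h6 with h6 | h6
    · exact fixed c (M.R.H_le_B h6)
    · exfalso
      apply conj_ne_one' c hg2
      have h7 := M.R.n_conj _ h6
      rw [R_n, mul_assoc, mul_assoc _ M.n, M.n_sq, mul_one, eq_inv_iff_mul_eq_one] at h7
      have h8 : M.n * (c⁻¹ * g * c * (c⁻¹ * g * c)) * M.n⁻¹ = 1 := by rw [n_inv, ← h7]; simp only [mul_assoc]
      by_contra h9
      apply conj_ne_one M.n _ h8
      simpa [mul_assoc] using h9
  · obtain ⟨c, hc'⟩ := exists_conj_mem_of_not_dvd_index hxl (M.not_dvd_index_A hq hl h2 h3)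
    have h6 := M.mem_Y_of_comm_A hq hc' (conj_ne_one' c hx1) (conj_comm' c hc)
    refine Or.inr (Or.inr (Or.inr (Or.inr (Or.inr (Or.inl (mem_conjSet_of_conj (c := c) ⟨h6, fun h7 => ?_⟩))))))
    apply conj_ne_one' c hg2
    simpa [mul_assoc] using M.V4_sq h7

include M in
theorem ncard_XT : 3 * (XT K G).ncard = mq (Nat.card K) * (Nat.card K * (Nat.card K - 2)) := by
  have := M.finite
  set q := Nat.card K with hqdef
  have h3q : 3 ∣ q := three_dvd_card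
  have hco := coprime_tq_mq (Nat.card_pos (α := K)) h3q
  -- properties of the seven types
  have p2 : ∀ g ∈ conjSet {M.a}, g ^ 1 ≠ 1 ∧ g ^ 2 = 1 := fun g hg =>
    ⟨conjSet_pow_ne (by rintro _ rfl; simpa using M.a_ne_one) hg,
      conjSet_pow (by rintro _ rfl; rw [pow_two, M.a_sq]) hg⟩
  have p3 : ∀ g ∈ conjSet M.SU, g ^ 1 ≠ 1 ∧ g ^ 9 = 1 := fun g hg =>
    ⟨conjSet_pow_ne (fun s hs => by simpa using hs.2) hg,
      conjSet_pow (by rintro _ ⟨⟨a, b, c, rfl⟩, -⟩; exact M.x_pow_nine ..) hg⟩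
  have p4 : ∀ g ∈ conjSet M.S6, g ^ 2 ≠ 1 ∧ g ^ 9 ≠ 1 ∧ g ^ 6 = 1 := fun g hg =>
    ⟨conjSet_pow_ne (fun s hs => by rw [pow_two]; exact hs.2) hg, conjSet_pow_ne (fun s hs => M.S6_pow_nine hs) hg,
      conjSet_pow (fun s hs => M.S6_pow_six hs) hg⟩
  have p5 : ∀ g ∈ conjSet M.SH, g ^ 2 ≠ 1 ∧ g ^ (q - 1) = 1 := fun g hg =>
    ⟨conjSet_pow_ne (fun s hs h => hs.2.2 (M.eq_a_of_mem_H hs.1 hs.2.1 (by rwa [pow_two] at h))) hg,
      conjSet_pow (fun s hs => by rw [← M.card_H]; exact pow_card_of_mem hs.1) hg⟩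
  have p6 : ∀ g ∈ conjSet M.SY, g ^ 2 ≠ 1 ∧ g ^ (2 * ((q + 1) / 4)) = 1 := fun g hg =>
    ⟨conjSet_pow_ne (fun s hs => by rw [pow_two]; exact (M.SY_sq hq hs).2) hg,
      conjSet_pow (fun s hs => by rw [pow_mul, pow_two]; exact (M.SY_sq hq hs).1.2) hg⟩
  have sq : ∀ (g : G) (a b : ℕ), Nat.Coprime a b → g ^ (2 * a) = 1 → g ^ (2 * b) = 1 → g ^ 2 = 1 := by
    intro g a b hab h1 h2
    rw [pow_mul] at h1 h2
    exact eq_one_of_pow_coprime hab h1 h2
  have dbl : ∀ (g : G) (a : ℕ), g ^ a = 1 → g ^ (2 * a) = 1 := by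
    intro g a h; rw [mul_comm, pow_mul, h, one_pow]
  have c1 : Nat.Coprime 9 (q - 1) := by
    refine Nat.Coprime.pow_left 2 ((Nat.Prime.coprime_iff_not_dvd Nat.prime_three).mpr ?_) 
    omega
  have c2 : Nat.Coprime ((q + 1) / 4) (q - 1) := (coprime_r hq).coprime_dvd_right (Dvd.intro_left _ rfl)
  have c3 : Nat.Coprime 9 ((q + 1) / 4) := by
    refine Nat.Coprime.pow_left 2 ((Nat.Prime.coprime_iff_not_dvd Nat.prime_three).mpr ?_) 
    omega
  have tm : ∀ g ∈ XT K G, ∀ k, k ∣ mq q → g ^ k ≠ 1 := fun g hg k hk h =>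
    hg.1 (eq_one_of_pow_coprime (hco.coprime_dvd_right hk) hg.2 h)
  obtain ⟨s, hs⟩ : ∃ s, q = 24 * s + 3 := ⟨q / 24, by omega⟩
  have hr : (q + 1) / 4 = 6 * s + 1 := by omega
  have hq1 : q - 1 = 24 * s + 2 := by omega
  have d18 : 18 ∣ mq q := ⟨(8 * s + 1) ^ 3 * (24 * s + 2) * (36 * s + 6), by rw [mq, hq1, hs]; ring⟩
  have huniv : (Set.univ : Set G) = {1} ∪ conjSet {M.a} ∪ conjSet M.SU ∪ conjSet M.S6 ∪ conjSet M.SH ∪
      conjSet M.SY ∪ XT K G := by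
    symm
    rw [Set.eq_univ_iff_forall]
    intro g
    simpa only [Set.mem_union, Set.mem_singleton_iff, or_assoc] using M.classify hq g
  have hcard := congrArg Set.ncard huniv
  rw [Set.ncard_univ, Set.ncard_union_eq, Set.ncard_union_eq, Set.ncard_union_eq, Set.ncard_union_eq,
    Set.ncard_union_eq, Set.ncard_union_eq, Set.ncard_singleton, ncard_conj_a, ncard_conj_SU, ncard_conj_S6,
    ncard_conj_SH, M.ncard_conj_SY hq] at hcard
  · have e1 := (Subgroup.centralizer {M.a}).index_mul_card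
    have e2 := M.N.index_mul_card
    have e3 := (Subgroup.normalizer (M.V4 : Set G)).index_mul_card
    rw [card_centralizer_a] at e1
    rw [card_N] at e2
    rw [card_normalizer_V4] at e3
    have hG := M.card_G
    rw [← hqdef] at e1 e2 e3 hG hcard
    have hq2 : q - 2 = 24 * s + 1 := by omega
    have hq3 : q - 3 = 24 * s := by omega
    have hq4 : q ^ 3 - 1 = (24 * s + 2) * (q ^ 2 + q + 1) := by
      apply Nat.sub_eq_of_eq_add; rw [hs]; ring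
    rw [mq, hq2]
    rw [hq3, hq4] at hcard
    rw [hq1] at e1 e2 hG hcard ⊢
    rw [hG] at e1 e2 e3 hcard
    have f1 : (Subgroup.centralizer {M.a}).index = q ^ 2 * (576 * s ^ 2 + 120 * s + 7) := by
      apply Nat.eq_of_mul_eq_mul_right (show 0 < (q + 1) * (q * (24 * s + 2)) by rw [hs]; positivity)
      rw [e1, hs]; ring
    have f2 : M.N.index = q ^ 3 * ((12 * s + 2) * (576 * s ^ 2 + 120 * s + 7)) := by
      apply Nat.eq_of_mul_eq_mul_right (show 0 < 2 * (24 * s + 2) by positivity)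
      rw [e2, hs]; ring
    have f3 : (Subgroup.normalizer (M.V4 : Set G)).index =
        q ^ 2 * (8 * s + 1) * (12 * s + 1) * (576 * s ^ 2 + 120 * s + 7) := by
      apply Nat.eq_of_mul_eq_mul_right (show 0 < 6 * (q + 1) by positivity)
      rw [e3, hs]; ring
    rw [f1, f2, f3, hs] at hcard
    rw [hs]
    generalize (XT K G).ncard = X at *
    zify at hcard ⊢
    linear_combination -3 * hcard
  · rw [Set.disjoint_left]
    rintro g rfl hg
    exact (p2 _ hg).1 (by simp)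
  · rw [Set.disjoint_left]
    rintro g (rfl | h) hg
    · exact (p3 _ hg).1 (by simp)
    · exact (p2 _ h).1 (by rw [pow_one]; exact eq_one_of_pow_coprime (by norm_num) (p2 _ h).2 (p3 _ hg).2)
  · rw [Set.disjoint_left]
    rintro g ((rfl | h) | h) hg
    · exact (p4 _ hg).1 (by simp)
    · exact (p4 _ hg).1 (p2 _ h).2
    · exact (p4 _ hg).2.1 (p3 _ h).2
  · rw [Set.disjoint_left]
    rintro g (((rfl | h) | h) | h) hg
    · exact (p5 _ hg).1 (by simp)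
    · exact (p5 _ hg).1 (p2 _ h).2
    · exact (p5 _ hg).1 (sq g _ _ c1 (dbl _ _ (p3 _ h).2) (dbl _ _ (p5 _ hg).2))
    · exact (p5 _ hg).1 (sq g 3 _ (c1.coprime_dvd_left (by norm_num)) (p4 _ h).2.2 (dbl _ _ (p5 _ hg).2))
  · rw [Set.disjoint_left]
    rintro g ((((rfl | h) | h) | h) | h) hg
    · exact (p6 _ hg).1 (by simp)
    · exact (p6 _ hg).1 (p2 _ h).2
    · exact (p6 _ hg).1 (sq g _ _ c3 (dbl _ _ (p3 _ h).2) (p6 _ hg).2)
    · exact (p6 _ hg).1 (sq g 3 _ (c3.coprime_dvd_left (by norm_num)) (p4 _ h).2.2 (p6 _ hg).2)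
    · exact (p6 _ hg).1 (sq g _ _ c2 (p6 _ hg).2 (dbl _ _ (p5 _ h).2))
  · rw [Set.disjoint_left]
    rintro g (((((rfl | h) | h) | h) | h) | h) hg
    · exact hg.1 rfl
    · exact tm g hg 2 (Dvd.dvd.trans (by norm_num) d18) (p2 _ h).2
    · exact tm g hg 9 (Dvd.dvd.trans (by norm_num) d18) (p3 _ h).2
    · exact tm g hg 6 (Dvd.dvd.trans (by norm_num) d18) (p4 _ h).2.2
    · exact tm g hg _ ⟨q ^ 3 * (q + 1), by rw [mq]; ring⟩ (p5 _ h).2
    · exact tm g hg _ ⟨q ^ 3 * (q - 1) * 2, by rw [mq, hr, hs]; ring⟩ (p6 _ h).2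

end Model

end Cfsg.Agent.H9.Ree
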