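import Cfsg.Agent.H9.ReeApi

/-!
First group-theoretic facts about models of the small Ree group.
-/

set_option autoImplicit false
set_option linter.unusedSectionVars false
set_option linter.unusedSimpArgs false

namespace Cfsg.Agent.H9.Ree
open Matrix MulAction

theorem three_pow_mod_eight (m : ℕ) : 3 ^ (2 * m + 1) % 8 = 3 := by
  induction m with
  | zero => rfl
  | succ m ih =>
    rw [show 2 * (m + 1) + 1 = (2 * m + 1) + 2 by ring, pow_add, Nat.mul_mod, ih]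
    rfl

theorem three_le_three_pow (m : ℕ) : 3 ≤ 3 ^ (2 * m + 1) := by
  have := three_pow_mod_eight m
  generalize 3 ^ (2 * m + 1) = q at *
  omega

theorem orderOf_conj' {G : Type*} [Group G] (c g : G) : orderOf (c * g * c⁻¹) = orderOf g :=
  (MulAut.conj c).orderOf_eq g

theorem card_odd_order {C : Type*} [Group C] [IsCyclic C] [Finite C] {n : ℕ} (hn : Odd n)
    (hC : Nat.card C = 2 * n) : Nat.card {h : C // Odd (orderOf h)} = n := by
  letI : CommGroup C := IsCyclic.commGroup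
  have h := IsCyclic.card_powMonoidHom_ker (G := C) n
  rw [hC, Nat.gcd_mul_left_left] at h
  rw [← h]
  refine Nat.card_congr (Equiv.subtypeEquivRight fun x => ?_)
  rw [MonoidHom.mem_ker, powMonoidHom_apply, ← orderOf_dvd_iff_pow_eq_one]
  constructor
  · intro hx
    have h1 : orderOf x ∣ 2 * n := hC ▸ orderOf_dvd_natCard x
    exact (Nat.Coprime.dvd_mul_left (Nat.coprime_two_right.mpr hx)).mp h1
  · intro hx
    exact hn.of_dvd_nat hx

variable {K : Type*} [Field K] [TwF K] [CharP K 3] {G : Type*} [Group G]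

local notation "σ" => TwF.s (K := K)

namespace Model

variable (M : Model K G)

theorem orderOf_a : orderOf M.a = 2 := by
  have : Fact (Nat.Prime 2) := ⟨Nat.prime_two⟩
  exact orderOf_eq_prime (by rw [pow_two, M.a_sq]) M.a_ne_one

theorem comm_H_U {h : G} (hh : h ∈ M.H) (h1 : h ≠ 1) (ha : h ≠ M.a) {u : G} (hu : u ∈ M.U) (e : h * u = u * h) :
    u = 1 := by
  obtain ⟨k, rfl⟩ := hh
  obtain ⟨a, b, c, rfl⟩ := hu
  refine M.h_comm_x ?_ ?_ e
  · rintro rfl; exact h1 (map_one _)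
  · rintro rfl; exact ha rfl

/-- An element of the torus fixing a third point is trivial or the involution. -/
theorem H_fix_three {h : G} (hh : h ∈ M.H) {z : M.R.Pt} (hz1 : z ≠ M.R.inf) (hz2 : z ≠ M.R.zero)
    (hz : h • z = z) : h = 1 ∨ h = M.a := by
  by_contra hne
  push Not at hne
  obtain ⟨u, hu, rfl⟩ := M.R.exists_U hz1
  have := M.comm_H_U hh hne.1 hne.2 hu ((M.R.H_fix_iff hh hu).mp hz)
  rw [this, one_smul] at hz2
  exact hz2 rfl

theorem fix_three {g : G} {x y z : M.R.Pt} (hxy : x ≠ y) (hxz : x ≠ z) (hyz : y ≠ z) {c : G}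
    (hc1 : c • M.R.inf = x) (hc2 : c • M.R.zero = y) (hx : g • x = x) (hy : g • y = y) (hz : g • z = z) :
    g = 1 ∨ g = c * M.a * c⁻¹ := by
  have hh : c⁻¹ * g * c ∈ M.H := by
    rw [← R_H, M.R.mem_H_iff, mul_smul, mul_smul, mul_smul, mul_smul, hc1, hc2, hx, hy, ← hc1, ← hc2,
      inv_smul_smul, inv_smul_smul]
    exact ⟨rfl, rfl⟩
  rcases M.H_fix_three hh (z := c⁻¹ • z) (fun h => hxz (by rw [← hc1, ← h, smul_inv_smul]))
    (fun h => hyz (by rw [← hc2, ← h, smul_inv_smul])) (by rw [mul_smul, mul_smul, smul_inv_smul, hz]) with h | h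
  · left
    have : g = c * (c⁻¹ * g * c) * c⁻¹ := by simp [mul_assoc]
    rw [this, h]; simp
  · right
    rw [← h]; simp [mul_assoc]

theorem three_point_le [Finite G] (x y z : M.R.Pt) (hxy : x ≠ y) (hxz : x ≠ z) (hyz : y ≠ z) :
    Nat.card ↥(stabilizer G x ⊓ stabilizer G y ⊓ stabilizer G z) ≤ 2 := by
  obtain ⟨c, hc1, hc2⟩ := M.R.two_trans hxy
  have hle : stabilizer G x ⊓ stabilizer G y ⊓ stabilizer G z ≤ Subgroup.zpowers (c * M.a * c⁻¹) := by
    rintro g ⟨⟨hx, hy⟩, hz⟩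
    rcases M.fix_three hxy hxz hyz hc1 hc2 hx hy hz with h | h
    · rw [h]; exact one_mem _
    · rw [h]; exact Subgroup.mem_zpowers _
  refine (Subgroup.card_le_of_le hle).trans ?_
  rw [Nat.card_zpowers, orderOf_conj', M.orderOf_a]

theorem three_point_eq [Finite G] : ∃ x y z : M.R.Pt, x ≠ y ∧ x ≠ z ∧ y ≠ z ∧
    Nat.card ↥(stabilizer G x ⊓ stabilizer G y ⊓ stabilizer G z) = 2 := by
  have h1 : M.x 0 1 0 • M.R.zero ≠ M.R.inf := M.R.U_smul_zero_ne_inf (M.x_mem ..)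
  have h2 : M.x 0 1 0 • M.R.zero ≠ M.R.zero := fun h => by
    have := M.x_eq_one.mp (M.R.U_smul_zero (M.x_mem ..) h)
    simp at this
  refine ⟨M.R.inf, M.R.zero, M.x 0 1 0 • M.R.zero, M.R.zero_ne_inf.symm, h1.symm, h2.symm, ?_⟩
  have : stabilizer G M.R.inf ⊓ stabilizer G M.R.zero ⊓ stabilizer G (M.x 0 1 0 • M.R.zero) =
      Subgroup.zpowers M.a := by
    apply le_antisymm
    · rintro g ⟨⟨hx, hy⟩, hz⟩
      rcases M.H_fix_three (M.R.mem_H_iff.mpr ⟨hx, hy⟩) h1 h2 hz with h | h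
      · rw [h]; exact one_mem _
      · rw [h]; exact Subgroup.mem_zpowers _
    · rw [Subgroup.zpowers_le]
      exact ⟨⟨M.R.H_smul_inf M.a_mem, M.R.H_smul_zero M.a_mem⟩,
        (M.R.H_fix_iff M.a_mem (M.x_mem ..)).mpr (M.a_comm_x_iff.mpr ⟨rfl, rfl⟩)⟩
  rw [this, Nat.card_zpowers, M.orderOf_a]

theorem x_cube_eq_one {a b c : K} : M.x a b c ^ 3 = 1 ↔ a = 0 := by
  rw [x_cube, x_eq_one]
  constructor
  · rintro ⟨-, -, h⟩
    by_contra ha
    exact mul_ne_zero (s_ne_zero ha) (pow_ne_zero 2 ha) (neg_eq_zero.mp h)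
  · rintro rfl
    simp

theorem orderOf_x_eq_three {a b c : K} : orderOf (M.x a b c) = 3 ↔ a = 0 ∧ (b, c) ≠ 0 := by
  have : Fact (Nat.Prime 3) := ⟨Nat.prime_three⟩
  rw [orderOf_eq_prime_iff, x_cube_eq_one, Ne, x_eq_one]
  constructor
  · rintro ⟨rfl, h⟩
    exact ⟨rfl, fun h' => h ⟨rfl, congrArg Prod.fst h', congrArg Prod.snd h'⟩⟩
  · rintro ⟨rfl, h⟩
    exact ⟨rfl, fun h' => h (Prod.ext h'.2.1 h'.2.2)⟩

theorem card_order_three [Finite K] : Nat.card {u : M.U // orderOf u = 3} = Nat.card K ^ 2 - 1 := by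
  have h1 : Nat.card {p : K × K // p ≠ 0} = Nat.card K ^ 2 - 1 := by
    classical
    cases nonempty_fintype K
    rw [Nat.card_eq_fintype_card, Fintype.card_subtype_compl, Fintype.card_prod, Nat.card_eq_fintype_card, sq]
    simp
  rw [← h1]
  symm
  refine Nat.card_congr (Equiv.ofBijective (fun p => ⟨⟨M.x 0 p.1.1 p.1.2, M.x_mem ..⟩, ?_⟩) ⟨?_, ?_⟩)
  · rw [← Subgroup.orderOf_coe]
    exact M.orderOf_x_eq_three.mpr ⟨rfl, p.2⟩
  · rintro ⟨⟨b, c⟩, h⟩ ⟨⟨b', c'⟩, h'⟩ e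
    have e' : M.x 0 b c = M.x 0 b' c' := congrArg (fun z => z.1.1) e
    obtain ⟨-, rfl, rfl⟩ := M.x_inj e'
    rfl
  · rintro ⟨⟨_, a, b, c, rfl⟩, h⟩
    rw [← Subgroup.orderOf_coe] at h
    obtain ⟨rfl, h'⟩ := M.orderOf_x_eq_three.mp h
    exact ⟨⟨(b, c), h'⟩, rfl⟩

theorem not_three_dvd_card_H [Finite K] : ¬ 3 ∣ Nat.card M.H := by
  classical
  cases nonempty_fintype K
  rw [M.card_H, Nat.card_eq_fintype_card]
  intro h
  have h1 : 3 ∣ Fintype.card K := (CharP.cast_eq_zero_iff K 3 _).mp (FiniteField.cast_card_eq_zero K)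
  have h2 : 0 < Fintype.card K := Fintype.card_pos
  omega

end Model

end Cfsg.Agent.H9.Ree
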