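import Cfsg.Agent.H9.Ree7b
import Cfsg.Prelude.Def_ChevStructure
import Cfsg.Prelude.Def_LieTwisted

/-!
The root elements of the Chevalley group of type G₂ in characteristic 3 on the 14-dimensional module, compared with
their restrictions to the 7-dimensional submodule spanned by the short root vectors.
-/

set_option autoImplicit false
set_option linter.unusedSectionVars false
set_option linter.unusedSimpArgs false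
set_option linter.unusedTactic false
set_option linter.unreachableTactic false

namespace Cfsg.Agent.H9.Ree
open Matrix Cfsg.Lie
variable {K : Type*} [Field K]

def hI (i : Fin 2) : chevG2.Idx := Sum.inl i
def eI (r : Fin 12) : chevG2.Idx := Sum.inr r

theorem sum12 {M : Type*} [AddCommMonoid M] (f : Fin 12 → M) :
    ∑ i, f i = f 0 + f 1 + f 2 + f 3 + f 4 + f 5 + f 6 + f 7 + f 8 + f 9 + f 10 + f 11 := by
  simp only [Fin.sum_univ_succ, Fin.sum_univ_zero, add_assoc, add_zero]; rfl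

theorem mulVec_idx (M : Matrix chevG2.Idx chevG2.Idx K) (x : chevG2.Idx → K) (i : chevG2.Idx) :
    (M *ᵥ x) i = M i (hI 0) * x (hI 0) + M i (hI 1) * x (hI 1) + M i (eI 0) * x (eI 0) + M i (eI 1) * x (eI 1)
      + M i (eI 2) * x (eI 2) + M i (eI 3) * x (eI 3) + M i (eI 4) * x (eI 4) + M i (eI 5) * x (eI 5)
      + M i (eI 6) * x (eI 6) + M i (eI 7) * x (eI 7) + M i (eI 8) * x (eI 8) + M i (eI 9) * x (eI 9)
      + M i (eI 10) * x (eI 10) + M i (eI 11) * x (eI 11) := by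
  have h : ∀ f : Fin 2 ⊕ Fin 12 → K, ∑ j, f j = f (hI 0) + f (hI 1) + f (eI 0) + f (eI 1) + f (eI 2) + f (eI 3)
      + f (eI 4) + f (eI 5) + f (eI 6) + f (eI 7) + f (eI 8) + f (eI 9) + f (eI 10) + f (eI 11) := by
    intro f
    rw [Fintype.sum_sum_type, Fin.sum_univ_two, sum12]
    simp only [add_assoc]; rfl
  exact h (fun j => M i j * x j)

theorem idx_ext {x y : chevG2.Idx → K} (h0 : x (hI 0) = y (hI 0)) (h1 : x (hI 1) = y (hI 1))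
    (e0 : x (eI 0) = y (eI 0)) (e1 : x (eI 1) = y (eI 1)) (e2 : x (eI 2) = y (eI 2)) (e3 : x (eI 3) = y (eI 3))
    (e4 : x (eI 4) = y (eI 4)) (e5 : x (eI 5) = y (eI 5)) (e6 : x (eI 6) = y (eI 6)) (e7 : x (eI 7) = y (eI 7))
    (e8 : x (eI 8) = y (eI 8)) (e9 : x (eI 9) = y (eI 9)) (e10 : x (eI 10) = y (eI 10))
    (e11 : x (eI 11) = y (eI 11)) : x = y := by
  have h : ∀ i : Fin 2 ⊕ Fin 12, x i = y i := by
    rintro (i | i) <;> fin_cases i <;> assumption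
  exact funext h

/-- The inclusion of the 7-dimensional submodule. -/
def incl (v : Fin 7 → K) : chevG2.Idx → K :=
  (Sum.elim ![v 3, 0] ![0, 0, v 6, v 5, v 4, 0, 0, v 2, v 1, v 0, 0, 0] : Fin 2 ⊕ Fin 12 → K)

theorem incl_0 (v : Fin 7 → K) : incl v (hI 0) = v 3 := rfl
theorem incl_1 (v : Fin 7 → K) : incl v (hI 1) = 0 := rfl
theorem incl_2 (v : Fin 7 → K) : incl v (eI 0) = 0 := rfl
theorem incl_3 (v : Fin 7 → K) : incl v (eI 1) = 0 := rfl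
theorem incl_4 (v : Fin 7 → K) : incl v (eI 2) = v 6 := rfl
theorem incl_5 (v : Fin 7 → K) : incl v (eI 3) = v 5 := rfl
theorem incl_6 (v : Fin 7 → K) : incl v (eI 4) = v 4 := rfl
theorem incl_7 (v : Fin 7 → K) : incl v (eI 5) = 0 := rfl
theorem incl_8 (v : Fin 7 → K) : incl v (eI 6) = 0 := rfl
theorem incl_9 (v : Fin 7 → K) : incl v (eI 7) = v 2 := rfl
theorem incl_10 (v : Fin 7 → K) : incl v (eI 8) = v 1 := rfl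
theorem incl_11 (v : Fin 7 → K) : incl v (eI 9) = v 0 := rfl
theorem incl_12 (v : Fin 7 → K) : incl v (eI 10) = 0 := rfl
theorem incl_13 (v : Fin 7 → K) : incl v (eI 11) = 0 := rfl

/-- The action of the 14-dimensional algebra on the 7-dimensional ideal. -/
def beta (x : chevG2.Idx → K) (v : Fin 7 → K) : Fin 7 → K :=
  ![v 0*x (hI 0) + v 1*x (eI 7) - v 2*x (eI 8) - v 3*x (eI 9) - v 4*x (eI 10) - v 5*x (eI 11),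
    v 0*x (eI 4) - v 1*x (hI 0) + v 1*x (hI 1) + v 2*x (eI 6) + v 3*x (eI 8) - v 4*x (eI 9) + v 6*x (eI 11),
    -v 0*x (eI 3) + v 1*x (eI 5) - v 2*x (hI 0) - v 2*x (hI 1) + v 3*x (eI 7) + v 5*x (eI 9) + v 6*x (eI 10),
    v 0*x (eI 2) - v 1*x (eI 3) - v 2*x (eI 4) + v 4*x (eI 7) + v 5*x (eI 8) - v 6*x (eI 9),
    -v 0*x (eI 1) - v 1*x (eI 2) - v 3*x (eI 4) + v 4*x (hI 0) + v 4*x (hI 1) - v 5*x (eI 6) + v 6*x (eI 8),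
    -v 0*x (eI 0) + v 2*x (eI 2) - v 3*x (eI 3) - v 4*x (eI 5) + v 5*x (hI 0) - v 5*x (hI 1) - v 6*x (eI 7),
    v 1*x (eI 0) + v 2*x (eI 1) + v 3*x (eI 2) + v 4*x (eI 3) - v 5*x (eI 4) - v 6*x (hI 0)]

structure Compat (g : Matrix chevG2.Idx chevG2.Idx K) (A : Matrix (Fin 7) (Fin 7) K) : Prop where
  inc : ∀ v, g *ᵥ incl v = incl (A *ᵥ v)
  bet : ∀ x v, beta (g *ᵥ x) (A *ᵥ v) = A *ᵥ beta x v

def A0 (t : K) : Matrix (Fin 7) (Fin 7) K :=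
  !![1, 0, 0, 0, 0, 0, 0;
    0, 1, 0, 0, 0, 0, 0;
    0, 0, 1, 0, 0, 0, 0;
    0, 0, 0, 1, 0, 0, 0;
    0, 0, 0, 0, 1, 0, 0;
    -t, 0, 0, 0, 0, 1, 0;
    0, t, 0, 0, 0, 0, 1]

def A1 (t : K) : Matrix (Fin 7) (Fin 7) K :=
  !![1, 0, 0, 0, 0, 0, 0;
    0, 1, 0, 0, 0, 0, 0;
    0, 0, 1, 0, 0, 0, 0;
    0, 0, 0, 1, 0, 0, 0;
    -t, 0, 0, 0, 1, 0, 0;
    0, 0, 0, 0, 0, 1, 0;
    0, 0, t, 0, 0, 0, 1]

def A2 (t : K) : Matrix (Fin 7) (Fin 7) K :=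
  !![1, 0, 0, 0, 0, 0, 0;
    0, 1, 0, 0, 0, 0, 0;
    0, 0, 1, 0, 0, 0, 0;
    t, 0, 0, 1, 0, 0, 0;
    0, -t, 0, 0, 1, 0, 0;
    0, 0, t, 0, 0, 1, 0;
    -t^2, 0, 0, t, 0, 0, 1]

def A3 (t : K) : Matrix (Fin 7) (Fin 7) K :=
  !![1, 0, 0, 0, 0, 0, 0;
    0, 1, 0, 0, 0, 0, 0;
    -t, 0, 1, 0, 0, 0, 0;
    0, -t, 0, 1, 0, 0, 0;
    0, 0, 0, 0, 1, 0, 0;
    0, -t^2, 0, -t, 0, 1, 0;
    0, 0, 0, 0, t, 0, 1]

def A4 (t : K) : Matrix (Fin 7) (Fin 7) K :=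
  !![1, 0, 0, 0, 0, 0, 0;
    t, 1, 0, 0, 0, 0, 0;
    0, 0, 1, 0, 0, 0, 0;
    0, 0, -t, 1, 0, 0, 0;
    0, 0, -t^2, -t, 1, 0, 0;
    0, 0, 0, 0, 0, 1, 0;
    0, 0, 0, 0, 0, -t, 1]

def A5 (t : K) : Matrix (Fin 7) (Fin 7) K :=
  !![1, 0, 0, 0, 0, 0, 0;
    0, 1, 0, 0, 0, 0, 0;
    0, t, 1, 0, 0, 0, 0;
    0, 0, 0, 1, 0, 0, 0;
    0, 0, 0, 0, 1, 0, 0;
    0, 0, 0, 0, -t, 1, 0;
    0, 0, 0, 0, 0, 0, 1]

def A6 (t : K) : Matrix (Fin 7) (Fin 7) K :=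
  !![1, 0, 0, 0, 0, 0, 0;
    0, 1, t, 0, 0, 0, 0;
    0, 0, 1, 0, 0, 0, 0;
    0, 0, 0, 1, 0, 0, 0;
    0, 0, 0, 0, 1, -t, 0;
    0, 0, 0, 0, 0, 1, 0;
    0, 0, 0, 0, 0, 0, 1]

def A7 (t : K) : Matrix (Fin 7) (Fin 7) K :=
  !![1, t, 0, 0, 0, 0, 0;
    0, 1, 0, 0, 0, 0, 0;
    0, 0, 1, t, -t^2, 0, 0;
    0, 0, 0, 1, t, 0, 0;
    0, 0, 0, 0, 1, 0, 0;
    0, 0, 0, 0, 0, 1, -t;
    0, 0, 0, 0, 0, 0, 1]

def A8 (t : K) : Matrix (Fin 7) (Fin 7) K :=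
  !![1, 0, -t, 0, 0, 0, 0;
    0, 1, 0, t, 0, -t^2, 0;
    0, 0, 1, 0, 0, 0, 0;
    0, 0, 0, 1, 0, t, 0;
    0, 0, 0, 0, 1, 0, t;
    0, 0, 0, 0, 0, 1, 0;
    0, 0, 0, 0, 0, 0, 1]

def A9 (t : K) : Matrix (Fin 7) (Fin 7) K :=
  !![1, 0, 0, -t, 0, 0, -t^2;
    0, 1, 0, 0, -t, 0, 0;
    0, 0, 1, 0, 0, t, 0;
    0, 0, 0, 1, 0, 0, -t;
    0, 0, 0, 0, 1, 0, 0;
    0, 0, 0, 0, 0, 1, 0;
    0, 0, 0, 0, 0, 0, 1]

def A10 (t : K) : Matrix (Fin 7) (Fin 7) K :=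
  !![1, 0, 0, 0, -t, 0, 0;
    0, 1, 0, 0, 0, 0, 0;
    0, 0, 1, 0, 0, 0, t;
    0, 0, 0, 1, 0, 0, 0;
    0, 0, 0, 0, 1, 0, 0;
    0, 0, 0, 0, 0, 1, 0;
    0, 0, 0, 0, 0, 0, 1]

def A11 (t : K) : Matrix (Fin 7) (Fin 7) K :=
  !![1, 0, 0, 0, 0, -t, 0;
    0, 1, 0, 0, 0, 0, t;
    0, 0, 1, 0, 0, 0, 0;
    0, 0, 0, 1, 0, 0, 0;
    0, 0, 0, 0, 1, 0, 0;
    0, 0, 0, 0, 0, 1, 0;
    0, 0, 0, 0, 0, 0, 1]

variable [CharP K 3]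

theorem xr0_0 (t : K) (x : chevG2.Idx → K) :
    (chevG2.x K 0 t *ᵥ x) (hI 0) = x (hI 0) - t*x (eI 11) := by
  rw [mulVec_idx]
  change 1 * x (hI 0) + 0 * x (hI 1) + 0 * x (eI 0) + 0 * x (eI 1) + 0 * x (eI 2) + 0 * x (eI 3) + 0 * x (eI 4) + 0 * x (eI 5) + 0 * x (eI 6) + 0 * x (eI 7) + 0 * x (eI 8) + 0 * x (eI 9) + 0 * x (eI 10) + ((((-1) : ℤ) : K) * t) * x (eI 11) = _
  push_cast
  grobner

theorem xr0_1 (t : K) (x : chevG2.Idx → K) :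
    (chevG2.x K 0 t *ᵥ x) (hI 1) = x (hI 1) + t*x (eI 11) := by
  rw [mulVec_idx]
  change 0 * x (hI 0) + 1 * x (hI 1) + 0 * x (eI 0) + 0 * x (eI 1) + 0 * x (eI 2) + 0 * x (eI 3) + 0 * x (eI 4) + 0 * x (eI 5) + 0 * x (eI 6) + 0 * x (eI 7) + 0 * x (eI 8) + 0 * x (eI 9) + 0 * x (eI 10) + ((((-2) : ℤ) : K) * t) * x (eI 11) = _
  push_cast
  grobner

theorem xr0_2 (t : K) (x : chevG2.Idx → K) :
    (chevG2.x K 0 t *ᵥ x) (eI 0) = x (eI 0) + t*x (hI 1) - t^2*x (eI 11) := by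
  rw [mulVec_idx]
  change (-(((0) : ℤ) : K) * t) * x (hI 0) + (-(((-1) : ℤ) : K) * t) * x (hI 1) + 1 * x (eI 0) + (0 + 0) * x (eI 1) + (0 + 0) * x (eI 2) + (0 + 0) * x (eI 3) + (0 + 0) * x (eI 4) + (0 + 0) * x (eI 5) + (0 + 0) * x (eI 6) + (0 + 0) * x (eI 7) + (0 + 0) * x (eI 8) + (0 + 0) * x (eI 9) + (0 + 0) * x (eI 10) + (-(t ^ 2)) * x (eI 11) = _
  push_cast
  grobner

theorem xr0_3 (t : K) (x : chevG2.Idx → K) :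
    (chevG2.x K 0 t *ᵥ x) (eI 1) = x (eI 1) + t*x (eI 6) := by
  rw [mulVec_idx]
  change 0 * x (hI 0) + 0 * x (hI 1) + 0 * x (eI 0) + (1 + 0) * x (eI 1) + (0 + 0) * x (eI 2) + (0 + 0) * x (eI 3) + (0 + 0) * x (eI 4) + (0 + 0) * x (eI 5) + (0 + ((((1) : ℤ) : K) * t ^ 1 + 0)) * x (eI 6) + (0 + 0) * x (eI 7) + (0 + 0) * x (eI 8) + (0 + 0) * x (eI 9) + (0 + 0) * x (eI 10) + 0 * x (eI 11) = _
  push_cast
  grobner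

theorem xr0_4 (t : K) (x : chevG2.Idx → K) :
    (chevG2.x K 0 t *ᵥ x) (eI 2) = x (eI 2) + t*x (eI 8) := by
  rw [mulVec_idx]
  change 0 * x (hI 0) + 0 * x (hI 1) + 0 * x (eI 0) + (0 + 0) * x (eI 1) + (1 + 0) * x (eI 2) + (0 + 0) * x (eI 3) + (0 + 0) * x (eI 4) + (0 + 0) * x (eI 5) + (0 + 0) * x (eI 6) + (0 + 0) * x (eI 7) + (0 + ((((1) : ℤ) : K) * t ^ 1 + 0)) * x (eI 8) + (0 + 0) * x (eI 9) + (0 + 0) * x (eI 10) + 0 * x (eI 11) = _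
  push_cast
  grobner

theorem xr0_5 (t : K) (x : chevG2.Idx → K) :
    (chevG2.x K 0 t *ᵥ x) (eI 3) = x (eI 3) - t*x (eI 9) := by
  rw [mulVec_idx]
  change 0 * x (hI 0) + 0 * x (hI 1) + 0 * x (eI 0) + (0 + 0) * x (eI 1) + (0 + 0) * x (eI 2) + (1 + 0) * x (eI 3) + (0 + 0) * x (eI 4) + (0 + 0) * x (eI 5) + (0 + 0) * x (eI 6) + (0 + 0) * x (eI 7) + (0 + 0) * x (eI 8) + (0 + ((((-1) : ℤ) : K) * t ^ 1 + 0)) * x (eI 9) + (0 + 0) * x (eI 10) + 0 * x (eI 11) = _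
  push_cast
  grobner

theorem xr0_6 (t : K) (x : chevG2.Idx → K) :
    (chevG2.x K 0 t *ᵥ x) (eI 4) = x (eI 4) := by
  rw [mulVec_idx]
  change 0 * x (hI 0) + 0 * x (hI 1) + 0 * x (eI 0) + (0 + 0) * x (eI 1) + (0 + 0) * x (eI 2) + (0 + 0) * x (eI 3) + (1 + 0) * x (eI 4) + (0 + 0) * x (eI 5) + (0 + 0) * x (eI 6) + (0 + 0) * x (eI 7) + (0 + 0) * x (eI 8) + (0 + 0) * x (eI 9) + (0 + 0) * x (eI 10) + 0 * x (eI 11) = _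
  push_cast
  grobner

theorem xr0_7 (t : K) (x : chevG2.Idx → K) :
    (chevG2.x K 0 t *ᵥ x) (eI 5) = x (eI 5) - t*x (eI 10) := by
  rw [mulVec_idx]
  change 0 * x (hI 0) + 0 * x (hI 1) + 0 * x (eI 0) + (0 + 0) * x (eI 1) + (0 + 0) * x (eI 2) + (0 + 0) * x (eI 3) + (0 + 0) * x (eI 4) + (1 + 0) * x (eI 5) + (0 + 0) * x (eI 6) + (0 + 0) * x (eI 7) + (0 + 0) * x (eI 8) + (0 + 0) * x (eI 9) + (0 + ((((-1) : ℤ) : K) * t ^ 1 + 0)) * x (eI 10) + 0 * x (eI 11) = _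
  push_cast
  grobner

theorem xr0_8 (t : K) (x : chevG2.Idx → K) :
    (chevG2.x K 0 t *ᵥ x) (eI 6) = x (eI 6) := by
  rw [mulVec_idx]
  change 0 * x (hI 0) + 0 * x (hI 1) + 0 * x (eI 0) + (0 + 0) * x (eI 1) + (0 + 0) * x (eI 2) + (0 + 0) * x (eI 3) + (0 + 0) * x (eI 4) + (0 + 0) * x (eI 5) + (1 + 0) * x (eI 6) + (0 + 0) * x (eI 7) + (0 + 0) * x (eI 8) + (0 + 0) * x (eI 9) + (0 + 0) * x (eI 10) + 0 * x (eI 11) = _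
  push_cast
  grobner

theorem xr0_9 (t : K) (x : chevG2.Idx → K) :
    (chevG2.x K 0 t *ᵥ x) (eI 7) = x (eI 7) := by
  rw [mulVec_idx]
  change 0 * x (hI 0) + 0 * x (hI 1) + 0 * x (eI 0) + (0 + 0) * x (eI 1) + (0 + 0) * x (eI 2) + (0 + 0) * x (eI 3) + (0 + 0) * x (eI 4) + (0 + 0) * x (eI 5) + (0 + 0) * x (eI 6) + (1 + 0) * x (eI 7) + (0 + 0) * x (eI 8) + (0 + 0) * x (eI 9) + (0 + 0) * x (eI 10) + 0 * x (eI 11) = _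
  push_cast
  grobner

theorem xr0_10 (t : K) (x : chevG2.Idx → K) :
    (chevG2.x K 0 t *ᵥ x) (eI 8) = x (eI 8) := by
  rw [mulVec_idx]
  change 0 * x (hI 0) + 0 * x (hI 1) + 0 * x (eI 0) + (0 + 0) * x (eI 1) + (0 + 0) * x (eI 2) + (0 + 0) * x (eI 3) + (0 + 0) * x (eI 4) + (0 + 0) * x (eI 5) + (0 + 0) * x (eI 6) + (0 + 0) * x (eI 7) + (1 + 0) * x (eI 8) + (0 + 0) * x (eI 9) + (0 + 0) * x (eI 10) + 0 * x (eI 11) = _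
  push_cast
  grobner

theorem xr0_11 (t : K) (x : chevG2.Idx → K) :
    (chevG2.x K 0 t *ᵥ x) (eI 9) = x (eI 9) := by
  rw [mulVec_idx]
  change 0 * x (hI 0) + 0 * x (hI 1) + 0 * x (eI 0) + (0 + 0) * x (eI 1) + (0 + 0) * x (eI 2) + (0 + 0) * x (eI 3) + (0 + 0) * x (eI 4) + (0 + 0) * x (eI 5) + (0 + 0) * x (eI 6) + (0 + 0) * x (eI 7) + (0 + 0) * x (eI 8) + (1 + 0) * x (eI 9) + (0 + 0) * x (eI 10) + 0 * x (eI 11) = _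
  push_cast
  grobner

theorem xr0_12 (t : K) (x : chevG2.Idx → K) :
    (chevG2.x K 0 t *ᵥ x) (eI 10) = x (eI 10) := by
  rw [mulVec_idx]
  change 0 * x (hI 0) + 0 * x (hI 1) + 0 * x (eI 0) + (0 + 0) * x (eI 1) + (0 + 0) * x (eI 2) + (0 + 0) * x (eI 3) + (0 + 0) * x (eI 4) + (0 + 0) * x (eI 5) + (0 + 0) * x (eI 6) + (0 + 0) * x (eI 7) + (0 + 0) * x (eI 8) + (0 + 0) * x (eI 9) + (1 + 0) * x (eI 10) + 0 * x (eI 11) = _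
  push_cast
  grobner

theorem xr0_13 (t : K) (x : chevG2.Idx → K) :
    (chevG2.x K 0 t *ᵥ x) (eI 11) = x (eI 11) := by
  rw [mulVec_idx]
  change 0 * x (hI 0) + 0 * x (hI 1) + 0 * x (eI 0) + (0 + 0) * x (eI 1) + (0 + 0) * x (eI 2) + (0 + 0) * x (eI 3) + (0 + 0) * x (eI 4) + (0 + 0) * x (eI 5) + (0 + 0) * x (eI 6) + (0 + 0) * x (eI 7) + (0 + 0) * x (eI 8) + (0 + 0) * x (eI 9) + (0 + 0) * x (eI 10) + 1 * x (eI 11) = _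
  push_cast
  grobner

theorem compat0 (t : K) : Compat (chevG2.x K 0 t) (A0 t) := by
  refine ⟨fun v => ?_, fun x v => ?_⟩
  · apply idx_ext <;>
      simp only [xr0_0, xr0_1, xr0_2, xr0_3, xr0_4, xr0_5, xr0_6, xr0_7, xr0_8, xr0_9, xr0_10, xr0_11, xr0_12, xr0_13, incl_0, incl_1, incl_2, incl_3, incl_4, incl_5, incl_6, incl_7, incl_8, incl_9, incl_10, incl_11, incl_12, incl_13, A0, mulVec7, v7_0, v7_1, v7_2, v7_3, v7_4, v7_5, v7_6] <;> grobner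
  · simp only [beta, xr0_0, xr0_1, xr0_2, xr0_3, xr0_4, xr0_5, xr0_6, xr0_7, xr0_8, xr0_9, xr0_10, xr0_11, xr0_12, xr0_13, A0, mulVec7, v7_0, v7_1, v7_2, v7_3, v7_4, v7_5, v7_6]
    apply vec7_congr <;> grobner

theorem xr1_0 (t : K) (x : chevG2.Idx → K) :
    (chevG2.x K 1 t *ᵥ x) (hI 0) = x (hI 0) - t*x (eI 10) := by
  rw [mulVec_idx]
  change 1 * x (hI 0) + 0 * x (hI 1) + 0 * x (eI 0) + 0 * x (eI 1) + 0 * x (eI 2) + 0 * x (eI 3) + 0 * x (eI 4) + 0 * x (eI 5) + 0 * x (eI 6) + 0 * x (eI 7) + 0 * x (eI 8) + 0 * x (eI 9) + ((((-1) : ℤ) : K) * t) * x (eI 10) + 0 * x (eI 11) = _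
  push_cast
  grobner

theorem xr1_1 (t : K) (x : chevG2.Idx → K) :
    (chevG2.x K 1 t *ᵥ x) (hI 1) = x (hI 1) - t*x (eI 10) := by
  rw [mulVec_idx]
  change 0 * x (hI 0) + 1 * x (hI 1) + 0 * x (eI 0) + 0 * x (eI 1) + 0 * x (eI 2) + 0 * x (eI 3) + 0 * x (eI 4) + 0 * x (eI 5) + 0 * x (eI 6) + 0 * x (eI 7) + 0 * x (eI 8) + 0 * x (eI 9) + ((((-1) : ℤ) : K) * t) * x (eI 10) + 0 * x (eI 11) = _
  push_cast
  grobner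

theorem xr1_2 (t : K) (x : chevG2.Idx → K) :
    (chevG2.x K 1 t *ᵥ x) (eI 0) = x (eI 0) + t*x (eI 5) := by
  rw [mulVec_idx]
  change 0 * x (hI 0) + 0 * x (hI 1) + (1 + 0) * x (eI 0) + 0 * x (eI 1) + (0 + 0) * x (eI 2) + (0 + 0) * x (eI 3) + (0 + 0) * x (eI 4) + (0 + ((((1) : ℤ) : K) * t ^ 1 + 0)) * x (eI 5) + (0 + 0) * x (eI 6) + (0 + 0) * x (eI 7) + (0 + 0) * x (eI 8) + (0 + 0) * x (eI 9) + 0 * x (eI 10) + (0 + 0) * x (eI 11) = _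
  push_cast
  grobner

theorem xr1_3 (t : K) (x : chevG2.Idx → K) :
    (chevG2.x K 1 t *ᵥ x) (eI 1) = x (eI 1) - t*x (hI 1) - t^2*x (eI 10) := by
  rw [mulVec_idx]
  change (-(((-3) : ℤ) : K) * t) * x (hI 0) + (-(((1) : ℤ) : K) * t) * x (hI 1) + (0 + 0) * x (eI 0) + 1 * x (eI 1) + (0 + 0) * x (eI 2) + (0 + 0) * x (eI 3) + (0 + 0) * x (eI 4) + (0 + 0) * x (eI 5) + (0 + 0) * x (eI 6) + (0 + 0) * x (eI 7) + (0 + 0) * x (eI 8) + (0 + 0) * x (eI 9) + (-(t ^ 2)) * x (eI 10) + (0 + 0) * x (eI 11) = _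
  push_cast
  grobner

theorem xr1_4 (t : K) (x : chevG2.Idx → K) :
    (chevG2.x K 1 t *ᵥ x) (eI 2) = x (eI 2) + t*x (eI 7) := by
  rw [mulVec_idx]
  change 0 * x (hI 0) + 0 * x (hI 1) + (0 + 0) * x (eI 0) + 0 * x (eI 1) + (1 + 0) * x (eI 2) + (0 + 0) * x (eI 3) + (0 + 0) * x (eI 4) + (0 + 0) * x (eI 5) + (0 + 0) * x (eI 6) + (0 + ((((1) : ℤ) : K) * t ^ 1 + 0)) * x (eI 7) + (0 + 0) * x (eI 8) + (0 + 0) * x (eI 9) + 0 * x (eI 10) + (0 + 0) * x (eI 11) = _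
  push_cast
  grobner

theorem xr1_5 (t : K) (x : chevG2.Idx → K) :
    (chevG2.x K 1 t *ᵥ x) (eI 3) = x (eI 3) := by
  rw [mulVec_idx]
  change 0 * x (hI 0) + 0 * x (hI 1) + (0 + 0) * x (eI 0) + 0 * x (eI 1) + (0 + 0) * x (eI 2) + (1 + 0) * x (eI 3) + (0 + 0) * x (eI 4) + (0 + 0) * x (eI 5) + (0 + 0) * x (eI 6) + (0 + 0) * x (eI 7) + (0 + 0) * x (eI 8) + (0 + 0) * x (eI 9) + 0 * x (eI 10) + (0 + 0) * x (eI 11) = _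
  push_cast
  grobner

theorem xr1_6 (t : K) (x : chevG2.Idx → K) :
    (chevG2.x K 1 t *ᵥ x) (eI 4) = x (eI 4) - t*x (eI 9) := by
  rw [mulVec_idx]
  change 0 * x (hI 0) + 0 * x (hI 1) + (0 + 0) * x (eI 0) + 0 * x (eI 1) + (0 + 0) * x (eI 2) + (0 + 0) * x (eI 3) + (1 + 0) * x (eI 4) + (0 + 0) * x (eI 5) + (0 + 0) * x (eI 6) + (0 + 0) * x (eI 7) + (0 + 0) * x (eI 8) + (0 + ((((-1) : ℤ) : K) * t ^ 1 + 0)) * x (eI 9) + 0 * x (eI 10) + (0 + 0) * x (eI 11) = _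
  push_cast
  grobner

theorem xr1_7 (t : K) (x : chevG2.Idx → K) :
    (chevG2.x K 1 t *ᵥ x) (eI 5) = x (eI 5) := by
  rw [mulVec_idx]
  change 0 * x (hI 0) + 0 * x (hI 1) + (0 + 0) * x (eI 0) + 0 * x (eI 1) + (0 + 0) * x (eI 2) + (0 + 0) * x (eI 3) + (0 + 0) * x (eI 4) + (1 + 0) * x (eI 5) + (0 + 0) * x (eI 6) + (0 + 0) * x (eI 7) + (0 + 0) * x (eI 8) + (0 + 0) * x (eI 9) + 0 * x (eI 10) + (0 + 0) * x (eI 11) = _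
  push_cast
  grobner

theorem xr1_8 (t : K) (x : chevG2.Idx → K) :
    (chevG2.x K 1 t *ᵥ x) (eI 6) = x (eI 6) - t*x (eI 11) := by
  rw [mulVec_idx]
  change 0 * x (hI 0) + 0 * x (hI 1) + (0 + 0) * x (eI 0) + 0 * x (eI 1) + (0 + 0) * x (eI 2) + (0 + 0) * x (eI 3) + (0 + 0) * x (eI 4) + (0 + 0) * x (eI 5) + (1 + 0) * x (eI 6) + (0 + 0) * x (eI 7) + (0 + 0) * x (eI 8) + (0 + 0) * x (eI 9) + 0 * x (eI 10) + (0 + ((((-1) : ℤ) : K) * t ^ 1 + 0)) * x (eI 11) = _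
  push_cast
  grobner

theorem xr1_9 (t : K) (x : chevG2.Idx → K) :
    (chevG2.x K 1 t *ᵥ x) (eI 7) = x (eI 7) := by
  rw [mulVec_idx]
  change 0 * x (hI 0) + 0 * x (hI 1) + (0 + 0) * x (eI 0) + 0 * x (eI 1) + (0 + 0) * x (eI 2) + (0 + 0) * x (eI 3) + (0 + 0) * x (eI 4) + (0 + 0) * x (eI 5) + (0 + 0) * x (eI 6) + (1 + 0) * x (eI 7) + (0 + 0) * x (eI 8) + (0 + 0) * x (eI 9) + 0 * x (eI 10) + (0 + 0) * x (eI 11) = _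
  push_cast
  grobner

theorem xr1_10 (t : K) (x : chevG2.Idx → K) :
    (chevG2.x K 1 t *ᵥ x) (eI 8) = x (eI 8) := by
  rw [mulVec_idx]
  change 0 * x (hI 0) + 0 * x (hI 1) + (0 + 0) * x (eI 0) + 0 * x (eI 1) + (0 + 0) * x (eI 2) + (0 + 0) * x (eI 3) + (0 + 0) * x (eI 4) + (0 + 0) * x (eI 5) + (0 + 0) * x (eI 6) + (0 + 0) * x (eI 7) + (1 + 0) * x (eI 8) + (0 + 0) * x (eI 9) + 0 * x (eI 10) + (0 + 0) * x (eI 11) = _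
  push_cast
  grobner

theorem xr1_11 (t : K) (x : chevG2.Idx → K) :
    (chevG2.x K 1 t *ᵥ x) (eI 9) = x (eI 9) := by
  rw [mulVec_idx]
  change 0 * x (hI 0) + 0 * x (hI 1) + (0 + 0) * x (eI 0) + 0 * x (eI 1) + (0 + 0) * x (eI 2) + (0 + 0) * x (eI 3) + (0 + 0) * x (eI 4) + (0 + 0) * x (eI 5) + (0 + 0) * x (eI 6) + (0 + 0) * x (eI 7) + (0 + 0) * x (eI 8) + (1 + 0) * x (eI 9) + 0 * x (eI 10) + (0 + 0) * x (eI 11) = _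
  push_cast
  grobner

theorem xr1_12 (t : K) (x : chevG2.Idx → K) :
    (chevG2.x K 1 t *ᵥ x) (eI 10) = x (eI 10) := by
  rw [mulVec_idx]
  change 0 * x (hI 0) + 0 * x (hI 1) + (0 + 0) * x (eI 0) + 0 * x (eI 1) + (0 + 0) * x (eI 2) + (0 + 0) * x (eI 3) + (0 + 0) * x (eI 4) + (0 + 0) * x (eI 5) + (0 + 0) * x (eI 6) + (0 + 0) * x (eI 7) + (0 + 0) * x (eI 8) + (0 + 0) * x (eI 9) + 1 * x (eI 10) + (0 + 0) * x (eI 11) = _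
  push_cast
  grobner

theorem xr1_13 (t : K) (x : chevG2.Idx → K) :
    (chevG2.x K 1 t *ᵥ x) (eI 11) = x (eI 11) := by
  rw [mulVec_idx]
  change 0 * x (hI 0) + 0 * x (hI 1) + (0 + 0) * x (eI 0) + 0 * x (eI 1) + (0 + 0) * x (eI 2) + (0 + 0) * x (eI 3) + (0 + 0) * x (eI 4) + (0 + 0) * x (eI 5) + (0 + 0) * x (eI 6) + (0 + 0) * x (eI 7) + (0 + 0) * x (eI 8) + (0 + 0) * x (eI 9) + 0 * x (eI 10) + (1 + 0) * x (eI 11) = _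
  push_cast
  grobner

theorem compat1 (t : K) : Compat (chevG2.x K 1 t) (A1 t) := by
  refine ⟨fun v => ?_, fun x v => ?_⟩
  · apply idx_ext <;>
      simp only [xr1_0, xr1_1, xr1_2, xr1_3, xr1_4, xr1_5, xr1_6, xr1_7, xr1_8, xr1_9, xr1_10, xr1_11, xr1_12, xr1_13, incl_0, incl_1, incl_2, incl_3, incl_4, incl_5, incl_6, incl_7, incl_8, incl_9, incl_10, incl_11, incl_12, incl_13, A1, mulVec7, v7_0, v7_1, v7_2, v7_3, v7_4, v7_5, v7_6] <;> grobner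
  · simp only [beta, xr1_0, xr1_1, xr1_2, xr1_3, xr1_4, xr1_5, xr1_6, xr1_7, xr1_8, xr1_9, xr1_10, xr1_11, xr1_12, xr1_13, A1, mulVec7, v7_0, v7_1, v7_2, v7_3, v7_4, v7_5, v7_6]
    apply vec7_congr <;> grobner

theorem xr2_0 (t : K) (x : chevG2.Idx → K) :
    (chevG2.x K 2 t *ᵥ x) (hI 0) = x (hI 0) + t*x (eI 9) := by
  rw [mulVec_idx]
  change 1 * x (hI 0) + 0 * x (hI 1) + 0 * x (eI 0) + 0 * x (eI 1) + 0 * x (eI 2) + 0 * x (eI 3) + 0 * x (eI 4) + 0 * x (eI 5) + 0 * x (eI 6) + 0 * x (eI 7) + 0 * x (eI 8) + ((((-2) : ℤ) : K) * t) * x (eI 9) + 0 * x (eI 10) + 0 * x (eI 11) = _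
  push_cast
  grobner

theorem xr2_1 (t : K) (x : chevG2.Idx → K) :
    (chevG2.x K 2 t *ᵥ x) (hI 1) = x (hI 1) := by
  rw [mulVec_idx]
  change 0 * x (hI 0) + 1 * x (hI 1) + 0 * x (eI 0) + 0 * x (eI 1) + 0 * x (eI 2) + 0 * x (eI 3) + 0 * x (eI 4) + 0 * x (eI 5) + 0 * x (eI 6) + 0 * x (eI 7) + 0 * x (eI 8) + ((((-3) : ℤ) : K) * t) * x (eI 9) + 0 * x (eI 10) + 0 * x (eI 11) = _
  push_cast
  grobner

theorem xr2_2 (t : K) (x : chevG2.Idx → K) :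
    (chevG2.x K 2 t *ᵥ x) (eI 0) = x (eI 0) + t^3*x (eI 10) := by
  rw [mulVec_idx]
  change 0 * x (hI 0) + 0 * x (hI 1) + (1 + 0) * x (eI 0) + (0 + 0) * x (eI 1) + 0 * x (eI 2) + (0 + ((((3) : ℤ) : K) * t ^ 1 + 0)) * x (eI 3) + (0 + 0) * x (eI 4) + (0 + 0) * x (eI 5) + (0 + 0) * x (eI 6) + (0 + ((((-3) : ℤ) : K) * t ^ 2 + 0)) * x (eI 7) + (0 + 0) * x (eI 8) + 0 * x (eI 9) + (0 + ((((1) : ℤ) : K) * t ^ 3 + 0)) * x (eI 10) + (0 + 0) * x (eI 11) = _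
  push_cast
  grobner

theorem xr2_3 (t : K) (x : chevG2.Idx → K) :
    (chevG2.x K 2 t *ᵥ x) (eI 1) = x (eI 1) - t^3*x (eI 11) := by
  rw [mulVec_idx]
  change 0 * x (hI 0) + 0 * x (hI 1) + (0 + 0) * x (eI 0) + (1 + 0) * x (eI 1) + 0 * x (eI 2) + (0 + 0) * x (eI 3) + (0 + ((((3) : ℤ) : K) * t ^ 1 + 0)) * x (eI 4) + (0 + 0) * x (eI 5) + (0 + 0) * x (eI 6) + (0 + 0) * x (eI 7) + (0 + ((((3) : ℤ) : K) * t ^ 2 + 0)) * x (eI 8) + 0 * x (eI 9) + (0 + 0) * x (eI 10) + (0 + ((((-1) : ℤ) : K) * t ^ 3 + 0)) * x (eI 11) = _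
  push_cast
  grobner

theorem xr2_4 (t : K) (x : chevG2.Idx → K) :
    (chevG2.x K 2 t *ᵥ x) (eI 2) = x (eI 2) + t*x (hI 0) - t^2*x (eI 9) := by
  rw [mulVec_idx]
  change (-(((-1) : ℤ) : K) * t) * x (hI 0) + (-(((0) : ℤ) : K) * t) * x (hI 1) + (0 + 0) * x (eI 0) + (0 + 0) * x (eI 1) + 1 * x (eI 2) + (0 + 0) * x (eI 3) + (0 + 0) * x (eI 4) + (0 + 0) * x (eI 5) + (0 + 0) * x (eI 6) + (0 + 0) * x (eI 7) + (0 + 0) * x (eI 8) + (-(t ^ 2)) * x (eI 9) + (0 + 0) * x (eI 10) + (0 + 0) * x (eI 11) = _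
  push_cast
  grobner

theorem xr2_5 (t : K) (x : chevG2.Idx → K) :
    (chevG2.x K 2 t *ᵥ x) (eI 3) = x (eI 3) + t*x (eI 7) + t^2*x (eI 10) := by
  rw [mulVec_idx]
  change 0 * x (hI 0) + 0 * x (hI 1) + (0 + 0) * x (eI 0) + (0 + 0) * x (eI 1) + 0 * x (eI 2) + (1 + 0) * x (eI 3) + (0 + 0) * x (eI 4) + (0 + 0) * x (eI 5) + (0 + 0) * x (eI 6) + (0 + ((((-2) : ℤ) : K) * t ^ 1 + 0)) * x (eI 7) + (0 + 0) * x (eI 8) + 0 * x (eI 9) + (0 + ((((1) : ℤ) : K) * t ^ 2 + 0)) * x (eI 10) + (0 + 0) * x (eI 11) = _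
  push_cast
  grobner

theorem xr2_6 (t : K) (x : chevG2.Idx → K) :
    (chevG2.x K 2 t *ᵥ x) (eI 4) = x (eI 4) - t*x (eI 8) - t^2*x (eI 11) := by
  rw [mulVec_idx]
  change 0 * x (hI 0) + 0 * x (hI 1) + (0 + 0) * x (eI 0) + (0 + 0) * x (eI 1) + 0 * x (eI 2) + (0 + 0) * x (eI 3) + (1 + 0) * x (eI 4) + (0 + 0) * x (eI 5) + (0 + 0) * x (eI 6) + (0 + 0) * x (eI 7) + (0 + ((((2) : ℤ) : K) * t ^ 1 + 0)) * x (eI 8) + 0 * x (eI 9) + (0 + 0) * x (eI 10) + (0 + ((((-1) : ℤ) : K) * t ^ 2 + 0)) * x (eI 11) = _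
  push_cast
  grobner

theorem xr2_7 (t : K) (x : chevG2.Idx → K) :
    (chevG2.x K 2 t *ᵥ x) (eI 5) = x (eI 5) := by
  rw [mulVec_idx]
  change 0 * x (hI 0) + 0 * x (hI 1) + (0 + 0) * x (eI 0) + (0 + 0) * x (eI 1) + 0 * x (eI 2) + (0 + 0) * x (eI 3) + (0 + 0) * x (eI 4) + (1 + 0) * x (eI 5) + (0 + 0) * x (eI 6) + (0 + 0) * x (eI 7) + (0 + 0) * x (eI 8) + 0 * x (eI 9) + (0 + 0) * x (eI 10) + (0 + 0) * x (eI 11) = _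
  push_cast
  grobner

theorem xr2_8 (t : K) (x : chevG2.Idx → K) :
    (chevG2.x K 2 t *ᵥ x) (eI 6) = x (eI 6) := by
  rw [mulVec_idx]
  change 0 * x (hI 0) + 0 * x (hI 1) + (0 + 0) * x (eI 0) + (0 + 0) * x (eI 1) + 0 * x (eI 2) + (0 + 0) * x (eI 3) + (0 + 0) * x (eI 4) + (0 + 0) * x (eI 5) + (1 + 0) * x (eI 6) + (0 + 0) * x (eI 7) + (0 + 0) * x (eI 8) + 0 * x (eI 9) + (0 + 0) * x (eI 10) + (0 + 0) * x (eI 11) = _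
  push_cast
  grobner

theorem xr2_9 (t : K) (x : chevG2.Idx → K) :
    (chevG2.x K 2 t *ᵥ x) (eI 7) = x (eI 7) - t*x (eI 10) := by
  rw [mulVec_idx]
  change 0 * x (hI 0) + 0 * x (hI 1) + (0 + 0) * x (eI 0) + (0 + 0) * x (eI 1) + 0 * x (eI 2) + (0 + 0) * x (eI 3) + (0 + 0) * x (eI 4) + (0 + 0) * x (eI 5) + (0 + 0) * x (eI 6) + (1 + 0) * x (eI 7) + (0 + 0) * x (eI 8) + 0 * x (eI 9) + (0 + ((((-1) : ℤ) : K) * t ^ 1 + 0)) * x (eI 10) + (0 + 0) * x (eI 11) = _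
  push_cast
  grobner

theorem xr2_10 (t : K) (x : chevG2.Idx → K) :
    (chevG2.x K 2 t *ᵥ x) (eI 8) = x (eI 8) - t*x (eI 11) := by
  rw [mulVec_idx]
  change 0 * x (hI 0) + 0 * x (hI 1) + (0 + 0) * x (eI 0) + (0 + 0) * x (eI 1) + 0 * x (eI 2) + (0 + 0) * x (eI 3) + (0 + 0) * x (eI 4) + (0 + 0) * x (eI 5) + (0 + 0) * x (eI 6) + (0 + 0) * x (eI 7) + (1 + 0) * x (eI 8) + 0 * x (eI 9) + (0 + 0) * x (eI 10) + (0 + ((((-1) : ℤ) : K) * t ^ 1 + 0)) * x (eI 11) = _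
  push_cast
  grobner

theorem xr2_11 (t : K) (x : chevG2.Idx → K) :
    (chevG2.x K 2 t *ᵥ x) (eI 9) = x (eI 9) := by
  rw [mulVec_idx]
  change 0 * x (hI 0) + 0 * x (hI 1) + (0 + 0) * x (eI 0) + (0 + 0) * x (eI 1) + 0 * x (eI 2) + (0 + 0) * x (eI 3) + (0 + 0) * x (eI 4) + (0 + 0) * x (eI 5) + (0 + 0) * x (eI 6) + (0 + 0) * x (eI 7) + (0 + 0) * x (eI 8) + 1 * x (eI 9) + (0 + 0) * x (eI 10) + (0 + 0) * x (eI 11) = _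
  push_cast
  grobner

theorem xr2_12 (t : K) (x : chevG2.Idx → K) :
    (chevG2.x K 2 t *ᵥ x) (eI 10) = x (eI 10) := by
  rw [mulVec_idx]
  change 0 * x (hI 0) + 0 * x (hI 1) + (0 + 0) * x (eI 0) + (0 + 0) * x (eI 1) + 0 * x (eI 2) + (0 + 0) * x (eI 3) + (0 + 0) * x (eI 4) + (0 + 0) * x (eI 5) + (0 + 0) * x (eI 6) + (0 + 0) * x (eI 7) + (0 + 0) * x (eI 8) + 0 * x (eI 9) + (1 + 0) * x (eI 10) + (0 + 0) * x (eI 11) = _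
  push_cast
  grobner

theorem xr2_13 (t : K) (x : chevG2.Idx → K) :
    (chevG2.x K 2 t *ᵥ x) (eI 11) = x (eI 11) := by
  rw [mulVec_idx]
  change 0 * x (hI 0) + 0 * x (hI 1) + (0 + 0) * x (eI 0) + (0 + 0) * x (eI 1) + 0 * x (eI 2) + (0 + 0) * x (eI 3) + (0 + 0) * x (eI 4) + (0 + 0) * x (eI 5) + (0 + 0) * x (eI 6) + (0 + 0) * x (eI 7) + (0 + 0) * x (eI 8) + 0 * x (eI 9) + (0 + 0) * x (eI 10) + (1 + 0) * x (eI 11) = _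
  push_cast
  grobner

theorem compat2 (t : K) : Compat (chevG2.x K 2 t) (A2 t) := by
  refine ⟨fun v => ?_, fun x v => ?_⟩
  · apply idx_ext <;>
      simp only [xr2_0, xr2_1, xr2_2, xr2_3, xr2_4, xr2_5, xr2_6, xr2_7, xr2_8, xr2_9, xr2_10, xr2_11, xr2_12, xr2_13, incl_0, incl_1, incl_2, incl_3, incl_4, incl_5, incl_6, incl_7, incl_8, incl_9, incl_10, incl_11, incl_12, incl_13, A2, mulVec7, v7_0, v7_1, v7_2, v7_3, v7_4, v7_5, v7_6] <;> grobner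
  · simp only [beta, xr2_0, xr2_1, xr2_2, xr2_3, xr2_4, xr2_5, xr2_6, xr2_7, xr2_8, xr2_9, xr2_10, xr2_11, xr2_12, xr2_13, A2, mulVec7, v7_0, v7_1, v7_2, v7_3, v7_4, v7_5, v7_6]
    apply vec7_congr <;> grobner

theorem xr3_0 (t : K) (x : chevG2.Idx → K) :
    (chevG2.x K 3 t *ᵥ x) (hI 0) = x (hI 0) - t*x (eI 8) := by
  rw [mulVec_idx]
  change 1 * x (hI 0) + 0 * x (hI 1) + 0 * x (eI 0) + 0 * x (eI 1) + 0 * x (eI 2) + 0 * x (eI 3) + 0 * x (eI 4) + 0 * x (eI 5) + 0 * x (eI 6) + 0 * x (eI 7) + ((((-1) : ℤ) : K) * t) * x (eI 8) + 0 * x (eI 9) + 0 * x (eI 10) + 0 * x (eI 11) = _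
  push_cast
  grobner

theorem xr3_1 (t : K) (x : chevG2.Idx → K) :
    (chevG2.x K 3 t *ᵥ x) (hI 1) = x (hI 1) := by
  rw [mulVec_idx]
  change 0 * x (hI 0) + 1 * x (hI 1) + 0 * x (eI 0) + 0 * x (eI 1) + 0 * x (eI 2) + 0 * x (eI 3) + 0 * x (eI 4) + 0 * x (eI 5) + 0 * x (eI 6) + 0 * x (eI 7) + ((((-3) : ℤ) : K) * t) * x (eI 8) + 0 * x (eI 9) + 0 * x (eI 10) + 0 * x (eI 11) = _
  push_cast
  grobner

theorem xr3_2 (t : K) (x : chevG2.Idx → K) :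
    (chevG2.x K 3 t *ᵥ x) (eI 0) = x (eI 0) + t^3*x (eI 6) := by
  rw [mulVec_idx]
  change 0 * x (hI 0) + 0 * x (hI 1) + (1 + 0) * x (eI 0) + (0 + 0) * x (eI 1) + (0 + ((((-3) : ℤ) : K) * t ^ 1 + 0)) * x (eI 2) + 0 * x (eI 3) + (0 + ((((3) : ℤ) : K) * t ^ 2 + 0)) * x (eI 4) + (0 + 0) * x (eI 5) + (0 + ((((1) : ℤ) : K) * t ^ 3 + 0)) * x (eI 6) + (0 + 0) * x (eI 7) + 0 * x (eI 8) + (0 + 0) * x (eI 9) + (0 + 0) * x (eI 10) + (0 + 0) * x (eI 11) = _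
  push_cast
  grobner

theorem xr3_3 (t : K) (x : chevG2.Idx → K) :
    (chevG2.x K 3 t *ᵥ x) (eI 1) = x (eI 1) := by
  rw [mulVec_idx]
  change 0 * x (hI 0) + 0 * x (hI 1) + (0 + 0) * x (eI 0) + (1 + 0) * x (eI 1) + (0 + 0) * x (eI 2) + 0 * x (eI 3) + (0 + 0) * x (eI 4) + (0 + 0) * x (eI 5) + (0 + 0) * x (eI 6) + (0 + 0) * x (eI 7) + 0 * x (eI 8) + (0 + 0) * x (eI 9) + (0 + 0) * x (eI 10) + (0 + 0) * x (eI 11) = _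
  push_cast
  grobner

theorem xr3_4 (t : K) (x : chevG2.Idx → K) :
    (chevG2.x K 3 t *ᵥ x) (eI 2) = x (eI 2) + t*x (eI 4) - t^2*x (eI 6) := by
  rw [mulVec_idx]
  change 0 * x (hI 0) + 0 * x (hI 1) + (0 + 0) * x (eI 0) + (0 + 0) * x (eI 1) + (1 + 0) * x (eI 2) + 0 * x (eI 3) + (0 + ((((-2) : ℤ) : K) * t ^ 1 + 0)) * x (eI 4) + (0 + 0) * x (eI 5) + (0 + ((((-1) : ℤ) : K) * t ^ 2 + 0)) * x (eI 6) + (0 + 0) * x (eI 7) + 0 * x (eI 8) + (0 + 0) * x (eI 9) + (0 + 0) * x (eI 10) + (0 + 0) * x (eI 11) = _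
  push_cast
  grobner

theorem xr3_5 (t : K) (x : chevG2.Idx → K) :
    (chevG2.x K 3 t *ᵥ x) (eI 3) = x (eI 3) - t*x (hI 0) + t*x (hI 1) - t^2*x (eI 8) := by
  rw [mulVec_idx]
  change (-(((1) : ℤ) : K) * t) * x (hI 0) + (-(((-1) : ℤ) : K) * t) * x (hI 1) + (0 + 0) * x (eI 0) + (0 + 0) * x (eI 1) + (0 + 0) * x (eI 2) + 1 * x (eI 3) + (0 + 0) * x (eI 4) + (0 + 0) * x (eI 5) + (0 + 0) * x (eI 6) + (0 + 0) * x (eI 7) + (-(t ^ 2)) * x (eI 8) + (0 + 0) * x (eI 9) + (0 + 0) * x (eI 10) + (0 + 0) * x (eI 11) = _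
  push_cast
  grobner

theorem xr3_6 (t : K) (x : chevG2.Idx → K) :
    (chevG2.x K 3 t *ᵥ x) (eI 4) = x (eI 4) + t*x (eI 6) := by
  rw [mulVec_idx]
  change 0 * x (hI 0) + 0 * x (hI 1) + (0 + 0) * x (eI 0) + (0 + 0) * x (eI 1) + (0 + 0) * x (eI 2) + 0 * x (eI 3) + (1 + 0) * x (eI 4) + (0 + 0) * x (eI 5) + (0 + ((((1) : ℤ) : K) * t ^ 1 + 0)) * x (eI 6) + (0 + 0) * x (eI 7) + 0 * x (eI 8) + (0 + 0) * x (eI 9) + (0 + 0) * x (eI 10) + (0 + 0) * x (eI 11) = _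
  push_cast
  grobner

theorem xr3_7 (t : K) (x : chevG2.Idx → K) :
    (chevG2.x K 3 t *ᵥ x) (eI 5) = x (eI 5) - t^3*x (eI 11) := by
  rw [mulVec_idx]
  change 0 * x (hI 0) + 0 * x (hI 1) + (0 + 0) * x (eI 0) + (0 + 0) * x (eI 1) + (0 + 0) * x (eI 2) + 0 * x (eI 3) + (0 + 0) * x (eI 4) + (1 + 0) * x (eI 5) + (0 + 0) * x (eI 6) + (0 + ((((-3) : ℤ) : K) * t ^ 1 + 0)) * x (eI 7) + 0 * x (eI 8) + (0 + ((((-3) : ℤ) : K) * t ^ 2 + 0)) * x (eI 9) + (0 + 0) * x (eI 10) + (0 + ((((-1) : ℤ) : K) * t ^ 3 + 0)) * x (eI 11) = _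
  push_cast
  grobner

theorem xr3_8 (t : K) (x : chevG2.Idx → K) :
    (chevG2.x K 3 t *ᵥ x) (eI 6) = x (eI 6) := by
  rw [mulVec_idx]
  change 0 * x (hI 0) + 0 * x (hI 1) + (0 + 0) * x (eI 0) + (0 + 0) * x (eI 1) + (0 + 0) * x (eI 2) + 0 * x (eI 3) + (0 + 0) * x (eI 4) + (0 + 0) * x (eI 5) + (1 + 0) * x (eI 6) + (0 + 0) * x (eI 7) + 0 * x (eI 8) + (0 + 0) * x (eI 9) + (0 + 0) * x (eI 10) + (0 + 0) * x (eI 11) = _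
  push_cast
  grobner

theorem xr3_9 (t : K) (x : chevG2.Idx → K) :
    (chevG2.x K 3 t *ᵥ x) (eI 7) = x (eI 7) - t*x (eI 9) + t^2*x (eI 11) := by
  rw [mulVec_idx]
  change 0 * x (hI 0) + 0 * x (hI 1) + (0 + 0) * x (eI 0) + (0 + 0) * x (eI 1) + (0 + 0) * x (eI 2) + 0 * x (eI 3) + (0 + 0) * x (eI 4) + (0 + 0) * x (eI 5) + (0 + 0) * x (eI 6) + (1 + 0) * x (eI 7) + 0 * x (eI 8) + (0 + ((((2) : ℤ) : K) * t ^ 1 + 0)) * x (eI 9) + (0 + 0) * x (eI 10) + (0 + ((((1) : ℤ) : K) * t ^ 2 + 0)) * x (eI 11) = _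
  push_cast
  grobner

theorem xr3_10 (t : K) (x : chevG2.Idx → K) :
    (chevG2.x K 3 t *ᵥ x) (eI 8) = x (eI 8) := by
  rw [mulVec_idx]
  change 0 * x (hI 0) + 0 * x (hI 1) + (0 + 0) * x (eI 0) + (0 + 0) * x (eI 1) + (0 + 0) * x (eI 2) + 0 * x (eI 3) + (0 + 0) * x (eI 4) + (0 + 0) * x (eI 5) + (0 + 0) * x (eI 6) + (0 + 0) * x (eI 7) + 1 * x (eI 8) + (0 + 0) * x (eI 9) + (0 + 0) * x (eI 10) + (0 + 0) * x (eI 11) = _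
  push_cast
  grobner

theorem xr3_11 (t : K) (x : chevG2.Idx → K) :
    (chevG2.x K 3 t *ᵥ x) (eI 9) = x (eI 9) + t*x (eI 11) := by
  rw [mulVec_idx]
  change 0 * x (hI 0) + 0 * x (hI 1) + (0 + 0) * x (eI 0) + (0 + 0) * x (eI 1) + (0 + 0) * x (eI 2) + 0 * x (eI 3) + (0 + 0) * x (eI 4) + (0 + 0) * x (eI 5) + (0 + 0) * x (eI 6) + (0 + 0) * x (eI 7) + 0 * x (eI 8) + (1 + 0) * x (eI 9) + (0 + 0) * x (eI 10) + (0 + ((((1) : ℤ) : K) * t ^ 1 + 0)) * x (eI 11) = _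
  push_cast
  grobner

theorem xr3_12 (t : K) (x : chevG2.Idx → K) :
    (chevG2.x K 3 t *ᵥ x) (eI 10) = x (eI 10) := by
  rw [mulVec_idx]
  change 0 * x (hI 0) + 0 * x (hI 1) + (0 + 0) * x (eI 0) + (0 + 0) * x (eI 1) + (0 + 0) * x (eI 2) + 0 * x (eI 3) + (0 + 0) * x (eI 4) + (0 + 0) * x (eI 5) + (0 + 0) * x (eI 6) + (0 + 0) * x (eI 7) + 0 * x (eI 8) + (0 + 0) * x (eI 9) + (1 + 0) * x (eI 10) + (0 + 0) * x (eI 11) = _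
  push_cast
  grobner

theorem xr3_13 (t : K) (x : chevG2.Idx → K) :
    (chevG2.x K 3 t *ᵥ x) (eI 11) = x (eI 11) := by
  rw [mulVec_idx]
  change 0 * x (hI 0) + 0 * x (hI 1) + (0 + 0) * x (eI 0) + (0 + 0) * x (eI 1) + (0 + 0) * x (eI 2) + 0 * x (eI 3) + (0 + 0) * x (eI 4) + (0 + 0) * x (eI 5) + (0 + 0) * x (eI 6) + (0 + 0) * x (eI 7) + 0 * x (eI 8) + (0 + 0) * x (eI 9) + (0 + 0) * x (eI 10) + (1 + 0) * x (eI 11) = _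
  push_cast
  grobner

theorem compat3 (t : K) : Compat (chevG2.x K 3 t) (A3 t) := by
  refine ⟨fun v => ?_, fun x v => ?_⟩
  · apply idx_ext <;>
      simp only [xr3_0, xr3_1, xr3_2, xr3_3, xr3_4, xr3_5, xr3_6, xr3_7, xr3_8, xr3_9, xr3_10, xr3_11, xr3_12, xr3_13, incl_0, incl_1, incl_2, incl_3, incl_4, incl_5, incl_6, incl_7, incl_8, incl_9, incl_10, incl_11, incl_12, incl_13, A3, mulVec7, v7_0, v7_1, v7_2, v7_3, v7_4, v7_5, v7_6] <;> grobner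
  · simp only [beta, xr3_0, xr3_1, xr3_2, xr3_3, xr3_4, xr3_5, xr3_6, xr3_7, xr3_8, xr3_9, xr3_10, xr3_11, xr3_12, xr3_13, A3, mulVec7, v7_0, v7_1, v7_2, v7_3, v7_4, v7_5, v7_6]
    apply vec7_congr <;> grobner

theorem xr4_0 (t : K) (x : chevG2.Idx → K) :
    (chevG2.x K 4 t *ᵥ x) (hI 0) = x (hI 0) - t*x (eI 7) := by
  rw [mulVec_idx]
  change 1 * x (hI 0) + 0 * x (hI 1) + 0 * x (eI 0) + 0 * x (eI 1) + 0 * x (eI 2) + 0 * x (eI 3) + 0 * x (eI 4) + 0 * x (eI 5) + 0 * x (eI 6) + ((((-1) : ℤ) : K) * t) * x (eI 7) + 0 * x (eI 8) + 0 * x (eI 9) + 0 * x (eI 10) + 0 * x (eI 11) = _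
  push_cast
  grobner

theorem xr4_1 (t : K) (x : chevG2.Idx → K) :
    (chevG2.x K 4 t *ᵥ x) (hI 1) = x (hI 1) := by
  rw [mulVec_idx]
  change 0 * x (hI 0) + 1 * x (hI 1) + 0 * x (eI 0) + 0 * x (eI 1) + 0 * x (eI 2) + 0 * x (eI 3) + 0 * x (eI 4) + 0 * x (eI 5) + 0 * x (eI 6) + ((((0) : ℤ) : K) * t) * x (eI 7) + 0 * x (eI 8) + 0 * x (eI 9) + 0 * x (eI 10) + 0 * x (eI 11) = _
  push_cast
  grobner

theorem xr4_2 (t : K) (x : chevG2.Idx → K) :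
    (chevG2.x K 4 t *ᵥ x) (eI 0) = x (eI 0) := by
  rw [mulVec_idx]
  change 0 * x (hI 0) + 0 * x (hI 1) + (1 + 0) * x (eI 0) + (0 + 0) * x (eI 1) + (0 + 0) * x (eI 2) + (0 + 0) * x (eI 3) + 0 * x (eI 4) + (0 + 0) * x (eI 5) + (0 + 0) * x (eI 6) + 0 * x (eI 7) + (0 + 0) * x (eI 8) + (0 + 0) * x (eI 9) + (0 + 0) * x (eI 10) + (0 + 0) * x (eI 11) = _
  push_cast
  grobner

theorem xr4_3 (t : K) (x : chevG2.Idx → K) :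
    (chevG2.x K 4 t *ᵥ x) (eI 1) = x (eI 1) - t^3*x (eI 5) := by
  rw [mulVec_idx]
  change 0 * x (hI 0) + 0 * x (hI 1) + (0 + 0) * x (eI 0) + (1 + 0) * x (eI 1) + (0 + ((((-3) : ℤ) : K) * t ^ 1 + 0)) * x (eI 2) + (0 + ((((-3) : ℤ) : K) * t ^ 2 + 0)) * x (eI 3) + 0 * x (eI 4) + (0 + ((((-1) : ℤ) : K) * t ^ 3 + 0)) * x (eI 5) + (0 + 0) * x (eI 6) + 0 * x (eI 7) + (0 + 0) * x (eI 8) + (0 + 0) * x (eI 9) + (0 + 0) * x (eI 10) + (0 + 0) * x (eI 11) = _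
  push_cast
  grobner

theorem xr4_4 (t : K) (x : chevG2.Idx → K) :
    (chevG2.x K 4 t *ᵥ x) (eI 2) = x (eI 2) - t*x (eI 3) + t^2*x (eI 5) := by
  rw [mulVec_idx]
  change 0 * x (hI 0) + 0 * x (hI 1) + (0 + 0) * x (eI 0) + (0 + 0) * x (eI 1) + (1 + 0) * x (eI 2) + (0 + ((((2) : ℤ) : K) * t ^ 1 + 0)) * x (eI 3) + 0 * x (eI 4) + (0 + ((((1) : ℤ) : K) * t ^ 2 + 0)) * x (eI 5) + (0 + 0) * x (eI 6) + 0 * x (eI 7) + (0 + 0) * x (eI 8) + (0 + 0) * x (eI 9) + (0 + 0) * x (eI 10) + (0 + 0) * x (eI 11) = _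
  push_cast
  grobner

theorem xr4_5 (t : K) (x : chevG2.Idx → K) :
    (chevG2.x K 4 t *ᵥ x) (eI 3) = x (eI 3) + t*x (eI 5) := by
  rw [mulVec_idx]
  change 0 * x (hI 0) + 0 * x (hI 1) + (0 + 0) * x (eI 0) + (0 + 0) * x (eI 1) + (0 + 0) * x (eI 2) + (1 + 0) * x (eI 3) + 0 * x (eI 4) + (0 + ((((1) : ℤ) : K) * t ^ 1 + 0)) * x (eI 5) + (0 + 0) * x (eI 6) + 0 * x (eI 7) + (0 + 0) * x (eI 8) + (0 + 0) * x (eI 9) + (0 + 0) * x (eI 10) + (0 + 0) * x (eI 11) = _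
  push_cast
  grobner

theorem xr4_6 (t : K) (x : chevG2.Idx → K) :
    (chevG2.x K 4 t *ᵥ x) (eI 4) = x (eI 4) - t*x (hI 0) - t*x (hI 1) - t^2*x (eI 7) := by
  rw [mulVec_idx]
  change (-(((-2) : ℤ) : K) * t) * x (hI 0) + (-(((1) : ℤ) : K) * t) * x (hI 1) + (0 + 0) * x (eI 0) + (0 + 0) * x (eI 1) + (0 + 0) * x (eI 2) + (0 + 0) * x (eI 3) + 1 * x (eI 4) + (0 + 0) * x (eI 5) + (0 + 0) * x (eI 6) + (-(t ^ 2)) * x (eI 7) + (0 + 0) * x (eI 8) + (0 + 0) * x (eI 9) + (0 + 0) * x (eI 10) + (0 + 0) * x (eI 11) = _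
  push_cast
  grobner

theorem xr4_7 (t : K) (x : chevG2.Idx → K) :
    (chevG2.x K 4 t *ᵥ x) (eI 5) = x (eI 5) := by
  rw [mulVec_idx]
  change 0 * x (hI 0) + 0 * x (hI 1) + (0 + 0) * x (eI 0) + (0 + 0) * x (eI 1) + (0 + 0) * x (eI 2) + (0 + 0) * x (eI 3) + 0 * x (eI 4) + (1 + 0) * x (eI 5) + (0 + 0) * x (eI 6) + 0 * x (eI 7) + (0 + 0) * x (eI 8) + (0 + 0) * x (eI 9) + (0 + 0) * x (eI 10) + (0 + 0) * x (eI 11) = _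
  push_cast
  grobner

theorem xr4_8 (t : K) (x : chevG2.Idx → K) :
    (chevG2.x K 4 t *ᵥ x) (eI 6) = x (eI 6) + t^3*x (eI 10) := by
  rw [mulVec_idx]
  change 0 * x (hI 0) + 0 * x (hI 1) + (0 + 0) * x (eI 0) + (0 + 0) * x (eI 1) + (0 + 0) * x (eI 2) + (0 + 0) * x (eI 3) + 0 * x (eI 4) + (0 + 0) * x (eI 5) + (1 + 0) * x (eI 6) + 0 * x (eI 7) + (0 + ((((-3) : ℤ) : K) * t ^ 1 + 0)) * x (eI 8) + (0 + ((((3) : ℤ) : K) * t ^ 2 + 0)) * x (eI 9) + (0 + ((((1) : ℤ) : K) * t ^ 3 + 0)) * x (eI 10) + (0 + 0) * x (eI 11) = _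
  push_cast
  grobner

theorem xr4_9 (t : K) (x : chevG2.Idx → K) :
    (chevG2.x K 4 t *ᵥ x) (eI 7) = x (eI 7) := by
  rw [mulVec_idx]
  change 0 * x (hI 0) + 0 * x (hI 1) + (0 + 0) * x (eI 0) + (0 + 0) * x (eI 1) + (0 + 0) * x (eI 2) + (0 + 0) * x (eI 3) + 0 * x (eI 4) + (0 + 0) * x (eI 5) + (0 + 0) * x (eI 6) + 1 * x (eI 7) + (0 + 0) * x (eI 8) + (0 + 0) * x (eI 9) + (0 + 0) * x (eI 10) + (0 + 0) * x (eI 11) = _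
  push_cast
  grobner

theorem xr4_10 (t : K) (x : chevG2.Idx → K) :
    (chevG2.x K 4 t *ᵥ x) (eI 8) = x (eI 8) + t*x (eI 9) - t^2*x (eI 10) := by
  rw [mulVec_idx]
  change 0 * x (hI 0) + 0 * x (hI 1) + (0 + 0) * x (eI 0) + (0 + 0) * x (eI 1) + (0 + 0) * x (eI 2) + (0 + 0) * x (eI 3) + 0 * x (eI 4) + (0 + 0) * x (eI 5) + (0 + 0) * x (eI 6) + 0 * x (eI 7) + (1 + 0) * x (eI 8) + (0 + ((((-2) : ℤ) : K) * t ^ 1 + 0)) * x (eI 9) + (0 + ((((-1) : ℤ) : K) * t ^ 2 + 0)) * x (eI 10) + (0 + 0) * x (eI 11) = _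
  push_cast
  grobner

theorem xr4_11 (t : K) (x : chevG2.Idx → K) :
    (chevG2.x K 4 t *ᵥ x) (eI 9) = x (eI 9) + t*x (eI 10) := by
  rw [mulVec_idx]
  change 0 * x (hI 0) + 0 * x (hI 1) + (0 + 0) * x (eI 0) + (0 + 0) * x (eI 1) + (0 + 0) * x (eI 2) + (0 + 0) * x (eI 3) + 0 * x (eI 4) + (0 + 0) * x (eI 5) + (0 + 0) * x (eI 6) + 0 * x (eI 7) + (0 + 0) * x (eI 8) + (1 + 0) * x (eI 9) + (0 + ((((1) : ℤ) : K) * t ^ 1 + 0)) * x (eI 10) + (0 + 0) * x (eI 11) = _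
  push_cast
  grobner

theorem xr4_12 (t : K) (x : chevG2.Idx → K) :
    (chevG2.x K 4 t *ᵥ x) (eI 10) = x (eI 10) := by
  rw [mulVec_idx]
  change 0 * x (hI 0) + 0 * x (hI 1) + (0 + 0) * x (eI 0) + (0 + 0) * x (eI 1) + (0 + 0) * x (eI 2) + (0 + 0) * x (eI 3) + 0 * x (eI 4) + (0 + 0) * x (eI 5) + (0 + 0) * x (eI 6) + 0 * x (eI 7) + (0 + 0) * x (eI 8) + (0 + 0) * x (eI 9) + (1 + 0) * x (eI 10) + (0 + 0) * x (eI 11) = _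
  push_cast
  grobner

theorem xr4_13 (t : K) (x : chevG2.Idx → K) :
    (chevG2.x K 4 t *ᵥ x) (eI 11) = x (eI 11) := by
  rw [mulVec_idx]
  change 0 * x (hI 0) + 0 * x (hI 1) + (0 + 0) * x (eI 0) + (0 + 0) * x (eI 1) + (0 + 0) * x (eI 2) + (0 + 0) * x (eI 3) + 0 * x (eI 4) + (0 + 0) * x (eI 5) + (0 + 0) * x (eI 6) + 0 * x (eI 7) + (0 + 0) * x (eI 8) + (0 + 0) * x (eI 9) + (0 + 0) * x (eI 10) + (1 + 0) * x (eI 11) = _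
  push_cast
  grobner

theorem compat4 (t : K) : Compat (chevG2.x K 4 t) (A4 t) := by
  refine ⟨fun v => ?_, fun x v => ?_⟩
  · apply idx_ext <;>
      simp only [xr4_0, xr4_1, xr4_2, xr4_3, xr4_4, xr4_5, xr4_6, xr4_7, xr4_8, xr4_9, xr4_10, xr4_11, xr4_12, xr4_13, incl_0, incl_1, incl_2, incl_3, incl_4, incl_5, incl_6, incl_7, incl_8, incl_9, incl_10, incl_11, incl_12, incl_13, A4, mulVec7, v7_0, v7_1, v7_2, v7_3, v7_4, v7_5, v7_6] <;> grobner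
  · simp only [beta, xr4_0, xr4_1, xr4_2, xr4_3, xr4_4, xr4_5, xr4_6, xr4_7, xr4_8, xr4_9, xr4_10, xr4_11, xr4_12, xr4_13, A4, mulVec7, v7_0, v7_1, v7_2, v7_3, v7_4, v7_5, v7_6]
    apply vec7_congr <;> grobner

theorem xr5_0 (t : K) (x : chevG2.Idx → K) :
    (chevG2.x K 5 t *ᵥ x) (hI 0) = x (hI 0) := by
  rw [mulVec_idx]
  change 1 * x (hI 0) + 0 * x (hI 1) + 0 * x (eI 0) + 0 * x (eI 1) + 0 * x (eI 2) + 0 * x (eI 3) + 0 * x (eI 4) + 0 * x (eI 5) + ((((0) : ℤ) : K) * t) * x (eI 6) + 0 * x (eI 7) + 0 * x (eI 8) + 0 * x (eI 9) + 0 * x (eI 10) + 0 * x (eI 11) = _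
  push_cast
  grobner

theorem xr5_1 (t : K) (x : chevG2.Idx → K) :
    (chevG2.x K 5 t *ᵥ x) (hI 1) = x (hI 1) - t*x (eI 6) := by
  rw [mulVec_idx]
  change 0 * x (hI 0) + 1 * x (hI 1) + 0 * x (eI 0) + 0 * x (eI 1) + 0 * x (eI 2) + 0 * x (eI 3) + 0 * x (eI 4) + 0 * x (eI 5) + ((((-1) : ℤ) : K) * t) * x (eI 6) + 0 * x (eI 7) + 0 * x (eI 8) + 0 * x (eI 9) + 0 * x (eI 10) + 0 * x (eI 11) = _
  push_cast
  grobner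

theorem xr5_2 (t : K) (x : chevG2.Idx → K) :
    (chevG2.x K 5 t *ᵥ x) (eI 0) = x (eI 0) - t*x (eI 1) := by
  rw [mulVec_idx]
  change 0 * x (hI 0) + 0 * x (hI 1) + (1 + 0) * x (eI 0) + (0 + ((((-1) : ℤ) : K) * t ^ 1 + 0)) * x (eI 1) + (0 + 0) * x (eI 2) + (0 + 0) * x (eI 3) + (0 + 0) * x (eI 4) + 0 * x (eI 5) + 0 * x (eI 6) + (0 + 0) * x (eI 7) + (0 + 0) * x (eI 8) + (0 + 0) * x (eI 9) + (0 + 0) * x (eI 10) + (0 + 0) * x (eI 11) = _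
  push_cast
  grobner

theorem xr5_3 (t : K) (x : chevG2.Idx → K) :
    (chevG2.x K 5 t *ᵥ x) (eI 1) = x (eI 1) := by
  rw [mulVec_idx]
  change 0 * x (hI 0) + 0 * x (hI 1) + (0 + 0) * x (eI 0) + (1 + 0) * x (eI 1) + (0 + 0) * x (eI 2) + (0 + 0) * x (eI 3) + (0 + 0) * x (eI 4) + 0 * x (eI 5) + 0 * x (eI 6) + (0 + 0) * x (eI 7) + (0 + 0) * x (eI 8) + (0 + 0) * x (eI 9) + (0 + 0) * x (eI 10) + (0 + 0) * x (eI 11) = _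
  push_cast
  grobner

theorem xr5_4 (t : K) (x : chevG2.Idx → K) :
    (chevG2.x K 5 t *ᵥ x) (eI 2) = x (eI 2) := by
  rw [mulVec_idx]
  change 0 * x (hI 0) + 0 * x (hI 1) + (0 + 0) * x (eI 0) + (0 + 0) * x (eI 1) + (1 + 0) * x (eI 2) + (0 + 0) * x (eI 3) + (0 + 0) * x (eI 4) + 0 * x (eI 5) + 0 * x (eI 6) + (0 + 0) * x (eI 7) + (0 + 0) * x (eI 8) + (0 + 0) * x (eI 9) + (0 + 0) * x (eI 10) + (0 + 0) * x (eI 11) = _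
  push_cast
  grobner

theorem xr5_5 (t : K) (x : chevG2.Idx → K) :
    (chevG2.x K 5 t *ᵥ x) (eI 3) = x (eI 3) - t*x (eI 4) := by
  rw [mulVec_idx]
  change 0 * x (hI 0) + 0 * x (hI 1) + (0 + 0) * x (eI 0) + (0 + 0) * x (eI 1) + (0 + 0) * x (eI 2) + (1 + 0) * x (eI 3) + (0 + ((((-1) : ℤ) : K) * t ^ 1 + 0)) * x (eI 4) + 0 * x (eI 5) + 0 * x (eI 6) + (0 + 0) * x (eI 7) + (0 + 0) * x (eI 8) + (0 + 0) * x (eI 9) + (0 + 0) * x (eI 10) + (0 + 0) * x (eI 11) = _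
  push_cast
  grobner

theorem xr5_6 (t : K) (x : chevG2.Idx → K) :
    (chevG2.x K 5 t *ᵥ x) (eI 4) = x (eI 4) := by
  rw [mulVec_idx]
  change 0 * x (hI 0) + 0 * x (hI 1) + (0 + 0) * x (eI 0) + (0 + 0) * x (eI 1) + (0 + 0) * x (eI 2) + (0 + 0) * x (eI 3) + (1 + 0) * x (eI 4) + 0 * x (eI 5) + 0 * x (eI 6) + (0 + 0) * x (eI 7) + (0 + 0) * x (eI 8) + (0 + 0) * x (eI 9) + (0 + 0) * x (eI 10) + (0 + 0) * x (eI 11) = _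
  push_cast
  grobner

theorem xr5_7 (t : K) (x : chevG2.Idx → K) :
    (chevG2.x K 5 t *ᵥ x) (eI 5) = x (eI 5) - t*x (hI 1) - t^2*x (eI 6) := by
  rw [mulVec_idx]
  change (-(((3) : ℤ) : K) * t) * x (hI 0) + (-(((-2) : ℤ) : K) * t) * x (hI 1) + (0 + 0) * x (eI 0) + (0 + 0) * x (eI 1) + (0 + 0) * x (eI 2) + (0 + 0) * x (eI 3) + (0 + 0) * x (eI 4) + 1 * x (eI 5) + (-(t ^ 2)) * x (eI 6) + (0 + 0) * x (eI 7) + (0 + 0) * x (eI 8) + (0 + 0) * x (eI 9) + (0 + 0) * x (eI 10) + (0 + 0) * x (eI 11) = _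
  push_cast
  grobner

theorem xr5_8 (t : K) (x : chevG2.Idx → K) :
    (chevG2.x K 5 t *ᵥ x) (eI 6) = x (eI 6) := by
  rw [mulVec_idx]
  change 0 * x (hI 0) + 0 * x (hI 1) + (0 + 0) * x (eI 0) + (0 + 0) * x (eI 1) + (0 + 0) * x (eI 2) + (0 + 0) * x (eI 3) + (0 + 0) * x (eI 4) + 0 * x (eI 5) + 1 * x (eI 6) + (0 + 0) * x (eI 7) + (0 + 0) * x (eI 8) + (0 + 0) * x (eI 9) + (0 + 0) * x (eI 10) + (0 + 0) * x (eI 11) = _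
  push_cast
  grobner

theorem xr5_9 (t : K) (x : chevG2.Idx → K) :
    (chevG2.x K 5 t *ᵥ x) (eI 7) = x (eI 7) + t*x (eI 8) := by
  rw [mulVec_idx]
  change 0 * x (hI 0) + 0 * x (hI 1) + (0 + 0) * x (eI 0) + (0 + 0) * x (eI 1) + (0 + 0) * x (eI 2) + (0 + 0) * x (eI 3) + (0 + 0) * x (eI 4) + 0 * x (eI 5) + 0 * x (eI 6) + (1 + 0) * x (eI 7) + (0 + ((((1) : ℤ) : K) * t ^ 1 + 0)) * x (eI 8) + (0 + 0) * x (eI 9) + (0 + 0) * x (eI 10) + (0 + 0) * x (eI 11) = _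
  push_cast
  grobner

theorem xr5_10 (t : K) (x : chevG2.Idx → K) :
    (chevG2.x K 5 t *ᵥ x) (eI 8) = x (eI 8) := by
  rw [mulVec_idx]
  change 0 * x (hI 0) + 0 * x (hI 1) + (0 + 0) * x (eI 0) + (0 + 0) * x (eI 1) + (0 + 0) * x (eI 2) + (0 + 0) * x (eI 3) + (0 + 0) * x (eI 4) + 0 * x (eI 5) + 0 * x (eI 6) + (0 + 0) * x (eI 7) + (1 + 0) * x (eI 8) + (0 + 0) * x (eI 9) + (0 + 0) * x (eI 10) + (0 + 0) * x (eI 11) = _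
  push_cast
  grobner

theorem xr5_11 (t : K) (x : chevG2.Idx → K) :
    (chevG2.x K 5 t *ᵥ x) (eI 9) = x (eI 9) := by
  rw [mulVec_idx]
  change 0 * x (hI 0) + 0 * x (hI 1) + (0 + 0) * x (eI 0) + (0 + 0) * x (eI 1) + (0 + 0) * x (eI 2) + (0 + 0) * x (eI 3) + (0 + 0) * x (eI 4) + 0 * x (eI 5) + 0 * x (eI 6) + (0 + 0) * x (eI 7) + (0 + 0) * x (eI 8) + (1 + 0) * x (eI 9) + (0 + 0) * x (eI 10) + (0 + 0) * x (eI 11) = _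
  push_cast
  grobner

theorem xr5_12 (t : K) (x : chevG2.Idx → K) :
    (chevG2.x K 5 t *ᵥ x) (eI 10) = x (eI 10) + t*x (eI 11) := by
  rw [mulVec_idx]
  change 0 * x (hI 0) + 0 * x (hI 1) + (0 + 0) * x (eI 0) + (0 + 0) * x (eI 1) + (0 + 0) * x (eI 2) + (0 + 0) * x (eI 3) + (0 + 0) * x (eI 4) + 0 * x (eI 5) + 0 * x (eI 6) + (0 + 0) * x (eI 7) + (0 + 0) * x (eI 8) + (0 + 0) * x (eI 9) + (1 + 0) * x (eI 10) + (0 + ((((1) : ℤ) : K) * t ^ 1 + 0)) * x (eI 11) = _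
  push_cast
  grobner

theorem xr5_13 (t : K) (x : chevG2.Idx → K) :
    (chevG2.x K 5 t *ᵥ x) (eI 11) = x (eI 11) := by
  rw [mulVec_idx]
  change 0 * x (hI 0) + 0 * x (hI 1) + (0 + 0) * x (eI 0) + (0 + 0) * x (eI 1) + (0 + 0) * x (eI 2) + (0 + 0) * x (eI 3) + (0 + 0) * x (eI 4) + 0 * x (eI 5) + 0 * x (eI 6) + (0 + 0) * x (eI 7) + (0 + 0) * x (eI 8) + (0 + 0) * x (eI 9) + (0 + 0) * x (eI 10) + (1 + 0) * x (eI 11) = _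
  push_cast
  grobner

theorem compat5 (t : K) : Compat (chevG2.x K 5 t) (A5 t) := by
  refine ⟨fun v => ?_, fun x v => ?_⟩
  · apply idx_ext <;>
      simp only [xr5_0, xr5_1, xr5_2, xr5_3, xr5_4, xr5_5, xr5_6, xr5_7, xr5_8, xr5_9, xr5_10, xr5_11, xr5_12, xr5_13, incl_0, incl_1, incl_2, incl_3, incl_4, incl_5, incl_6, incl_7, incl_8, incl_9, incl_10, incl_11, incl_12, incl_13, A5, mulVec7, v7_0, v7_1, v7_2, v7_3, v7_4, v7_5, v7_6] <;> grobner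
  · simp only [beta, xr5_0, xr5_1, xr5_2, xr5_3, xr5_4, xr5_5, xr5_6, xr5_7, xr5_8, xr5_9, xr5_10, xr5_11, xr5_12, xr5_13, A5, mulVec7, v7_0, v7_1, v7_2, v7_3, v7_4, v7_5, v7_6]
    apply vec7_congr <;> grobner

theorem xr6_0 (t : K) (x : chevG2.Idx → K) :
    (chevG2.x K 6 t *ᵥ x) (hI 0) = x (hI 0) := by
  rw [mulVec_idx]
  change 1 * x (hI 0) + 0 * x (hI 1) + 0 * x (eI 0) + 0 * x (eI 1) + 0 * x (eI 2) + 0 * x (eI 3) + 0 * x (eI 4) + ((((0) : ℤ) : K) * t) * x (eI 5) + 0 * x (eI 6) + 0 * x (eI 7) + 0 * x (eI 8) + 0 * x (eI 9) + 0 * x (eI 10) + 0 * x (eI 11) = _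
  push_cast
  grobner

theorem xr6_1 (t : K) (x : chevG2.Idx → K) :
    (chevG2.x K 6 t *ᵥ x) (hI 1) = x (hI 1) + t*x (eI 5) := by
  rw [mulVec_idx]
  change 0 * x (hI 0) + 1 * x (hI 1) + 0 * x (eI 0) + 0 * x (eI 1) + 0 * x (eI 2) + 0 * x (eI 3) + 0 * x (eI 4) + ((((1) : ℤ) : K) * t) * x (eI 5) + 0 * x (eI 6) + 0 * x (eI 7) + 0 * x (eI 8) + 0 * x (eI 9) + 0 * x (eI 10) + 0 * x (eI 11) = _
  push_cast
  grobner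

theorem xr6_2 (t : K) (x : chevG2.Idx → K) :
    (chevG2.x K 6 t *ᵥ x) (eI 0) = x (eI 0) := by
  rw [mulVec_idx]
  change 0 * x (hI 0) + 0 * x (hI 1) + (1 + 0) * x (eI 0) + (0 + 0) * x (eI 1) + (0 + 0) * x (eI 2) + (0 + 0) * x (eI 3) + (0 + 0) * x (eI 4) + 0 * x (eI 5) + 0 * x (eI 6) + (0 + 0) * x (eI 7) + (0 + 0) * x (eI 8) + (0 + 0) * x (eI 9) + (0 + 0) * x (eI 10) + (0 + 0) * x (eI 11) = _
  push_cast
  grobner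

theorem xr6_3 (t : K) (x : chevG2.Idx → K) :
    (chevG2.x K 6 t *ᵥ x) (eI 1) = x (eI 1) - t*x (eI 0) := by
  rw [mulVec_idx]
  change 0 * x (hI 0) + 0 * x (hI 1) + (0 + ((((-1) : ℤ) : K) * t ^ 1 + 0)) * x (eI 0) + (1 + 0) * x (eI 1) + (0 + 0) * x (eI 2) + (0 + 0) * x (eI 3) + (0 + 0) * x (eI 4) + 0 * x (eI 5) + 0 * x (eI 6) + (0 + 0) * x (eI 7) + (0 + 0) * x (eI 8) + (0 + 0) * x (eI 9) + (0 + 0) * x (eI 10) + (0 + 0) * x (eI 11) = _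
  push_cast
  grobner

theorem xr6_4 (t : K) (x : chevG2.Idx → K) :
    (chevG2.x K 6 t *ᵥ x) (eI 2) = x (eI 2) := by
  rw [mulVec_idx]
  change 0 * x (hI 0) + 0 * x (hI 1) + (0 + 0) * x (eI 0) + (0 + 0) * x (eI 1) + (1 + 0) * x (eI 2) + (0 + 0) * x (eI 3) + (0 + 0) * x (eI 4) + 0 * x (eI 5) + 0 * x (eI 6) + (0 + 0) * x (eI 7) + (0 + 0) * x (eI 8) + (0 + 0) * x (eI 9) + (0 + 0) * x (eI 10) + (0 + 0) * x (eI 11) = _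
  push_cast
  grobner

theorem xr6_5 (t : K) (x : chevG2.Idx → K) :
    (chevG2.x K 6 t *ᵥ x) (eI 3) = x (eI 3) := by
  rw [mulVec_idx]
  change 0 * x (hI 0) + 0 * x (hI 1) + (0 + 0) * x (eI 0) + (0 + 0) * x (eI 1) + (0 + 0) * x (eI 2) + (1 + 0) * x (eI 3) + (0 + 0) * x (eI 4) + 0 * x (eI 5) + 0 * x (eI 6) + (0 + 0) * x (eI 7) + (0 + 0) * x (eI 8) + (0 + 0) * x (eI 9) + (0 + 0) * x (eI 10) + (0 + 0) * x (eI 11) = _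
  push_cast
  grobner

theorem xr6_6 (t : K) (x : chevG2.Idx → K) :
    (chevG2.x K 6 t *ᵥ x) (eI 4) = x (eI 4) - t*x (eI 3) := by
  rw [mulVec_idx]
  change 0 * x (hI 0) + 0 * x (hI 1) + (0 + 0) * x (eI 0) + (0 + 0) * x (eI 1) + (0 + 0) * x (eI 2) + (0 + ((((-1) : ℤ) : K) * t ^ 1 + 0)) * x (eI 3) + (1 + 0) * x (eI 4) + 0 * x (eI 5) + 0 * x (eI 6) + (0 + 0) * x (eI 7) + (0 + 0) * x (eI 8) + (0 + 0) * x (eI 9) + (0 + 0) * x (eI 10) + (0 + 0) * x (eI 11) = _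
  push_cast
  grobner

theorem xr6_7 (t : K) (x : chevG2.Idx → K) :
    (chevG2.x K 6 t *ᵥ x) (eI 5) = x (eI 5) := by
  rw [mulVec_idx]
  change 0 * x (hI 0) + 0 * x (hI 1) + (0 + 0) * x (eI 0) + (0 + 0) * x (eI 1) + (0 + 0) * x (eI 2) + (0 + 0) * x (eI 3) + (0 + 0) * x (eI 4) + 1 * x (eI 5) + 0 * x (eI 6) + (0 + 0) * x (eI 7) + (0 + 0) * x (eI 8) + (0 + 0) * x (eI 9) + (0 + 0) * x (eI 10) + (0 + 0) * x (eI 11) = _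
  push_cast
  grobner

theorem xr6_8 (t : K) (x : chevG2.Idx → K) :
    (chevG2.x K 6 t *ᵥ x) (eI 6) = x (eI 6) + t*x (hI 1) - t^2*x (eI 5) := by
  rw [mulVec_idx]
  change (-(((-3) : ℤ) : K) * t) * x (hI 0) + (-(((2) : ℤ) : K) * t) * x (hI 1) + (0 + 0) * x (eI 0) + (0 + 0) * x (eI 1) + (0 + 0) * x (eI 2) + (0 + 0) * x (eI 3) + (0 + 0) * x (eI 4) + (-(t ^ 2)) * x (eI 5) + 1 * x (eI 6) + (0 + 0) * x (eI 7) + (0 + 0) * x (eI 8) + (0 + 0) * x (eI 9) + (0 + 0) * x (eI 10) + (0 + 0) * x (eI 11) = _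
  push_cast
  grobner

theorem xr6_9 (t : K) (x : chevG2.Idx → K) :
    (chevG2.x K 6 t *ᵥ x) (eI 7) = x (eI 7) := by
  rw [mulVec_idx]
  change 0 * x (hI 0) + 0 * x (hI 1) + (0 + 0) * x (eI 0) + (0 + 0) * x (eI 1) + (0 + 0) * x (eI 2) + (0 + 0) * x (eI 3) + (0 + 0) * x (eI 4) + 0 * x (eI 5) + 0 * x (eI 6) + (1 + 0) * x (eI 7) + (0 + 0) * x (eI 8) + (0 + 0) * x (eI 9) + (0 + 0) * x (eI 10) + (0 + 0) * x (eI 11) = _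
  push_cast
  grobner

theorem xr6_10 (t : K) (x : chevG2.Idx → K) :
    (chevG2.x K 6 t *ᵥ x) (eI 8) = x (eI 8) + t*x (eI 7) := by
  rw [mulVec_idx]
  change 0 * x (hI 0) + 0 * x (hI 1) + (0 + 0) * x (eI 0) + (0 + 0) * x (eI 1) + (0 + 0) * x (eI 2) + (0 + 0) * x (eI 3) + (0 + 0) * x (eI 4) + 0 * x (eI 5) + 0 * x (eI 6) + (0 + ((((1) : ℤ) : K) * t ^ 1 + 0)) * x (eI 7) + (1 + 0) * x (eI 8) + (0 + 0) * x (eI 9) + (0 + 0) * x (eI 10) + (0 + 0) * x (eI 11) = _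
  push_cast
  grobner

theorem xr6_11 (t : K) (x : chevG2.Idx → K) :
    (chevG2.x K 6 t *ᵥ x) (eI 9) = x (eI 9) := by
  rw [mulVec_idx]
  change 0 * x (hI 0) + 0 * x (hI 1) + (0 + 0) * x (eI 0) + (0 + 0) * x (eI 1) + (0 + 0) * x (eI 2) + (0 + 0) * x (eI 3) + (0 + 0) * x (eI 4) + 0 * x (eI 5) + 0 * x (eI 6) + (0 + 0) * x (eI 7) + (0 + 0) * x (eI 8) + (1 + 0) * x (eI 9) + (0 + 0) * x (eI 10) + (0 + 0) * x (eI 11) = _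
  push_cast
  grobner

theorem xr6_12 (t : K) (x : chevG2.Idx → K) :
    (chevG2.x K 6 t *ᵥ x) (eI 10) = x (eI 10) := by
  rw [mulVec_idx]
  change 0 * x (hI 0) + 0 * x (hI 1) + (0 + 0) * x (eI 0) + (0 + 0) * x (eI 1) + (0 + 0) * x (eI 2) + (0 + 0) * x (eI 3) + (0 + 0) * x (eI 4) + 0 * x (eI 5) + 0 * x (eI 6) + (0 + 0) * x (eI 7) + (0 + 0) * x (eI 8) + (0 + 0) * x (eI 9) + (1 + 0) * x (eI 10) + (0 + 0) * x (eI 11) = _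
  push_cast
  grobner

theorem xr6_13 (t : K) (x : chevG2.Idx → K) :
    (chevG2.x K 6 t *ᵥ x) (eI 11) = x (eI 11) + t*x (eI 10) := by
  rw [mulVec_idx]
  change 0 * x (hI 0) + 0 * x (hI 1) + (0 + 0) * x (eI 0) + (0 + 0) * x (eI 1) + (0 + 0) * x (eI 2) + (0 + 0) * x (eI 3) + (0 + 0) * x (eI 4) + 0 * x (eI 5) + 0 * x (eI 6) + (0 + 0) * x (eI 7) + (0 + 0) * x (eI 8) + (0 + 0) * x (eI 9) + (0 + ((((1) : ℤ) : K) * t ^ 1 + 0)) * x (eI 10) + (1 + 0) * x (eI 11) = _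
  push_cast
  grobner

theorem compat6 (t : K) : Compat (chevG2.x K 6 t) (A6 t) := by
  refine ⟨fun v => ?_, fun x v => ?_⟩
  · apply idx_ext <;>
      simp only [xr6_0, xr6_1, xr6_2, xr6_3, xr6_4, xr6_5, xr6_6, xr6_7, xr6_8, xr6_9, xr6_10, xr6_11, xr6_12, xr6_13, incl_0, incl_1, incl_2, incl_3, incl_4, incl_5, incl_6, incl_7, incl_8, incl_9, incl_10, incl_11, incl_12, incl_13, A6, mulVec7, v7_0, v7_1, v7_2, v7_3, v7_4, v7_5, v7_6] <;> grobner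
  · simp only [beta, xr6_0, xr6_1, xr6_2, xr6_3, xr6_4, xr6_5, xr6_6, xr6_7, xr6_8, xr6_9, xr6_10, xr6_11, xr6_12, xr6_13, A6, mulVec7, v7_0, v7_1, v7_2, v7_3, v7_4, v7_5, v7_6]
    apply vec7_congr <;> grobner

theorem xr7_0 (t : K) (x : chevG2.Idx → K) :
    (chevG2.x K 7 t *ᵥ x) (hI 0) = x (hI 0) + t*x (eI 4) := by
  rw [mulVec_idx]
  change 1 * x (hI 0) + 0 * x (hI 1) + 0 * x (eI 0) + 0 * x (eI 1) + 0 * x (eI 2) + 0 * x (eI 3) + ((((1) : ℤ) : K) * t) * x (eI 4) + 0 * x (eI 5) + 0 * x (eI 6) + 0 * x (eI 7) + 0 * x (eI 8) + 0 * x (eI 9) + 0 * x (eI 10) + 0 * x (eI 11) = _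
  push_cast
  grobner

theorem xr7_1 (t : K) (x : chevG2.Idx → K) :
    (chevG2.x K 7 t *ᵥ x) (hI 1) = x (hI 1) := by
  rw [mulVec_idx]
  change 0 * x (hI 0) + 1 * x (hI 1) + 0 * x (eI 0) + 0 * x (eI 1) + 0 * x (eI 2) + 0 * x (eI 3) + ((((0) : ℤ) : K) * t) * x (eI 4) + 0 * x (eI 5) + 0 * x (eI 6) + 0 * x (eI 7) + 0 * x (eI 8) + 0 * x (eI 9) + 0 * x (eI 10) + 0 * x (eI 11) = _
  push_cast
  grobner

theorem xr7_2 (t : K) (x : chevG2.Idx → K) :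
    (chevG2.x K 7 t *ᵥ x) (eI 0) = x (eI 0) := by
  rw [mulVec_idx]
  change 0 * x (hI 0) + 0 * x (hI 1) + (1 + 0) * x (eI 0) + (0 + 0) * x (eI 1) + (0 + 0) * x (eI 2) + (0 + 0) * x (eI 3) + 0 * x (eI 4) + (0 + 0) * x (eI 5) + (0 + 0) * x (eI 6) + 0 * x (eI 7) + (0 + 0) * x (eI 8) + (0 + 0) * x (eI 9) + (0 + 0) * x (eI 10) + (0 + 0) * x (eI 11) = _
  push_cast
  grobner

theorem xr7_3 (t : K) (x : chevG2.Idx → K) :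
    (chevG2.x K 7 t *ᵥ x) (eI 1) = x (eI 1) := by
  rw [mulVec_idx]
  change 0 * x (hI 0) + 0 * x (hI 1) + (0 + 0) * x (eI 0) + (1 + 0) * x (eI 1) + (0 + 0) * x (eI 2) + (0 + 0) * x (eI 3) + 0 * x (eI 4) + (0 + 0) * x (eI 5) + (0 + 0) * x (eI 6) + 0 * x (eI 7) + (0 + 0) * x (eI 8) + (0 + 0) * x (eI 9) + (0 + 0) * x (eI 10) + (0 + 0) * x (eI 11) = _
  push_cast
  grobner

theorem xr7_4 (t : K) (x : chevG2.Idx → K) :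
    (chevG2.x K 7 t *ᵥ x) (eI 2) = x (eI 2) - t*x (eI 1) := by
  rw [mulVec_idx]
  change 0 * x (hI 0) + 0 * x (hI 1) + (0 + 0) * x (eI 0) + (0 + ((((-1) : ℤ) : K) * t ^ 1 + 0)) * x (eI 1) + (1 + 0) * x (eI 2) + (0 + 0) * x (eI 3) + 0 * x (eI 4) + (0 + 0) * x (eI 5) + (0 + 0) * x (eI 6) + 0 * x (eI 7) + (0 + 0) * x (eI 8) + (0 + 0) * x (eI 9) + (0 + 0) * x (eI 10) + (0 + 0) * x (eI 11) = _
  push_cast
  grobner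

theorem xr7_5 (t : K) (x : chevG2.Idx → K) :
    (chevG2.x K 7 t *ᵥ x) (eI 3) = x (eI 3) - t*x (eI 2) - t^2*x (eI 1) := by
  rw [mulVec_idx]
  change 0 * x (hI 0) + 0 * x (hI 1) + (0 + 0) * x (eI 0) + (0 + ((((-1) : ℤ) : K) * t ^ 2 + 0)) * x (eI 1) + (0 + ((((2) : ℤ) : K) * t ^ 1 + 0)) * x (eI 2) + (1 + 0) * x (eI 3) + 0 * x (eI 4) + (0 + 0) * x (eI 5) + (0 + 0) * x (eI 6) + 0 * x (eI 7) + (0 + 0) * x (eI 8) + (0 + 0) * x (eI 9) + (0 + 0) * x (eI 10) + (0 + 0) * x (eI 11) = _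
  push_cast
  grobner

theorem xr7_6 (t : K) (x : chevG2.Idx → K) :
    (chevG2.x K 7 t *ᵥ x) (eI 4) = x (eI 4) := by
  rw [mulVec_idx]
  change 0 * x (hI 0) + 0 * x (hI 1) + (0 + 0) * x (eI 0) + (0 + 0) * x (eI 1) + (0 + 0) * x (eI 2) + (0 + 0) * x (eI 3) + 1 * x (eI 4) + (0 + 0) * x (eI 5) + (0 + 0) * x (eI 6) + 0 * x (eI 7) + (0 + 0) * x (eI 8) + (0 + 0) * x (eI 9) + (0 + 0) * x (eI 10) + (0 + 0) * x (eI 11) = _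
  push_cast
  grobner

theorem xr7_7 (t : K) (x : chevG2.Idx → K) :
    (chevG2.x K 7 t *ᵥ x) (eI 5) = x (eI 5) - t^3*x (eI 1) := by
  rw [mulVec_idx]
  change 0 * x (hI 0) + 0 * x (hI 1) + (0 + 0) * x (eI 0) + (0 + ((((-1) : ℤ) : K) * t ^ 3 + 0)) * x (eI 1) + (0 + ((((3) : ℤ) : K) * t ^ 2 + 0)) * x (eI 2) + (0 + ((((3) : ℤ) : K) * t ^ 1 + 0)) * x (eI 3) + 0 * x (eI 4) + (1 + 0) * x (eI 5) + (0 + 0) * x (eI 6) + 0 * x (eI 7) + (0 + 0) * x (eI 8) + (0 + 0) * x (eI 9) + (0 + 0) * x (eI 10) + (0 + 0) * x (eI 11) = _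
  push_cast
  grobner

theorem xr7_8 (t : K) (x : chevG2.Idx → K) :
    (chevG2.x K 7 t *ᵥ x) (eI 6) = x (eI 6) := by
  rw [mulVec_idx]
  change 0 * x (hI 0) + 0 * x (hI 1) + (0 + 0) * x (eI 0) + (0 + 0) * x (eI 1) + (0 + 0) * x (eI 2) + (0 + 0) * x (eI 3) + 0 * x (eI 4) + (0 + 0) * x (eI 5) + (1 + 0) * x (eI 6) + 0 * x (eI 7) + (0 + 0) * x (eI 8) + (0 + 0) * x (eI 9) + (0 + 0) * x (eI 10) + (0 + 0) * x (eI 11) = _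
  push_cast
  grobner

theorem xr7_9 (t : K) (x : chevG2.Idx → K) :
    (chevG2.x K 7 t *ᵥ x) (eI 7) = x (eI 7) + t*x (hI 0) + t*x (hI 1) - t^2*x (eI 4) := by
  rw [mulVec_idx]
  change (-(((2) : ℤ) : K) * t) * x (hI 0) + (-(((-1) : ℤ) : K) * t) * x (hI 1) + (0 + 0) * x (eI 0) + (0 + 0) * x (eI 1) + (0 + 0) * x (eI 2) + (0 + 0) * x (eI 3) + (-(t ^ 2)) * x (eI 4) + (0 + 0) * x (eI 5) + (0 + 0) * x (eI 6) + 1 * x (eI 7) + (0 + 0) * x (eI 8) + (0 + 0) * x (eI 9) + (0 + 0) * x (eI 10) + (0 + 0) * x (eI 11) = _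
  push_cast
  grobner

theorem xr7_10 (t : K) (x : chevG2.Idx → K) :
    (chevG2.x K 7 t *ᵥ x) (eI 8) = x (eI 8) - t*x (eI 6) := by
  rw [mulVec_idx]
  change 0 * x (hI 0) + 0 * x (hI 1) + (0 + 0) * x (eI 0) + (0 + 0) * x (eI 1) + (0 + 0) * x (eI 2) + (0 + 0) * x (eI 3) + 0 * x (eI 4) + (0 + 0) * x (eI 5) + (0 + ((((-1) : ℤ) : K) * t ^ 1 + 0)) * x (eI 6) + 0 * x (eI 7) + (1 + 0) * x (eI 8) + (0 + 0) * x (eI 9) + (0 + 0) * x (eI 10) + (0 + 0) * x (eI 11) = _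
  push_cast
  grobner

theorem xr7_11 (t : K) (x : chevG2.Idx → K) :
    (chevG2.x K 7 t *ᵥ x) (eI 9) = x (eI 9) + t*x (eI 8) + t^2*x (eI 6) := by
  rw [mulVec_idx]
  change 0 * x (hI 0) + 0 * x (hI 1) + (0 + 0) * x (eI 0) + (0 + 0) * x (eI 1) + (0 + 0) * x (eI 2) + (0 + 0) * x (eI 3) + 0 * x (eI 4) + (0 + 0) * x (eI 5) + (0 + ((((1) : ℤ) : K) * t ^ 2 + 0)) * x (eI 6) + 0 * x (eI 7) + (0 + ((((-2) : ℤ) : K) * t ^ 1 + 0)) * x (eI 8) + (1 + 0) * x (eI 9) + (0 + 0) * x (eI 10) + (0 + 0) * x (eI 11) = _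
  push_cast
  grobner

theorem xr7_12 (t : K) (x : chevG2.Idx → K) :
    (chevG2.x K 7 t *ᵥ x) (eI 10) = x (eI 10) + t^3*x (eI 6) := by
  rw [mulVec_idx]
  change 0 * x (hI 0) + 0 * x (hI 1) + (0 + 0) * x (eI 0) + (0 + 0) * x (eI 1) + (0 + 0) * x (eI 2) + (0 + 0) * x (eI 3) + 0 * x (eI 4) + (0 + 0) * x (eI 5) + (0 + ((((1) : ℤ) : K) * t ^ 3 + 0)) * x (eI 6) + 0 * x (eI 7) + (0 + ((((-3) : ℤ) : K) * t ^ 2 + 0)) * x (eI 8) + (0 + ((((3) : ℤ) : K) * t ^ 1 + 0)) * x (eI 9) + (1 + 0) * x (eI 10) + (0 + 0) * x (eI 11) = _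
  push_cast
  grobner

theorem xr7_13 (t : K) (x : chevG2.Idx → K) :
    (chevG2.x K 7 t *ᵥ x) (eI 11) = x (eI 11) := by
  rw [mulVec_idx]
  change 0 * x (hI 0) + 0 * x (hI 1) + (0 + 0) * x (eI 0) + (0 + 0) * x (eI 1) + (0 + 0) * x (eI 2) + (0 + 0) * x (eI 3) + 0 * x (eI 4) + (0 + 0) * x (eI 5) + (0 + 0) * x (eI 6) + 0 * x (eI 7) + (0 + 0) * x (eI 8) + (0 + 0) * x (eI 9) + (0 + 0) * x (eI 10) + (1 + 0) * x (eI 11) = _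
  push_cast
  grobner

theorem compat7 (t : K) : Compat (chevG2.x K 7 t) (A7 t) := by
  refine ⟨fun v => ?_, fun x v => ?_⟩
  · apply idx_ext <;>
      simp only [xr7_0, xr7_1, xr7_2, xr7_3, xr7_4, xr7_5, xr7_6, xr7_7, xr7_8, xr7_9, xr7_10, xr7_11, xr7_12, xr7_13, incl_0, incl_1, incl_2, incl_3, incl_4, incl_5, incl_6, incl_7, incl_8, incl_9, incl_10, incl_11, incl_12, incl_13, A7, mulVec7, v7_0, v7_1, v7_2, v7_3, v7_4, v7_5, v7_6] <;> grobner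
  · simp only [beta, xr7_0, xr7_1, xr7_2, xr7_3, xr7_4, xr7_5, xr7_6, xr7_7, xr7_8, xr7_9, xr7_10, xr7_11, xr7_12, xr7_13, A7, mulVec7, v7_0, v7_1, v7_2, v7_3, v7_4, v7_5, v7_6]
    apply vec7_congr <;> grobner

theorem xr8_0 (t : K) (x : chevG2.Idx → K) :
    (chevG2.x K 8 t *ᵥ x) (hI 0) = x (hI 0) + t*x (eI 3) := by
  rw [mulVec_idx]
  change 1 * x (hI 0) + 0 * x (hI 1) + 0 * x (eI 0) + 0 * x (eI 1) + 0 * x (eI 2) + ((((1) : ℤ) : K) * t) * x (eI 3) + 0 * x (eI 4) + 0 * x (eI 5) + 0 * x (eI 6) + 0 * x (eI 7) + 0 * x (eI 8) + 0 * x (eI 9) + 0 * x (eI 10) + 0 * x (eI 11) = _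
  push_cast
  grobner

theorem xr8_1 (t : K) (x : chevG2.Idx → K) :
    (chevG2.x K 8 t *ᵥ x) (hI 1) = x (hI 1) := by
  rw [mulVec_idx]
  change 0 * x (hI 0) + 1 * x (hI 1) + 0 * x (eI 0) + 0 * x (eI 1) + 0 * x (eI 2) + ((((3) : ℤ) : K) * t) * x (eI 3) + 0 * x (eI 4) + 0 * x (eI 5) + 0 * x (eI 6) + 0 * x (eI 7) + 0 * x (eI 8) + 0 * x (eI 9) + 0 * x (eI 10) + 0 * x (eI 11) = _
  push_cast
  grobner

theorem xr8_2 (t : K) (x : chevG2.Idx → K) :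
    (chevG2.x K 8 t *ᵥ x) (eI 0) = x (eI 0) := by
  rw [mulVec_idx]
  change 0 * x (hI 0) + 0 * x (hI 1) + (1 + 0) * x (eI 0) + (0 + 0) * x (eI 1) + (0 + 0) * x (eI 2) + 0 * x (eI 3) + (0 + 0) * x (eI 4) + (0 + 0) * x (eI 5) + (0 + 0) * x (eI 6) + (0 + 0) * x (eI 7) + 0 * x (eI 8) + (0 + 0) * x (eI 9) + (0 + 0) * x (eI 10) + (0 + 0) * x (eI 11) = _
  push_cast
  grobner

theorem xr8_3 (t : K) (x : chevG2.Idx → K) :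
    (chevG2.x K 8 t *ᵥ x) (eI 1) = x (eI 1) := by
  rw [mulVec_idx]
  change 0 * x (hI 0) + 0 * x (hI 1) + (0 + 0) * x (eI 0) + (1 + 0) * x (eI 1) + (0 + 0) * x (eI 2) + 0 * x (eI 3) + (0 + 0) * x (eI 4) + (0 + 0) * x (eI 5) + (0 + 0) * x (eI 6) + (0 + 0) * x (eI 7) + 0 * x (eI 8) + (0 + 0) * x (eI 9) + (0 + 0) * x (eI 10) + (0 + 0) * x (eI 11) = _
  push_cast
  grobner

theorem xr8_4 (t : K) (x : chevG2.Idx → K) :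
    (chevG2.x K 8 t *ᵥ x) (eI 2) = x (eI 2) - t*x (eI 0) := by
  rw [mulVec_idx]
  change 0 * x (hI 0) + 0 * x (hI 1) + (0 + ((((-1) : ℤ) : K) * t ^ 1 + 0)) * x (eI 0) + (0 + 0) * x (eI 1) + (1 + 0) * x (eI 2) + 0 * x (eI 3) + (0 + 0) * x (eI 4) + (0 + 0) * x (eI 5) + (0 + 0) * x (eI 6) + (0 + 0) * x (eI 7) + 0 * x (eI 8) + (0 + 0) * x (eI 9) + (0 + 0) * x (eI 10) + (0 + 0) * x (eI 11) = _
  push_cast
  grobner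

theorem xr8_5 (t : K) (x : chevG2.Idx → K) :
    (chevG2.x K 8 t *ᵥ x) (eI 3) = x (eI 3) := by
  rw [mulVec_idx]
  change 0 * x (hI 0) + 0 * x (hI 1) + (0 + 0) * x (eI 0) + (0 + 0) * x (eI 1) + (0 + 0) * x (eI 2) + 1 * x (eI 3) + (0 + 0) * x (eI 4) + (0 + 0) * x (eI 5) + (0 + 0) * x (eI 6) + (0 + 0) * x (eI 7) + 0 * x (eI 8) + (0 + 0) * x (eI 9) + (0 + 0) * x (eI 10) + (0 + 0) * x (eI 11) = _
  push_cast
  grobner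

theorem xr8_6 (t : K) (x : chevG2.Idx → K) :
    (chevG2.x K 8 t *ᵥ x) (eI 4) = x (eI 4) + t*x (eI 2) + t^2*x (eI 0) := by
  rw [mulVec_idx]
  change 0 * x (hI 0) + 0 * x (hI 1) + (0 + ((((1) : ℤ) : K) * t ^ 2 + 0)) * x (eI 0) + (0 + 0) * x (eI 1) + (0 + ((((-2) : ℤ) : K) * t ^ 1 + 0)) * x (eI 2) + 0 * x (eI 3) + (1 + 0) * x (eI 4) + (0 + 0) * x (eI 5) + (0 + 0) * x (eI 6) + (0 + 0) * x (eI 7) + 0 * x (eI 8) + (0 + 0) * x (eI 9) + (0 + 0) * x (eI 10) + (0 + 0) * x (eI 11) = _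
  push_cast
  grobner

theorem xr8_7 (t : K) (x : chevG2.Idx → K) :
    (chevG2.x K 8 t *ᵥ x) (eI 5) = x (eI 5) := by
  rw [mulVec_idx]
  change 0 * x (hI 0) + 0 * x (hI 1) + (0 + 0) * x (eI 0) + (0 + 0) * x (eI 1) + (0 + 0) * x (eI 2) + 0 * x (eI 3) + (0 + 0) * x (eI 4) + (1 + 0) * x (eI 5) + (0 + 0) * x (eI 6) + (0 + 0) * x (eI 7) + 0 * x (eI 8) + (0 + 0) * x (eI 9) + (0 + 0) * x (eI 10) + (0 + 0) * x (eI 11) = _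
  push_cast
  grobner

theorem xr8_8 (t : K) (x : chevG2.Idx → K) :
    (chevG2.x K 8 t *ᵥ x) (eI 6) = x (eI 6) + t^3*x (eI 0) := by
  rw [mulVec_idx]
  change 0 * x (hI 0) + 0 * x (hI 1) + (0 + ((((1) : ℤ) : K) * t ^ 3 + 0)) * x (eI 0) + (0 + 0) * x (eI 1) + (0 + ((((-3) : ℤ) : K) * t ^ 2 + 0)) * x (eI 2) + 0 * x (eI 3) + (0 + ((((3) : ℤ) : K) * t ^ 1 + 0)) * x (eI 4) + (0 + 0) * x (eI 5) + (1 + 0) * x (eI 6) + (0 + 0) * x (eI 7) + 0 * x (eI 8) + (0 + 0) * x (eI 9) + (0 + 0) * x (eI 10) + (0 + 0) * x (eI 11) = _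
  push_cast
  grobner

theorem xr8_9 (t : K) (x : chevG2.Idx → K) :
    (chevG2.x K 8 t *ᵥ x) (eI 7) = x (eI 7) - t*x (eI 5) := by
  rw [mulVec_idx]
  change 0 * x (hI 0) + 0 * x (hI 1) + (0 + 0) * x (eI 0) + (0 + 0) * x (eI 1) + (0 + 0) * x (eI 2) + 0 * x (eI 3) + (0 + 0) * x (eI 4) + (0 + ((((-1) : ℤ) : K) * t ^ 1 + 0)) * x (eI 5) + (0 + 0) * x (eI 6) + (1 + 0) * x (eI 7) + 0 * x (eI 8) + (0 + 0) * x (eI 9) + (0 + 0) * x (eI 10) + (0 + 0) * x (eI 11) = _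
  push_cast
  grobner

theorem xr8_10 (t : K) (x : chevG2.Idx → K) :
    (chevG2.x K 8 t *ᵥ x) (eI 8) = x (eI 8) + t*x (hI 0) - t*x (hI 1) - t^2*x (eI 3) := by
  rw [mulVec_idx]
  change (-(((-1) : ℤ) : K) * t) * x (hI 0) + (-(((1) : ℤ) : K) * t) * x (hI 1) + (0 + 0) * x (eI 0) + (0 + 0) * x (eI 1) + (0 + 0) * x (eI 2) + (-(t ^ 2)) * x (eI 3) + (0 + 0) * x (eI 4) + (0 + 0) * x (eI 5) + (0 + 0) * x (eI 6) + (0 + 0) * x (eI 7) + 1 * x (eI 8) + (0 + 0) * x (eI 9) + (0 + 0) * x (eI 10) + (0 + 0) * x (eI 11) = _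
  push_cast
  grobner

theorem xr8_11 (t : K) (x : chevG2.Idx → K) :
    (chevG2.x K 8 t *ᵥ x) (eI 9) = x (eI 9) - t*x (eI 7) - t^2*x (eI 5) := by
  rw [mulVec_idx]
  change 0 * x (hI 0) + 0 * x (hI 1) + (0 + 0) * x (eI 0) + (0 + 0) * x (eI 1) + (0 + 0) * x (eI 2) + 0 * x (eI 3) + (0 + 0) * x (eI 4) + (0 + ((((-1) : ℤ) : K) * t ^ 2 + 0)) * x (eI 5) + (0 + 0) * x (eI 6) + (0 + ((((2) : ℤ) : K) * t ^ 1 + 0)) * x (eI 7) + 0 * x (eI 8) + (1 + 0) * x (eI 9) + (0 + 0) * x (eI 10) + (0 + 0) * x (eI 11) = _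
  push_cast
  grobner

theorem xr8_12 (t : K) (x : chevG2.Idx → K) :
    (chevG2.x K 8 t *ᵥ x) (eI 10) = x (eI 10) := by
  rw [mulVec_idx]
  change 0 * x (hI 0) + 0 * x (hI 1) + (0 + 0) * x (eI 0) + (0 + 0) * x (eI 1) + (0 + 0) * x (eI 2) + 0 * x (eI 3) + (0 + 0) * x (eI 4) + (0 + 0) * x (eI 5) + (0 + 0) * x (eI 6) + (0 + 0) * x (eI 7) + 0 * x (eI 8) + (0 + 0) * x (eI 9) + (1 + 0) * x (eI 10) + (0 + 0) * x (eI 11) = _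
  push_cast
  grobner

theorem xr8_13 (t : K) (x : chevG2.Idx → K) :
    (chevG2.x K 8 t *ᵥ x) (eI 11) = x (eI 11) - t^3*x (eI 5) := by
  rw [mulVec_idx]
  change 0 * x (hI 0) + 0 * x (hI 1) + (0 + 0) * x (eI 0) + (0 + 0) * x (eI 1) + (0 + 0) * x (eI 2) + 0 * x (eI 3) + (0 + 0) * x (eI 4) + (0 + ((((-1) : ℤ) : K) * t ^ 3 + 0)) * x (eI 5) + (0 + 0) * x (eI 6) + (0 + ((((3) : ℤ) : K) * t ^ 2 + 0)) * x (eI 7) + 0 * x (eI 8) + (0 + ((((3) : ℤ) : K) * t ^ 1 + 0)) * x (eI 9) + (0 + 0) * x (eI 10) + (1 + 0) * x (eI 11) = _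
  push_cast
  grobner

theorem compat8 (t : K) : Compat (chevG2.x K 8 t) (A8 t) := by
  refine ⟨fun v => ?_, fun x v => ?_⟩
  · apply idx_ext <;>
      simp only [xr8_0, xr8_1, xr8_2, xr8_3, xr8_4, xr8_5, xr8_6, xr8_7, xr8_8, xr8_9, xr8_10, xr8_11, xr8_12, xr8_13, incl_0, incl_1, incl_2, incl_3, incl_4, incl_5, incl_6, incl_7, incl_8, incl_9, incl_10, incl_11, incl_12, incl_13, A8, mulVec7, v7_0, v7_1, v7_2, v7_3, v7_4, v7_5, v7_6] <;> grobner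
  · simp only [beta, xr8_0, xr8_1, xr8_2, xr8_3, xr8_4, xr8_5, xr8_6, xr8_7, xr8_8, xr8_9, xr8_10, xr8_11, xr8_12, xr8_13, A8, mulVec7, v7_0, v7_1, v7_2, v7_3, v7_4, v7_5, v7_6]
    apply vec7_congr <;> grobner

theorem xr9_0 (t : K) (x : chevG2.Idx → K) :
    (chevG2.x K 9 t *ᵥ x) (hI 0) = x (hI 0) - t*x (eI 2) := by
  rw [mulVec_idx]
  change 1 * x (hI 0) + 0 * x (hI 1) + 0 * x (eI 0) + 0 * x (eI 1) + ((((2) : ℤ) : K) * t) * x (eI 2) + 0 * x (eI 3) + 0 * x (eI 4) + 0 * x (eI 5) + 0 * x (eI 6) + 0 * x (eI 7) + 0 * x (eI 8) + 0 * x (eI 9) + 0 * x (eI 10) + 0 * x (eI 11) = _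
  push_cast
  grobner

theorem xr9_1 (t : K) (x : chevG2.Idx → K) :
    (chevG2.x K 9 t *ᵥ x) (hI 1) = x (hI 1) := by
  rw [mulVec_idx]
  change 0 * x (hI 0) + 1 * x (hI 1) + 0 * x (eI 0) + 0 * x (eI 1) + ((((3) : ℤ) : K) * t) * x (eI 2) + 0 * x (eI 3) + 0 * x (eI 4) + 0 * x (eI 5) + 0 * x (eI 6) + 0 * x (eI 7) + 0 * x (eI 8) + 0 * x (eI 9) + 0 * x (eI 10) + 0 * x (eI 11) = _
  push_cast
  grobner

theorem xr9_2 (t : K) (x : chevG2.Idx → K) :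
    (chevG2.x K 9 t *ᵥ x) (eI 0) = x (eI 0) := by
  rw [mulVec_idx]
  change 0 * x (hI 0) + 0 * x (hI 1) + (1 + 0) * x (eI 0) + (0 + 0) * x (eI 1) + 0 * x (eI 2) + (0 + 0) * x (eI 3) + (0 + 0) * x (eI 4) + (0 + 0) * x (eI 5) + (0 + 0) * x (eI 6) + (0 + 0) * x (eI 7) + (0 + 0) * x (eI 8) + 0 * x (eI 9) + (0 + 0) * x (eI 10) + (0 + 0) * x (eI 11) = _
  push_cast
  grobner

theorem xr9_3 (t : K) (x : chevG2.Idx → K) :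
    (chevG2.x K 9 t *ᵥ x) (eI 1) = x (eI 1) := by
  rw [mulVec_idx]
  change 0 * x (hI 0) + 0 * x (hI 1) + (0 + 0) * x (eI 0) + (1 + 0) * x (eI 1) + 0 * x (eI 2) + (0 + 0) * x (eI 3) + (0 + 0) * x (eI 4) + (0 + 0) * x (eI 5) + (0 + 0) * x (eI 6) + (0 + 0) * x (eI 7) + (0 + 0) * x (eI 8) + 0 * x (eI 9) + (0 + 0) * x (eI 10) + (0 + 0) * x (eI 11) = _
  push_cast
  grobner

theorem xr9_4 (t : K) (x : chevG2.Idx → K) :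
    (chevG2.x K 9 t *ᵥ x) (eI 2) = x (eI 2) := by
  rw [mulVec_idx]
  change 0 * x (hI 0) + 0 * x (hI 1) + (0 + 0) * x (eI 0) + (0 + 0) * x (eI 1) + 1 * x (eI 2) + (0 + 0) * x (eI 3) + (0 + 0) * x (eI 4) + (0 + 0) * x (eI 5) + (0 + 0) * x (eI 6) + (0 + 0) * x (eI 7) + (0 + 0) * x (eI 8) + 0 * x (eI 9) + (0 + 0) * x (eI 10) + (0 + 0) * x (eI 11) = _
  push_cast
  grobner

theorem xr9_5 (t : K) (x : chevG2.Idx → K) :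
    (chevG2.x K 9 t *ᵥ x) (eI 3) = x (eI 3) + t*x (eI 0) := by
  rw [mulVec_idx]
  change 0 * x (hI 0) + 0 * x (hI 1) + (0 + ((((1) : ℤ) : K) * t ^ 1 + 0)) * x (eI 0) + (0 + 0) * x (eI 1) + 0 * x (eI 2) + (1 + 0) * x (eI 3) + (0 + 0) * x (eI 4) + (0 + 0) * x (eI 5) + (0 + 0) * x (eI 6) + (0 + 0) * x (eI 7) + (0 + 0) * x (eI 8) + 0 * x (eI 9) + (0 + 0) * x (eI 10) + (0 + 0) * x (eI 11) = _
  push_cast
  grobner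

theorem xr9_6 (t : K) (x : chevG2.Idx → K) :
    (chevG2.x K 9 t *ᵥ x) (eI 4) = x (eI 4) + t*x (eI 1) := by
  rw [mulVec_idx]
  change 0 * x (hI 0) + 0 * x (hI 1) + (0 + 0) * x (eI 0) + (0 + ((((1) : ℤ) : K) * t ^ 1 + 0)) * x (eI 1) + 0 * x (eI 2) + (0 + 0) * x (eI 3) + (1 + 0) * x (eI 4) + (0 + 0) * x (eI 5) + (0 + 0) * x (eI 6) + (0 + 0) * x (eI 7) + (0 + 0) * x (eI 8) + 0 * x (eI 9) + (0 + 0) * x (eI 10) + (0 + 0) * x (eI 11) = _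
  push_cast
  grobner

theorem xr9_7 (t : K) (x : chevG2.Idx → K) :
    (chevG2.x K 9 t *ᵥ x) (eI 5) = x (eI 5) := by
  rw [mulVec_idx]
  change 0 * x (hI 0) + 0 * x (hI 1) + (0 + 0) * x (eI 0) + (0 + 0) * x (eI 1) + 0 * x (eI 2) + (0 + 0) * x (eI 3) + (0 + 0) * x (eI 4) + (1 + 0) * x (eI 5) + (0 + 0) * x (eI 6) + (0 + 0) * x (eI 7) + (0 + 0) * x (eI 8) + 0 * x (eI 9) + (0 + 0) * x (eI 10) + (0 + 0) * x (eI 11) = _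
  push_cast
  grobner

theorem xr9_8 (t : K) (x : chevG2.Idx → K) :
    (chevG2.x K 9 t *ᵥ x) (eI 6) = x (eI 6) := by
  rw [mulVec_idx]
  change 0 * x (hI 0) + 0 * x (hI 1) + (0 + 0) * x (eI 0) + (0 + 0) * x (eI 1) + 0 * x (eI 2) + (0 + 0) * x (eI 3) + (0 + 0) * x (eI 4) + (0 + 0) * x (eI 5) + (1 + 0) * x (eI 6) + (0 + 0) * x (eI 7) + (0 + 0) * x (eI 8) + 0 * x (eI 9) + (0 + 0) * x (eI 10) + (0 + 0) * x (eI 11) = _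
  push_cast
  grobner

theorem xr9_9 (t : K) (x : chevG2.Idx → K) :
    (chevG2.x K 9 t *ᵥ x) (eI 7) = x (eI 7) + t*x (eI 3) - t^2*x (eI 0) := by
  rw [mulVec_idx]
  change 0 * x (hI 0) + 0 * x (hI 1) + (0 + ((((-1) : ℤ) : K) * t ^ 2 + 0)) * x (eI 0) + (0 + 0) * x (eI 1) + 0 * x (eI 2) + (0 + ((((-2) : ℤ) : K) * t ^ 1 + 0)) * x (eI 3) + (0 + 0) * x (eI 4) + (0 + 0) * x (eI 5) + (0 + 0) * x (eI 6) + (1 + 0) * x (eI 7) + (0 + 0) * x (eI 8) + 0 * x (eI 9) + (0 + 0) * x (eI 10) + (0 + 0) * x (eI 11) = _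
  push_cast
  grobner

theorem xr9_10 (t : K) (x : chevG2.Idx → K) :
    (chevG2.x K 9 t *ᵥ x) (eI 8) = x (eI 8) - t*x (eI 4) + t^2*x (eI 1) := by
  rw [mulVec_idx]
  change 0 * x (hI 0) + 0 * x (hI 1) + (0 + 0) * x (eI 0) + (0 + ((((1) : ℤ) : K) * t ^ 2 + 0)) * x (eI 1) + 0 * x (eI 2) + (0 + 0) * x (eI 3) + (0 + ((((2) : ℤ) : K) * t ^ 1 + 0)) * x (eI 4) + (0 + 0) * x (eI 5) + (0 + 0) * x (eI 6) + (0 + 0) * x (eI 7) + (1 + 0) * x (eI 8) + 0 * x (eI 9) + (0 + 0) * x (eI 10) + (0 + 0) * x (eI 11) = _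
  push_cast
  grobner

theorem xr9_11 (t : K) (x : chevG2.Idx → K) :
    (chevG2.x K 9 t *ᵥ x) (eI 9) = x (eI 9) - t*x (hI 0) - t^2*x (eI 2) := by
  rw [mulVec_idx]
  change (-(((1) : ℤ) : K) * t) * x (hI 0) + (-(((0) : ℤ) : K) * t) * x (hI 1) + (0 + 0) * x (eI 0) + (0 + 0) * x (eI 1) + (-(t ^ 2)) * x (eI 2) + (0 + 0) * x (eI 3) + (0 + 0) * x (eI 4) + (0 + 0) * x (eI 5) + (0 + 0) * x (eI 6) + (0 + 0) * x (eI 7) + (0 + 0) * x (eI 8) + 1 * x (eI 9) + (0 + 0) * x (eI 10) + (0 + 0) * x (eI 11) = _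
  push_cast
  grobner

theorem xr9_12 (t : K) (x : chevG2.Idx → K) :
    (chevG2.x K 9 t *ᵥ x) (eI 10) = x (eI 10) + t^3*x (eI 0) := by
  rw [mulVec_idx]
  change 0 * x (hI 0) + 0 * x (hI 1) + (0 + ((((1) : ℤ) : K) * t ^ 3 + 0)) * x (eI 0) + (0 + 0) * x (eI 1) + 0 * x (eI 2) + (0 + ((((3) : ℤ) : K) * t ^ 2 + 0)) * x (eI 3) + (0 + 0) * x (eI 4) + (0 + 0) * x (eI 5) + (0 + 0) * x (eI 6) + (0 + ((((-3) : ℤ) : K) * t ^ 1 + 0)) * x (eI 7) + (0 + 0) * x (eI 8) + 0 * x (eI 9) + (1 + 0) * x (eI 10) + (0 + 0) * x (eI 11) = _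
  push_cast
  grobner

theorem xr9_13 (t : K) (x : chevG2.Idx → K) :
    (chevG2.x K 9 t *ᵥ x) (eI 11) = x (eI 11) - t^3*x (eI 1) := by
  rw [mulVec_idx]
  change 0 * x (hI 0) + 0 * x (hI 1) + (0 + 0) * x (eI 0) + (0 + ((((-1) : ℤ) : K) * t ^ 3 + 0)) * x (eI 1) + 0 * x (eI 2) + (0 + 0) * x (eI 3) + (0 + ((((-3) : ℤ) : K) * t ^ 2 + 0)) * x (eI 4) + (0 + 0) * x (eI 5) + (0 + 0) * x (eI 6) + (0 + 0) * x (eI 7) + (0 + ((((-3) : ℤ) : K) * t ^ 1 + 0)) * x (eI 8) + 0 * x (eI 9) + (0 + 0) * x (eI 10) + (1 + 0) * x (eI 11) = _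
  push_cast
  grobner

theorem compat9 (t : K) : Compat (chevG2.x K 9 t) (A9 t) := by
  refine ⟨fun v => ?_, fun x v => ?_⟩
  · apply idx_ext <;>
      simp only [xr9_0, xr9_1, xr9_2, xr9_3, xr9_4, xr9_5, xr9_6, xr9_7, xr9_8, xr9_9, xr9_10, xr9_11, xr9_12, xr9_13, incl_0, incl_1, incl_2, incl_3, incl_4, incl_5, incl_6, incl_7, incl_8, incl_9, incl_10, incl_11, incl_12, incl_13, A9, mulVec7, v7_0, v7_1, v7_2, v7_3, v7_4, v7_5, v7_6] <;> grobner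
  · simp only [beta, xr9_0, xr9_1, xr9_2, xr9_3, xr9_4, xr9_5, xr9_6, xr9_7, xr9_8, xr9_9, xr9_10, xr9_11, xr9_12, xr9_13, A9, mulVec7, v7_0, v7_1, v7_2, v7_3, v7_4, v7_5, v7_6]
    apply vec7_congr <;> grobner

theorem xr10_0 (t : K) (x : chevG2.Idx → K) :
    (chevG2.x K 10 t *ᵥ x) (hI 0) = x (hI 0) + t*x (eI 1) := by
  rw [mulVec_idx]
  change 1 * x (hI 0) + 0 * x (hI 1) + 0 * x (eI 0) + ((((1) : ℤ) : K) * t) * x (eI 1) + 0 * x (eI 2) + 0 * x (eI 3) + 0 * x (eI 4) + 0 * x (eI 5) + 0 * x (eI 6) + 0 * x (eI 7) + 0 * x (eI 8) + 0 * x (eI 9) + 0 * x (eI 10) + 0 * x (eI 11) = _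
  push_cast
  grobner

theorem xr10_1 (t : K) (x : chevG2.Idx → K) :
    (chevG2.x K 10 t *ᵥ x) (hI 1) = x (hI 1) + t*x (eI 1) := by
  rw [mulVec_idx]
  change 0 * x (hI 0) + 1 * x (hI 1) + 0 * x (eI 0) + ((((1) : ℤ) : K) * t) * x (eI 1) + 0 * x (eI 2) + 0 * x (eI 3) + 0 * x (eI 4) + 0 * x (eI 5) + 0 * x (eI 6) + 0 * x (eI 7) + 0 * x (eI 8) + 0 * x (eI 9) + 0 * x (eI 10) + 0 * x (eI 11) = _
  push_cast
  grobner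

theorem xr10_2 (t : K) (x : chevG2.Idx → K) :
    (chevG2.x K 10 t *ᵥ x) (eI 0) = x (eI 0) := by
  rw [mulVec_idx]
  change 0 * x (hI 0) + 0 * x (hI 1) + (1 + 0) * x (eI 0) + 0 * x (eI 1) + (0 + 0) * x (eI 2) + (0 + 0) * x (eI 3) + (0 + 0) * x (eI 4) + (0 + 0) * x (eI 5) + (0 + 0) * x (eI 6) + (0 + 0) * x (eI 7) + (0 + 0) * x (eI 8) + (0 + 0) * x (eI 9) + 0 * x (eI 10) + (0 + 0) * x (eI 11) = _
  push_cast
  grobner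

theorem xr10_3 (t : K) (x : chevG2.Idx → K) :
    (chevG2.x K 10 t *ᵥ x) (eI 1) = x (eI 1) := by
  rw [mulVec_idx]
  change 0 * x (hI 0) + 0 * x (hI 1) + (0 + 0) * x (eI 0) + 1 * x (eI 1) + (0 + 0) * x (eI 2) + (0 + 0) * x (eI 3) + (0 + 0) * x (eI 4) + (0 + 0) * x (eI 5) + (0 + 0) * x (eI 6) + (0 + 0) * x (eI 7) + (0 + 0) * x (eI 8) + (0 + 0) * x (eI 9) + 0 * x (eI 10) + (0 + 0) * x (eI 11) = _
  push_cast
  grobner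

theorem xr10_4 (t : K) (x : chevG2.Idx → K) :
    (chevG2.x K 10 t *ᵥ x) (eI 2) = x (eI 2) := by
  rw [mulVec_idx]
  change 0 * x (hI 0) + 0 * x (hI 1) + (0 + 0) * x (eI 0) + 0 * x (eI 1) + (1 + 0) * x (eI 2) + (0 + 0) * x (eI 3) + (0 + 0) * x (eI 4) + (0 + 0) * x (eI 5) + (0 + 0) * x (eI 6) + (0 + 0) * x (eI 7) + (0 + 0) * x (eI 8) + (0 + 0) * x (eI 9) + 0 * x (eI 10) + (0 + 0) * x (eI 11) = _
  push_cast
  grobner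

theorem xr10_5 (t : K) (x : chevG2.Idx → K) :
    (chevG2.x K 10 t *ᵥ x) (eI 3) = x (eI 3) := by
  rw [mulVec_idx]
  change 0 * x (hI 0) + 0 * x (hI 1) + (0 + 0) * x (eI 0) + 0 * x (eI 1) + (0 + 0) * x (eI 2) + (1 + 0) * x (eI 3) + (0 + 0) * x (eI 4) + (0 + 0) * x (eI 5) + (0 + 0) * x (eI 6) + (0 + 0) * x (eI 7) + (0 + 0) * x (eI 8) + (0 + 0) * x (eI 9) + 0 * x (eI 10) + (0 + 0) * x (eI 11) = _
  push_cast
  grobner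

theorem xr10_6 (t : K) (x : chevG2.Idx → K) :
    (chevG2.x K 10 t *ᵥ x) (eI 4) = x (eI 4) := by
  rw [mulVec_idx]
  change 0 * x (hI 0) + 0 * x (hI 1) + (0 + 0) * x (eI 0) + 0 * x (eI 1) + (0 + 0) * x (eI 2) + (0 + 0) * x (eI 3) + (1 + 0) * x (eI 4) + (0 + 0) * x (eI 5) + (0 + 0) * x (eI 6) + (0 + 0) * x (eI 7) + (0 + 0) * x (eI 8) + (0 + 0) * x (eI 9) + 0 * x (eI 10) + (0 + 0) * x (eI 11) = _
  push_cast
  grobner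

theorem xr10_7 (t : K) (x : chevG2.Idx → K) :
    (chevG2.x K 10 t *ᵥ x) (eI 5) = x (eI 5) + t*x (eI 0) := by
  rw [mulVec_idx]
  change 0 * x (hI 0) + 0 * x (hI 1) + (0 + ((((1) : ℤ) : K) * t ^ 1 + 0)) * x (eI 0) + 0 * x (eI 1) + (0 + 0) * x (eI 2) + (0 + 0) * x (eI 3) + (0 + 0) * x (eI 4) + (1 + 0) * x (eI 5) + (0 + 0) * x (eI 6) + (0 + 0) * x (eI 7) + (0 + 0) * x (eI 8) + (0 + 0) * x (eI 9) + 0 * x (eI 10) + (0 + 0) * x (eI 11) = _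
  push_cast
  grobner

theorem xr10_8 (t : K) (x : chevG2.Idx → K) :
    (chevG2.x K 10 t *ᵥ x) (eI 6) = x (eI 6) := by
  rw [mulVec_idx]
  change 0 * x (hI 0) + 0 * x (hI 1) + (0 + 0) * x (eI 0) + 0 * x (eI 1) + (0 + 0) * x (eI 2) + (0 + 0) * x (eI 3) + (0 + 0) * x (eI 4) + (0 + 0) * x (eI 5) + (1 + 0) * x (eI 6) + (0 + 0) * x (eI 7) + (0 + 0) * x (eI 8) + (0 + 0) * x (eI 9) + 0 * x (eI 10) + (0 + 0) * x (eI 11) = _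
  push_cast
  grobner

theorem xr10_9 (t : K) (x : chevG2.Idx → K) :
    (chevG2.x K 10 t *ᵥ x) (eI 7) = x (eI 7) + t*x (eI 2) := by
  rw [mulVec_idx]
  change 0 * x (hI 0) + 0 * x (hI 1) + (0 + 0) * x (eI 0) + 0 * x (eI 1) + (0 + ((((1) : ℤ) : K) * t ^ 1 + 0)) * x (eI 2) + (0 + 0) * x (eI 3) + (0 + 0) * x (eI 4) + (0 + 0) * x (eI 5) + (0 + 0) * x (eI 6) + (1 + 0) * x (eI 7) + (0 + 0) * x (eI 8) + (0 + 0) * x (eI 9) + 0 * x (eI 10) + (0 + 0) * x (eI 11) = _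
  push_cast
  grobner

theorem xr10_10 (t : K) (x : chevG2.Idx → K) :
    (chevG2.x K 10 t *ᵥ x) (eI 8) = x (eI 8) := by
  rw [mulVec_idx]
  change 0 * x (hI 0) + 0 * x (hI 1) + (0 + 0) * x (eI 0) + 0 * x (eI 1) + (0 + 0) * x (eI 2) + (0 + 0) * x (eI 3) + (0 + 0) * x (eI 4) + (0 + 0) * x (eI 5) + (0 + 0) * x (eI 6) + (0 + 0) * x (eI 7) + (1 + 0) * x (eI 8) + (0 + 0) * x (eI 9) + 0 * x (eI 10) + (0 + 0) * x (eI 11) = _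
  push_cast
  grobner

theorem xr10_11 (t : K) (x : chevG2.Idx → K) :
    (chevG2.x K 10 t *ᵥ x) (eI 9) = x (eI 9) - t*x (eI 4) := by
  rw [mulVec_idx]
  change 0 * x (hI 0) + 0 * x (hI 1) + (0 + 0) * x (eI 0) + 0 * x (eI 1) + (0 + 0) * x (eI 2) + (0 + 0) * x (eI 3) + (0 + ((((-1) : ℤ) : K) * t ^ 1 + 0)) * x (eI 4) + (0 + 0) * x (eI 5) + (0 + 0) * x (eI 6) + (0 + 0) * x (eI 7) + (0 + 0) * x (eI 8) + (1 + 0) * x (eI 9) + 0 * x (eI 10) + (0 + 0) * x (eI 11) = _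
  push_cast
  grobner

theorem xr10_12 (t : K) (x : chevG2.Idx → K) :
    (chevG2.x K 10 t *ᵥ x) (eI 10) = x (eI 10) + t*x (hI 1) - t^2*x (eI 1) := by
  rw [mulVec_idx]
  change (-(((3) : ℤ) : K) * t) * x (hI 0) + (-(((-1) : ℤ) : K) * t) * x (hI 1) + (0 + 0) * x (eI 0) + (-(t ^ 2)) * x (eI 1) + (0 + 0) * x (eI 2) + (0 + 0) * x (eI 3) + (0 + 0) * x (eI 4) + (0 + 0) * x (eI 5) + (0 + 0) * x (eI 6) + (0 + 0) * x (eI 7) + (0 + 0) * x (eI 8) + (0 + 0) * x (eI 9) + 1 * x (eI 10) + (0 + 0) * x (eI 11) = _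
  push_cast
  grobner

theorem xr10_13 (t : K) (x : chevG2.Idx → K) :
    (chevG2.x K 10 t *ᵥ x) (eI 11) = x (eI 11) - t*x (eI 6) := by
  rw [mulVec_idx]
  change 0 * x (hI 0) + 0 * x (hI 1) + (0 + 0) * x (eI 0) + 0 * x (eI 1) + (0 + 0) * x (eI 2) + (0 + 0) * x (eI 3) + (0 + 0) * x (eI 4) + (0 + 0) * x (eI 5) + (0 + ((((-1) : ℤ) : K) * t ^ 1 + 0)) * x (eI 6) + (0 + 0) * x (eI 7) + (0 + 0) * x (eI 8) + (0 + 0) * x (eI 9) + 0 * x (eI 10) + (1 + 0) * x (eI 11) = _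
  push_cast
  grobner

theorem compat10 (t : K) : Compat (chevG2.x K 10 t) (A10 t) := by
  refine ⟨fun v => ?_, fun x v => ?_⟩
  · apply idx_ext <;>
      simp only [xr10_0, xr10_1, xr10_2, xr10_3, xr10_4, xr10_5, xr10_6, xr10_7, xr10_8, xr10_9, xr10_10, xr10_11, xr10_12, xr10_13, incl_0, incl_1, incl_2, incl_3, incl_4, incl_5, incl_6, incl_7, incl_8, incl_9, incl_10, incl_11, incl_12, incl_13, A10, mulVec7, v7_0, v7_1, v7_2, v7_3, v7_4, v7_5, v7_6] <;> grobner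
  · simp only [beta, xr10_0, xr10_1, xr10_2, xr10_3, xr10_4, xr10_5, xr10_6, xr10_7, xr10_8, xr10_9, xr10_10, xr10_11, xr10_12, xr10_13, A10, mulVec7, v7_0, v7_1, v7_2, v7_3, v7_4, v7_5, v7_6]
    apply vec7_congr <;> grobner

theorem xr11_0 (t : K) (x : chevG2.Idx → K) :
    (chevG2.x K 11 t *ᵥ x) (hI 0) = x (hI 0) + t*x (eI 0) := by
  rw [mulVec_idx]
  change 1 * x (hI 0) + 0 * x (hI 1) + ((((1) : ℤ) : K) * t) * x (eI 0) + 0 * x (eI 1) + 0 * x (eI 2) + 0 * x (eI 3) + 0 * x (eI 4) + 0 * x (eI 5) + 0 * x (eI 6) + 0 * x (eI 7) + 0 * x (eI 8) + 0 * x (eI 9) + 0 * x (eI 10) + 0 * x (eI 11) = _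
  push_cast
  grobner

theorem xr11_1 (t : K) (x : chevG2.Idx → K) :
    (chevG2.x K 11 t *ᵥ x) (hI 1) = x (hI 1) - t*x (eI 0) := by
  rw [mulVec_idx]
  change 0 * x (hI 0) + 1 * x (hI 1) + ((((2) : ℤ) : K) * t) * x (eI 0) + 0 * x (eI 1) + 0 * x (eI 2) + 0 * x (eI 3) + 0 * x (eI 4) + 0 * x (eI 5) + 0 * x (eI 6) + 0 * x (eI 7) + 0 * x (eI 8) + 0 * x (eI 9) + 0 * x (eI 10) + 0 * x (eI 11) = _
  push_cast
  grobner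

theorem xr11_2 (t : K) (x : chevG2.Idx → K) :
    (chevG2.x K 11 t *ᵥ x) (eI 0) = x (eI 0) := by
  rw [mulVec_idx]
  change 0 * x (hI 0) + 0 * x (hI 1) + 1 * x (eI 0) + (0 + 0) * x (eI 1) + (0 + 0) * x (eI 2) + (0 + 0) * x (eI 3) + (0 + 0) * x (eI 4) + (0 + 0) * x (eI 5) + (0 + 0) * x (eI 6) + (0 + 0) * x (eI 7) + (0 + 0) * x (eI 8) + (0 + 0) * x (eI 9) + (0 + 0) * x (eI 10) + 0 * x (eI 11) = _
  push_cast
  grobner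

theorem xr11_3 (t : K) (x : chevG2.Idx → K) :
    (chevG2.x K 11 t *ᵥ x) (eI 1) = x (eI 1) := by
  rw [mulVec_idx]
  change 0 * x (hI 0) + 0 * x (hI 1) + 0 * x (eI 0) + (1 + 0) * x (eI 1) + (0 + 0) * x (eI 2) + (0 + 0) * x (eI 3) + (0 + 0) * x (eI 4) + (0 + 0) * x (eI 5) + (0 + 0) * x (eI 6) + (0 + 0) * x (eI 7) + (0 + 0) * x (eI 8) + (0 + 0) * x (eI 9) + (0 + 0) * x (eI 10) + 0 * x (eI 11) = _
  push_cast
  grobner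

theorem xr11_4 (t : K) (x : chevG2.Idx → K) :
    (chevG2.x K 11 t *ᵥ x) (eI 2) = x (eI 2) := by
  rw [mulVec_idx]
  change 0 * x (hI 0) + 0 * x (hI 1) + 0 * x (eI 0) + (0 + 0) * x (eI 1) + (1 + 0) * x (eI 2) + (0 + 0) * x (eI 3) + (0 + 0) * x (eI 4) + (0 + 0) * x (eI 5) + (0 + 0) * x (eI 6) + (0 + 0) * x (eI 7) + (0 + 0) * x (eI 8) + (0 + 0) * x (eI 9) + (0 + 0) * x (eI 10) + 0 * x (eI 11) = _
  push_cast
  grobner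

theorem xr11_5 (t : K) (x : chevG2.Idx → K) :
    (chevG2.x K 11 t *ᵥ x) (eI 3) = x (eI 3) := by
  rw [mulVec_idx]
  change 0 * x (hI 0) + 0 * x (hI 1) + 0 * x (eI 0) + (0 + 0) * x (eI 1) + (0 + 0) * x (eI 2) + (1 + 0) * x (eI 3) + (0 + 0) * x (eI 4) + (0 + 0) * x (eI 5) + (0 + 0) * x (eI 6) + (0 + 0) * x (eI 7) + (0 + 0) * x (eI 8) + (0 + 0) * x (eI 9) + (0 + 0) * x (eI 10) + 0 * x (eI 11) = _
  push_cast
  grobner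

theorem xr11_6 (t : K) (x : chevG2.Idx → K) :
    (chevG2.x K 11 t *ᵥ x) (eI 4) = x (eI 4) := by
  rw [mulVec_idx]
  change 0 * x (hI 0) + 0 * x (hI 1) + 0 * x (eI 0) + (0 + 0) * x (eI 1) + (0 + 0) * x (eI 2) + (0 + 0) * x (eI 3) + (1 + 0) * x (eI 4) + (0 + 0) * x (eI 5) + (0 + 0) * x (eI 6) + (0 + 0) * x (eI 7) + (0 + 0) * x (eI 8) + (0 + 0) * x (eI 9) + (0 + 0) * x (eI 10) + 0 * x (eI 11) = _
  push_cast
  grobner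

theorem xr11_7 (t : K) (x : chevG2.Idx → K) :
    (chevG2.x K 11 t *ᵥ x) (eI 5) = x (eI 5) := by
  rw [mulVec_idx]
  change 0 * x (hI 0) + 0 * x (hI 1) + 0 * x (eI 0) + (0 + 0) * x (eI 1) + (0 + 0) * x (eI 2) + (0 + 0) * x (eI 3) + (0 + 0) * x (eI 4) + (1 + 0) * x (eI 5) + (0 + 0) * x (eI 6) + (0 + 0) * x (eI 7) + (0 + 0) * x (eI 8) + (0 + 0) * x (eI 9) + (0 + 0) * x (eI 10) + 0 * x (eI 11) = _
  push_cast
  grobner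

theorem xr11_8 (t : K) (x : chevG2.Idx → K) :
    (chevG2.x K 11 t *ᵥ x) (eI 6) = x (eI 6) + t*x (eI 1) := by
  rw [mulVec_idx]
  change 0 * x (hI 0) + 0 * x (hI 1) + 0 * x (eI 0) + (0 + ((((1) : ℤ) : K) * t ^ 1 + 0)) * x (eI 1) + (0 + 0) * x (eI 2) + (0 + 0) * x (eI 3) + (0 + 0) * x (eI 4) + (0 + 0) * x (eI 5) + (1 + 0) * x (eI 6) + (0 + 0) * x (eI 7) + (0 + 0) * x (eI 8) + (0 + 0) * x (eI 9) + (0 + 0) * x (eI 10) + 0 * x (eI 11) = _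
  push_cast
  grobner

theorem xr11_9 (t : K) (x : chevG2.Idx → K) :
    (chevG2.x K 11 t *ᵥ x) (eI 7) = x (eI 7) := by
  rw [mulVec_idx]
  change 0 * x (hI 0) + 0 * x (hI 1) + 0 * x (eI 0) + (0 + 0) * x (eI 1) + (0 + 0) * x (eI 2) + (0 + 0) * x (eI 3) + (0 + 0) * x (eI 4) + (0 + 0) * x (eI 5) + (0 + 0) * x (eI 6) + (1 + 0) * x (eI 7) + (0 + 0) * x (eI 8) + (0 + 0) * x (eI 9) + (0 + 0) * x (eI 10) + 0 * x (eI 11) = _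
  push_cast
  grobner

theorem xr11_10 (t : K) (x : chevG2.Idx → K) :
    (chevG2.x K 11 t *ᵥ x) (eI 8) = x (eI 8) + t*x (eI 2) := by
  rw [mulVec_idx]
  change 0 * x (hI 0) + 0 * x (hI 1) + 0 * x (eI 0) + (0 + 0) * x (eI 1) + (0 + ((((1) : ℤ) : K) * t ^ 1 + 0)) * x (eI 2) + (0 + 0) * x (eI 3) + (0 + 0) * x (eI 4) + (0 + 0) * x (eI 5) + (0 + 0) * x (eI 6) + (0 + 0) * x (eI 7) + (1 + 0) * x (eI 8) + (0 + 0) * x (eI 9) + (0 + 0) * x (eI 10) + 0 * x (eI 11) = _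
  push_cast
  grobner

theorem xr11_11 (t : K) (x : chevG2.Idx → K) :
    (chevG2.x K 11 t *ᵥ x) (eI 9) = x (eI 9) - t*x (eI 3) := by
  rw [mulVec_idx]
  change 0 * x (hI 0) + 0 * x (hI 1) + 0 * x (eI 0) + (0 + 0) * x (eI 1) + (0 + 0) * x (eI 2) + (0 + ((((-1) : ℤ) : K) * t ^ 1 + 0)) * x (eI 3) + (0 + 0) * x (eI 4) + (0 + 0) * x (eI 5) + (0 + 0) * x (eI 6) + (0 + 0) * x (eI 7) + (0 + 0) * x (eI 8) + (1 + 0) * x (eI 9) + (0 + 0) * x (eI 10) + 0 * x (eI 11) = _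
  push_cast
  grobner

theorem xr11_12 (t : K) (x : chevG2.Idx → K) :
    (chevG2.x K 11 t *ᵥ x) (eI 10) = x (eI 10) - t*x (eI 5) := by
  rw [mulVec_idx]
  change 0 * x (hI 0) + 0 * x (hI 1) + 0 * x (eI 0) + (0 + 0) * x (eI 1) + (0 + 0) * x (eI 2) + (0 + 0) * x (eI 3) + (0 + 0) * x (eI 4) + (0 + ((((-1) : ℤ) : K) * t ^ 1 + 0)) * x (eI 5) + (0 + 0) * x (eI 6) + (0 + 0) * x (eI 7) + (0 + 0) * x (eI 8) + (0 + 0) * x (eI 9) + (1 + 0) * x (eI 10) + 0 * x (eI 11) = _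
  push_cast
  grobner

theorem xr11_13 (t : K) (x : chevG2.Idx → K) :
    (chevG2.x K 11 t *ᵥ x) (eI 11) = x (eI 11) - t*x (hI 1) - t^2*x (eI 0) := by
  rw [mulVec_idx]
  change (-(((0) : ℤ) : K) * t) * x (hI 0) + (-(((1) : ℤ) : K) * t) * x (hI 1) + (-(t ^ 2)) * x (eI 0) + (0 + 0) * x (eI 1) + (0 + 0) * x (eI 2) + (0 + 0) * x (eI 3) + (0 + 0) * x (eI 4) + (0 + 0) * x (eI 5) + (0 + 0) * x (eI 6) + (0 + 0) * x (eI 7) + (0 + 0) * x (eI 8) + (0 + 0) * x (eI 9) + (0 + 0) * x (eI 10) + 1 * x (eI 11) = _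
  push_cast
  grobner

theorem compat11 (t : K) : Compat (chevG2.x K 11 t) (A11 t) := by
  refine ⟨fun v => ?_, fun x v => ?_⟩
  · apply idx_ext <;>
      simp only [xr11_0, xr11_1, xr11_2, xr11_3, xr11_4, xr11_5, xr11_6, xr11_7, xr11_8, xr11_9, xr11_10, xr11_11, xr11_12, xr11_13, incl_0, incl_1, incl_2, incl_3, incl_4, incl_5, incl_6, incl_7, incl_8, incl_9, incl_10, incl_11, incl_12, incl_13, A11, mulVec7, v7_0, v7_1, v7_2, v7_3, v7_4, v7_5, v7_6] <;> grobner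
  · simp only [beta, xr11_0, xr11_1, xr11_2, xr11_3, xr11_4, xr11_5, xr11_6, xr11_7, xr11_8, xr11_9, xr11_10, xr11_11, xr11_12, xr11_13, A11, mulVec7, v7_0, v7_1, v7_2, v7_3, v7_4, v7_5, v7_6]
    apply vec7_congr <;> grobner

end Cfsg.Agent.H9.Ree
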