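import Cfsg.Agent.H9.ReeG2

/-!
Identities between the 7 × 7 root matrices.
-/

set_option autoImplicit false
set_option linter.unusedSectionVars false
set_option linter.unusedSimpArgs false

namespace Cfsg.Agent.H9.Ree
open Matrix Cfsg.Lie
variable {K : Type*} [Field K] [CharP K 3]

theorem A0_inv (t : K) : A0 t * A0 (-t) = 1 := by
  simp only [A0, mul7, one7]
  apply mat7_congr <;> grobner

theorem hA0 (t s : K) (h : t * s = 1) :
    A0 t * (A11 (-s) * (A0 t * (A0 (-1) * (A11 1 * A0 (-1))))) = Dg s s 1 1 1 t t := by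
  have h1 : A0 (-1 : K) * (A11 1 * A0 (-1)) = !![0, 0, 0, 0, 0, -1, 0;
    0, 0, 0, 0, 0, 0, 1;
    0, 0, 1, 0, 0, 0, 0;
    0, 0, 0, 1, 0, 0, 0;
    0, 0, 0, 0, 1, 0, 0;
    1, 0, 0, 0, 0, 0, 0;
    0, -1, 0, 0, 0, 0, 0] := by
    simp only [A0, A11, mul7]
    apply mat7_congr <;> grobner
  rw [h1]
  simp only [A0, A11, Dg, mul7, mul_zero, zero_mul, add_zero, zero_add, mul_one, one_mul]
  apply mat7_congr <;> grobner

theorem A1_inv (t : K) : A1 t * A1 (-t) = 1 := by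
  simp only [A1, mul7, one7]
  apply mat7_congr <;> grobner

theorem hA1 (t s : K) (h : t * s = 1) :
    A1 t * (A10 (-s) * (A1 t * (A1 (-1) * (A10 1 * A1 (-1))))) = Dg s 1 s 1 t 1 t := by
  have h1 : A1 (-1 : K) * (A10 1 * A1 (-1)) = !![0, 0, 0, 0, -1, 0, 0;
    0, 1, 0, 0, 0, 0, 0;
    0, 0, 0, 0, 0, 0, 1;
    0, 0, 0, 1, 0, 0, 0;
    1, 0, 0, 0, 0, 0, 0;
    0, 0, 0, 0, 0, 1, 0;
    0, 0, -1, 0, 0, 0, 0] := by
    simp only [A1, A10, mul7]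
    apply mat7_congr <;> grobner
  rw [h1]
  simp only [A1, A10, Dg, mul7, mul_zero, zero_mul, add_zero, zero_add, mul_one, one_mul]
  apply mat7_congr <;> grobner

theorem A2_inv (t : K) : A2 t * A2 (-t) = 1 := by
  simp only [A2, mul7, one7]
  apply mat7_congr <;> grobner

theorem hA2 (t s : K) (h : t * s = 1) :
    A2 t * (A9 (-s) * (A2 t * (A2 (-1) * (A9 1 * A2 (-1))))) = Dg (s^2) s s 1 t t (t^2) := by
  have h1 : A2 (-1 : K) * (A9 1 * A2 (-1)) = !![0, 0, 0, 0, 0, 0, -1;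
    0, 0, 0, 0, -1, 0, 0;
    0, 0, 0, 0, 0, 1, 0;
    0, 0, 0, -1, 0, 0, 0;
    0, 1, 0, 0, 0, 0, 0;
    0, 0, -1, 0, 0, 0, 0;
    -1, 0, 0, 0, 0, 0, 0] := by
    simp only [A2, A9, mul7]
    apply mat7_congr <;> grobner
  rw [h1]
  simp only [A2, A9, Dg, mul7, mul_zero, zero_mul, add_zero, zero_add, mul_one, one_mul]
  apply mat7_congr <;> grobner

theorem A3_inv (t : K) : A3 t * A3 (-t) = 1 := by
  simp only [A3, mul7, one7]
  apply mat7_congr <;> grobner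

theorem hA3 (t s : K) (h : t * s = 1) :
    A3 t * (A8 (-s) * (A3 t * (A3 (-1) * (A8 1 * A3 (-1))))) = Dg s (s^2) t 1 s (t^2) t := by
  have h1 : A3 (-1 : K) * (A8 1 * A3 (-1)) = !![0, 0, -1, 0, 0, 0, 0;
    0, 0, 0, 0, 0, -1, 0;
    1, 0, 0, 0, 0, 0, 0;
    0, 0, 0, -1, 0, 0, 0;
    0, 0, 0, 0, 0, 0, 1;
    0, -1, 0, 0, 0, 0, 0;
    0, 0, 0, 0, -1, 0, 0] := by
    simp only [A3, A8, mul7]
    apply mat7_congr <;> grobner
  rw [h1]
  simp only [A3, A8, Dg, mul7, mul_zero, zero_mul, add_zero, zero_add, mul_one, one_mul]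
  apply mat7_congr <;> grobner

theorem A4_inv (t : K) : A4 t * A4 (-t) = 1 := by
  simp only [A4, mul7, one7]
  apply mat7_congr <;> grobner

theorem hA4 (t s : K) (h : t * s = 1) :
    A4 t * (A7 (-s) * (A4 t * (A4 (-1) * (A7 1 * A4 (-1))))) = Dg s t (s^2) 1 (t^2) s t := by
  have h1 : A4 (-1 : K) * (A7 1 * A4 (-1)) = !![0, 1, 0, 0, 0, 0, 0;
    -1, 0, 0, 0, 0, 0, 0;
    0, 0, 0, 0, -1, 0, 0;
    0, 0, 0, -1, 0, 0, 0;
    0, 0, -1, 0, 0, 0, 0;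
    0, 0, 0, 0, 0, 0, -1;
    0, 0, 0, 0, 0, 1, 0] := by
    simp only [A4, A7, mul7]
    apply mat7_congr <;> grobner
  rw [h1]
  simp only [A4, A7, Dg, mul7, mul_zero, zero_mul, add_zero, zero_add, mul_one, one_mul]
  apply mat7_congr <;> grobner

theorem A5_inv (t : K) : A5 t * A5 (-t) = 1 := by
  simp only [A5, mul7, one7]
  apply mat7_congr <;> grobner

theorem hA5 (t s : K) (h : t * s = 1) :
    A5 t * (A6 (-s) * (A5 t * (A5 (-1) * (A6 1 * A5 (-1))))) = Dg 1 s t 1 s t 1 := by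
  have h1 : A5 (-1 : K) * (A6 1 * A5 (-1)) = !![1, 0, 0, 0, 0, 0, 0;
    0, 0, 1, 0, 0, 0, 0;
    0, -1, 0, 0, 0, 0, 0;
    0, 0, 0, 1, 0, 0, 0;
    0, 0, 0, 0, 0, -1, 0;
    0, 0, 0, 0, 1, 0, 0;
    0, 0, 0, 0, 0, 0, 1] := by
    simp only [A5, A6, mul7]
    apply mat7_congr <;> grobner
  rw [h1]
  simp only [A5, A6, Dg, mul7, mul_zero, zero_mul, add_zero, zero_add, mul_one, one_mul]
  apply mat7_congr <;> grobner

theorem A6_inv (t : K) : A6 t * A6 (-t) = 1 := by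
  simp only [A6, mul7, one7]
  apply mat7_congr <;> grobner

theorem hA6 (t s : K) (h : t * s = 1) :
    A6 t * (A5 (-s) * (A6 t * (A6 (-1) * (A5 1 * A6 (-1))))) = Dg 1 t s 1 t s 1 := by
  have h1 : A6 (-1 : K) * (A5 1 * A6 (-1)) = !![1, 0, 0, 0, 0, 0, 0;
    0, 0, -1, 0, 0, 0, 0;
    0, 1, 0, 0, 0, 0, 0;
    0, 0, 0, 1, 0, 0, 0;
    0, 0, 0, 0, 0, 1, 0;
    0, 0, 0, 0, -1, 0, 0;
    0, 0, 0, 0, 0, 0, 1] := by
    simp only [A6, A5, mul7]
    apply mat7_congr <;> grobner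
  rw [h1]
  simp only [A6, A5, Dg, mul7, mul_zero, zero_mul, add_zero, zero_add, mul_one, one_mul]
  apply mat7_congr <;> grobner

theorem A7_inv (t : K) : A7 t * A7 (-t) = 1 := by
  simp only [A7, mul7, one7]
  apply mat7_congr <;> grobner

theorem hA7 (t s : K) (h : t * s = 1) :
    A7 t * (A4 (-s) * (A7 t * (A7 (-1) * (A4 1 * A7 (-1))))) = Dg t s (t^2) 1 (s^2) t s := by
  have h1 : A7 (-1 : K) * (A4 1 * A7 (-1)) = !![0, -1, 0, 0, 0, 0, 0;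
    1, 0, 0, 0, 0, 0, 0;
    0, 0, 0, 0, -1, 0, 0;
    0, 0, 0, -1, 0, 0, 0;
    0, 0, -1, 0, 0, 0, 0;
    0, 0, 0, 0, 0, 0, 1;
    0, 0, 0, 0, 0, -1, 0] := by
    simp only [A7, A4, mul7]
    apply mat7_congr <;> grobner
  rw [h1]
  simp only [A7, A4, Dg, mul7, mul_zero, zero_mul, add_zero, zero_add, mul_one, one_mul]
  apply mat7_congr <;> grobner

theorem A8_inv (t : K) : A8 t * A8 (-t) = 1 := by
  simp only [A8, mul7, one7]
  apply mat7_congr <;> grobner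

theorem hA8 (t s : K) (h : t * s = 1) :
    A8 t * (A3 (-s) * (A8 t * (A8 (-1) * (A3 1 * A8 (-1))))) = Dg t (t^2) s 1 t (s^2) s := by
  have h1 : A8 (-1 : K) * (A3 1 * A8 (-1)) = !![0, 0, 1, 0, 0, 0, 0;
    0, 0, 0, 0, 0, -1, 0;
    -1, 0, 0, 0, 0, 0, 0;
    0, 0, 0, -1, 0, 0, 0;
    0, 0, 0, 0, 0, 0, -1;
    0, -1, 0, 0, 0, 0, 0;
    0, 0, 0, 0, 1, 0, 0] := by
    simp only [A8, A3, mul7]
    apply mat7_congr <;> grobner
  rw [h1]
  simp only [A8, A3, Dg, mul7, mul_zero, zero_mul, add_zero, zero_add, mul_one, one_mul]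
  apply mat7_congr <;> grobner

theorem A9_inv (t : K) : A9 t * A9 (-t) = 1 := by
  simp only [A9, mul7, one7]
  apply mat7_congr <;> grobner

theorem hA9 (t s : K) (h : t * s = 1) :
    A9 t * (A2 (-s) * (A9 t * (A9 (-1) * (A2 1 * A9 (-1))))) = Dg (t^2) t t 1 s s (s^2) := by
  have h1 : A9 (-1 : K) * (A2 1 * A9 (-1)) = !![0, 0, 0, 0, 0, 0, -1;
    0, 0, 0, 0, 1, 0, 0;
    0, 0, 0, 0, 0, -1, 0;
    0, 0, 0, -1, 0, 0, 0;
    0, -1, 0, 0, 0, 0, 0;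
    0, 0, 1, 0, 0, 0, 0;
    -1, 0, 0, 0, 0, 0, 0] := by
    simp only [A9, A2, mul7]
    apply mat7_congr <;> grobner
  rw [h1]
  simp only [A9, A2, Dg, mul7, mul_zero, zero_mul, add_zero, zero_add, mul_one, one_mul]
  apply mat7_congr <;> grobner

theorem A10_inv (t : K) : A10 t * A10 (-t) = 1 := by
  simp only [A10, mul7, one7]
  apply mat7_congr <;> grobner

theorem hA10 (t s : K) (h : t * s = 1) :
    A10 t * (A1 (-s) * (A10 t * (A10 (-1) * (A1 1 * A10 (-1))))) = Dg t 1 t 1 s 1 s := by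
  have h1 : A10 (-1 : K) * (A1 1 * A10 (-1)) = !![0, 0, 0, 0, 1, 0, 0;
    0, 1, 0, 0, 0, 0, 0;
    0, 0, 0, 0, 0, 0, -1;
    0, 0, 0, 1, 0, 0, 0;
    -1, 0, 0, 0, 0, 0, 0;
    0, 0, 0, 0, 0, 1, 0;
    0, 0, 1, 0, 0, 0, 0] := by
    simp only [A10, A1, mul7]
    apply mat7_congr <;> grobner
  rw [h1]
  simp only [A10, A1, Dg, mul7, mul_zero, zero_mul, add_zero, zero_add, mul_one, one_mul]
  apply mat7_congr <;> grobner

theorem A11_inv (t : K) : A11 t * A11 (-t) = 1 := by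
  simp only [A11, mul7, one7]
  apply mat7_congr <;> grobner

theorem hA11 (t s : K) (h : t * s = 1) :
    A11 t * (A0 (-s) * (A11 t * (A11 (-1) * (A0 1 * A11 (-1))))) = Dg t t 1 1 1 s s := by
  have h1 : A11 (-1 : K) * (A0 1 * A11 (-1)) = !![0, 0, 0, 0, 0, 1, 0;
    0, 0, 0, 0, 0, 0, -1;
    0, 0, 1, 0, 0, 0, 0;
    0, 0, 0, 1, 0, 0, 0;
    0, 0, 0, 0, 1, 0, 0;
    -1, 0, 0, 0, 0, 0, 0;
    0, 1, 0, 0, 0, 0, 0] := by
    simp only [A11, A0, mul7]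
    apply mat7_congr <;> grobner
  rw [h1]
  simp only [A11, A0, Dg, mul7, mul_zero, zero_mul, add_zero, zero_add, mul_one, one_mul]
  apply mat7_congr <;> grobner


theorem wordU_eq (a A b B c C : K) :
    A7 a * (A6 A * (A8 (a * A + b) * (A9 (a ^ 2 * A + c) * (A10 B * A11 C)))) = Xg a A b B c C := by
  simp only [A6, A7, A8, A9, A10, A11, Xg, mul7, mul_zero, zero_mul, add_zero, zero_add, mul_one, one_mul]
  apply mat7_congr <;> grobner

theorem wordV_eq (a A b B c C : K) :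
    A4 (-a) * (A5 (-A) * (A3 (-(a * A + b)) * (A2 (-(a ^ 2 * A + c)) * (A1 (-B) * A0 (-C))))) =
      Nm * Xg a A b B c C * Nm := by
  simp only [A0, A1, A2, A3, A4, A5, Xg, Nm, mul7, mul_zero, zero_mul, add_zero, zero_add, mul_one, one_mul]
  apply mat7_congr <;> grobner

end Cfsg.Agent.H9.Ree
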