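import Cfsg.Agent.H9.GrpLemmas
import Cfsg.Agent.H9.RankOne

/-!
Cyclic self-centralising trivial-intersection Hall subgroups.
-/

set_option autoImplicit false
set_option linter.unusedSectionVars false

namespace Cfsg.Agent.H9

variable {G : Type*} [Group G]

/-- Centralisers of elements of prime order dividing `t` are cyclic of exponent dividing `t`, and contain at most `W`
conjugates of the element. -/
def ToriHyp (G : Type*) [Group G] (t W : ℕ) : Prop :=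
  ∀ p : ℕ, p.Prime → p ∣ t → ∀ y : G, orderOf y = p → IsCyclic (Subgroup.centralizer {y}) ∧
    (∀ c : G, c * y = y * c → c ^ t = 1) ∧ {z : G | z * y = y * z ∧ ∃ g : G, g * y * g⁻¹ = z}.ncard ≤ W

structure IsTorus (t W : ℕ) (T : Subgroup G) : Prop where
  cyc : IsCyclic T
  ne_bot : T ≠ ⊥
  dvd : Nat.card T ∣ t
  cent : ∀ x ∈ T, x ≠ 1 → Subgroup.centralizer {x} = T
  wt : ∃ w, 1 ≤ w ∧ w ≤ W ∧ Nat.card (Subgroup.normalizer (T : Set G)) = w * Nat.card T

/-- The non-identity elements. -/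
def sharp (T : Subgroup G) : Set G := {x | x ∈ T ∧ x ≠ 1}

theorem comm_of_isCyclic {T : Subgroup G} (h : IsCyclic T) {x y : G} (hx : x ∈ T) (hy : y ∈ T) : x * y = y * x := by
  obtain ⟨g, hg⟩ := IsCyclic.exists_generator (α := T)
  obtain ⟨a, ha⟩ := hg ⟨x, hx⟩
  obtain ⟨b, hb⟩ := hg ⟨y, hy⟩
  have ha' : (g : G) ^ a = x := congrArg Subtype.val ha
  have hb' : (g : G) ^ b = y := congrArg Subtype.val hb
  rw [← ha', ← hb']
  exact (Commute.refl _).zpow_zpow a b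

theorem pow_card_of_mem' {P : Subgroup G} {x : G} (h : x ∈ P) : x ^ Nat.card P = 1 :=
  congrArg Subtype.val (pow_card_eq_one' (G := P) (x := ⟨x, h⟩))

variable [Finite G] {t W : ℕ}

theorem exists_orderOf_eq_card {T : Subgroup G} (h : IsCyclic T) : ∃ g ∈ T, orderOf g = Nat.card T := by
  obtain ⟨g, hg⟩ := IsCyclic.exists_generator (α := T)
  exact ⟨g, g.2, by rw [Subgroup.orderOf_coe, orderOf_eq_card_of_forall_mem_zpowers hg]⟩

theorem exists_orderOf_eq_of_dvd {g : G} {d : ℕ} (h : d ∣ orderOf g) : ∃ x : G, orderOf x = d :=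
  ⟨_, orderOf_pow_orderOf_div (orderOf_pos g).ne' h⟩

theorem mem_normalizer_of_cent {T : Subgroup G} (hc : ∀ x ∈ T, x ≠ 1 → Subgroup.centralizer {x} = T) {g x : G}
    (hx : x ∈ T) (hx1 : x ≠ 1) (h : g * x * g⁻¹ ∈ T) : g ∈ Subgroup.normalizer (T : Set G) := by
  apply Subgroup.mem_normalizer_fintype
  intro y hy
  have h1 : g * x * g⁻¹ ≠ 1 := by
    intro e; apply hx1; simpa [mul_inv_eq_one] using e
  show g * y * g⁻¹ ∈ T
  rw [← hc _ h h1, Subgroup.mem_centralizer_singleton_iff]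
  have h2 : y * x = x * y := Subgroup.mem_centralizer_singleton_iff.mp (by rw [hc _ hx hx1]; exact hy)
  calc g * y * g⁻¹ * (g * x * g⁻¹) = g * (y * x) * g⁻¹ := by simp [mul_assoc]
    _ = _ := by rw [h2]; simp [mul_assoc]

theorem ToriHyp.isTorus (H : ToriHyp G t W) {p : ℕ} (hp : p.Prime) (hd : p ∣ t) {y : G} (hy : orderOf y = p) :
    IsTorus t W (Subgroup.centralizer {y}) := by
  obtain ⟨hcyc, hpow, hW⟩ := H p hp hd y hy
  have hy1 : y ≠ 1 := by rintro rfl; exact hp.one_lt.ne (by simpa using hy)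
  have hyT : y ∈ Subgroup.centralizer {y} := Subgroup.mem_centralizer_singleton_iff.mpr rfl
  have hcent : ∀ x ∈ Subgroup.centralizer {y}, x ≠ 1 → Subgroup.centralizer {x} = Subgroup.centralizer {y} := by
    intro x hx hx1
    apply le_antisymm
    · intro g hg
      have hxt := hpow x (Subgroup.mem_centralizer_singleton_iff.mp hx)
      obtain ⟨l, hl, hld⟩ := Nat.exists_prime_and_dvd (n := orderOf x) (by simpa using hx1)
      obtain ⟨k, hk⟩ := exists_pow_orderOf_eq_prime hld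
      obtain ⟨hc', -, -⟩ := H l hl (hld.trans (orderOf_dvd_of_pow_eq_one hxt)) _ hk
      rw [Subgroup.mem_centralizer_singleton_iff] at hg hx ⊢
      exact comm_of_isCyclic hc' (Subgroup.mem_centralizer_singleton_iff.mpr (Commute.pow_right hg k))
        (Subgroup.mem_centralizer_singleton_iff.mpr (Commute.pow_right hx.symm k))
    · intro g hg
      exact Subgroup.mem_centralizer_singleton_iff.mpr (comm_of_isCyclic hcyc hg hx)
  refine ⟨hcyc, fun h => hy1 (by simpa [h] using hyT), ?_, hcent, ?_⟩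
  · obtain ⟨g, hg, ho⟩ := exists_orderOf_eq_card hcyc
    rw [← ho]
    exact orderOf_dvd_of_pow_eq_one (hpow g (Subgroup.mem_centralizer_singleton_iff.mp hg))
  · have h1 := card_eq_conj_orbit_mul (Subgroup.normalizer ((Subgroup.centralizer {y} : Subgroup G) : Set G)) y
      {z : G | z * y = y * z ∧ ∃ g : G, g * y * g⁻¹ = z} (by
        intro z
        constructor
        · rintro ⟨h, g, rfl⟩
          exact ⟨g, mem_normalizer_of_cent hcent hyT hy1 (Subgroup.mem_centralizer_singleton_iff.mpr h), rfl⟩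
        · rintro ⟨g, hg, rfl⟩
          exact ⟨Subgroup.mem_centralizer_singleton_iff.mp ((Subgroup.mem_normalizer_iff.mp hg y).mp hyT), g, rfl⟩)
    rw [inf_eq_right.mpr Subgroup.le_normalizer] at h1
    refine ⟨_, ?_, hW, h1⟩
    exact (Set.ncard_pos (Set.toFinite _)).mpr ⟨y, rfl, 1, by simp⟩

theorem ToriHyp.exists_torus (H : ToriHyp G t W) {x : G} (hx1 : x ≠ 1) (hx : x ^ t = 1) :
    ∃ T : Subgroup G, IsTorus t W T ∧ x ∈ T := by
  obtain ⟨l, hl, hld⟩ := Nat.exists_prime_and_dvd (n := orderOf x) (by simpa using hx1)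
  obtain ⟨k, hk⟩ := exists_pow_orderOf_eq_prime hld
  exact ⟨_, H.isTorus hl (hld.trans (orderOf_dvd_of_pow_eq_one hx)) hk,
    Subgroup.mem_centralizer_singleton_iff.mpr (Commute.self_pow x k)⟩

theorem ToriHyp.exists_torus_dvd (H : ToriHyp G t W) (ht : t ∣ Nat.card G) {p : ℕ} (hp : p.Prime) (hd : p ∣ t) :
    ∃ T : Subgroup G, IsTorus t W T ∧ p ∣ Nat.card T := by
  have : Fact p.Prime := ⟨hp⟩
  obtain ⟨y, hy⟩ := exists_prime_orderOf_dvd_card' p (hd.trans ht)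
  refine ⟨_, H.isTorus hp hd hy, ?_⟩
  rw [← hy]
  exact orderOf_dvd_of_pow_eq_one (pow_card_of_mem' (Subgroup.mem_centralizer_singleton_iff.mpr rfl))

namespace IsTorus

variable {T : Subgroup G} (hT : IsTorus t W T)
include hT

theorem normalizer_eq {A₀ : Subgroup G} (hle : A₀ ≤ T) (h0 : A₀ ≠ ⊥) :
    Subgroup.normalizer (A₀ : Set G) = Subgroup.normalizer (T : Set G) := by
  have := hT.cyc
  refine le_antisymm (fun g hg => ?_) (normalizer_le_of_isCyclic hle)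
  obtain ⟨⟨x, hx⟩, hx1⟩ := Subgroup.ne_bot_iff_exists_ne_one.mp h0
  exact mem_normalizer_of_cent hT.cent (hle hx) (fun h => hx1 (Subtype.ext h))
    (hle ((Subgroup.mem_normalizer_iff.mp hg x).mp hx))

theorem exists_elt {p : ℕ} (hd : p ∣ Nat.card T) : ∃ y ∈ T, orderOf y = p := by
  obtain ⟨g, hg, ho⟩ := exists_orderOf_eq_card hT.cyc
  obtain ⟨k, hk⟩ := exists_pow_orderOf_eq_prime (ho ▸ hd)
  exact ⟨_, pow_mem hg k, hk⟩

theorem not_dvd_index {p : ℕ} (hp : p.Prime) (hd : p ∣ Nat.card T) : ¬ p ∣ T.index := by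
  have : Fact p.Prime := ⟨hp⟩
  obtain ⟨y, hyT, hy⟩ := hT.exists_elt hd
  have hy1 : y ≠ 1 := by rintro rfl; exact hp.one_lt.ne (by simpa using hy)
  have h1 : IsPGroup p (Subgroup.zpowers y) := IsPGroup.of_card (n := 1) (by rw [Nat.card_zpowers, hy, pow_one])
  obtain ⟨P, hP⟩ := h1.exists_le_sylow
  have hyP : y ∈ (P : Subgroup G) := hP (Subgroup.mem_zpowers y)
  have : Nontrivial (P : Subgroup G) := ⟨⟨⟨y, hyP⟩, 1, fun h => hy1 (congrArg Subtype.val h)⟩⟩
  have hc := P.isPGroup'.center_nontrivial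
  obtain ⟨z, hz⟩ := exists_ne (1 : Subgroup.center (P : Subgroup G))
  have hz1 : (z.1.1 : G) ≠ 1 := fun h => hz (Subtype.ext (Subtype.ext h))
  have hcomm : ∀ x ∈ (P : Subgroup G), x * z.1.1 = z.1.1 * x := fun x hx =>
    congrArg Subtype.val (Subgroup.mem_center_iff.mp z.2 ⟨x, hx⟩)
  have hzT : (z.1.1 : G) ∈ T := by
    rw [← hT.cent y hyT hy1, Subgroup.mem_centralizer_singleton_iff]
    exact (hcomm y hyP).symm
  have hPT : (P : Subgroup G) ≤ T := fun x hx => by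
    rw [← hT.cent _ hzT hz1, Subgroup.mem_centralizer_singleton_iff]
    exact hcomm x hx
  exact fun h => P.not_dvd_index (h.trans (Subgroup.index_dvd_of_le hPT))

theorem coprime_index : Nat.Coprime (Nat.card T) T.index :=
  Nat.coprime_of_dvd fun _ hp h1 => hT.not_dvd_index hp h1

/-- An element whose order has a prime factor in common with the order of the torus is conjugate into it. -/
theorem exists_conj_mem {x : G} {p : ℕ} (hp : p.Prime) (h1 : p ∣ Nat.card T) (h2 : p ∣ orderOf x) :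
    ∃ c : G, c⁻¹ * x * c ∈ T := by
  have : Fact p.Prime := ⟨hp⟩
  obtain ⟨k, hk⟩ := exists_pow_orderOf_eq_prime h2
  have hx1 : x ^ k ≠ 1 := by intro h; rw [h] at hk; exact hp.one_lt.ne (by simpa using hk)
  obtain ⟨c, hc⟩ := exists_conj_mem_of_not_dvd_index (x := x ^ k) (p := p) (k := 1)
    (by rw [pow_one, ← hk, pow_orderOf_eq_one]) (hT.not_dvd_index hp h1)
  refine ⟨c, ?_⟩
  have h3 : c⁻¹ * x ^ k * c ≠ 1 := by
    intro e; apply hx1
    calc x ^ k = c * (c⁻¹ * x ^ k * c) * c⁻¹ := by simp [mul_assoc]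
      _ = 1 := by rw [e]; simp
  rw [← hT.cent _ hc h3, Subgroup.mem_centralizer_singleton_iff]
  have h4 : x * x ^ k = x ^ k * x := Commute.self_pow x k
  calc c⁻¹ * x * c * (c⁻¹ * x ^ k * c) = c⁻¹ * (x * x ^ k) * c := by simp [mul_assoc]
    _ = _ := by rw [h4]; simp [mul_assoc]

theorem mem_conjSet {x : G} {p : ℕ} (hp : p.Prime) (h1 : p ∣ Nat.card T) (h2 : p ∣ orderOf x) :
    x ∈ conjSet (sharp T) := by
  obtain ⟨c, hc⟩ := hT.exists_conj_mem hp h1 h2
  refine ⟨c, _, ⟨hc, fun e => ?_⟩, by simp [mul_assoc]⟩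
  have : x = 1 := by
    calc x = c * (c⁻¹ * x * c) * c⁻¹ := by simp [mul_assoc]
      _ = 1 := by rw [e]; simp
  rw [this] at h2
  exact hp.one_lt.ne' (by simpa using h2)

omit hT in
theorem of_mem_conjSet {x : G} (hx : x ∈ conjSet (sharp T)) : x ≠ 1 ∧ x ^ Nat.card T = 1 := by
  obtain ⟨g, s, ⟨hs, hs1⟩, rfl⟩ := hx
  refine ⟨fun e => hs1 (by simpa [mul_inv_eq_one] using e), ?_⟩
  rw [conj_pow, pow_card_of_mem' hs]; simp

theorem ncard_conj : (conjSet (sharp T)).ncard * Nat.card (Subgroup.normalizer (T : Set G)) =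
    Nat.card G * (Nat.card T - 1) := by
  rw [ncard_conjSet (sharp T) (Subgroup.normalizer (T : Set G))]
  · have : sharp T = (T : Set G) \ {1} := rfl
    rw [this, Set.ncard_sdiff_singleton_of_mem (one_mem T), ← Nat.card_coe_set_eq,
      ← (Subgroup.normalizer (T : Set G)).index_mul_card]
    show _ * (Nat.card T - 1) * _ = _
    ring
  · rintro g hg s ⟨hs, hs1⟩
    exact ⟨(Subgroup.mem_normalizer_iff.mp hg s).mp hs, fun e => hs1 (by simpa [mul_inv_eq_one] using e)⟩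
  · rintro g s ⟨hs, hs1⟩ ⟨h, -⟩
    exact mem_normalizer_of_cent hT.cent hs hs1 h

theorem one_lt_card : 1 < Nat.card T := (Subgroup.one_lt_card_iff_ne_bot T).mpr hT.ne_bot

/-- Two tori have coprime orders as soon as some prime divides one order but not the other. -/
theorem coprime_card {T' : Subgroup G} (hT' : IsTorus t W T') {p : ℕ} (h1 : p ∣ Nat.card T')
    (h2 : ¬ p ∣ Nat.card T) : Nat.Coprime (Nat.card T) (Nat.card T') := by
  refine Nat.coprime_of_dvd fun l hl hl1 hl2 => h2 ?_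
  obtain ⟨g, hg, ho⟩ := exists_orderOf_eq_card hT'.cyc
  obtain ⟨c, hc⟩ := hT.exists_conj_mem hl hl1 (ho ▸ hl2)
  have h3 := orderOf_dvd_of_pow_eq_one (pow_card_of_mem' hc)
  have h4 : orderOf (c⁻¹ * g * c) = orderOf g := by
    have := (MulAut.conj c⁻¹).orderOf_eq g
    simpa using this
  rw [h4, ho] at h3
  exact h1.trans h3

theorem disjoint_conj {T' : Subgroup G} (h : Nat.Coprime (Nat.card T) (Nat.card T')) :
    Disjoint (conjSet (sharp T)) (conjSet (sharp T')) := by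
  rw [Set.disjoint_left]
  intro x h1 h2
  apply (of_mem_conjSet h1).1
  have := Nat.dvd_gcd (orderOf_dvd_of_pow_eq_one (of_mem_conjSet h1).2)
    (orderOf_dvd_of_pow_eq_one (of_mem_conjSet h2).2)
  rw [h] at this
  simpa using this

theorem conj_subset : conjSet (sharp T) ⊆ {g : G | g ≠ 1 ∧ g ^ t = 1} := by
  intro x hx
  obtain ⟨h1, h2⟩ := of_mem_conjSet hx
  obtain ⟨k, hk⟩ := hT.dvd
  exact ⟨h1, by rw [hk, pow_mul, h2, one_pow]⟩

end IsTorus

/-- The elements of order dividing `t` fall into one, two, or at least three families of tori. -/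
theorem ToriHyp.trichotomy (H : ToriHyp G t W) (ht : t ∣ Nat.card G) (ht1 : t ≠ 1) :
    (∃ T : Subgroup G, IsTorus t W T ∧ Nat.card T = t ∧ {g : G | g ≠ 1 ∧ g ^ t = 1} = conjSet (sharp T)) ∨
    (∃ T₁ T₂ : Subgroup G, IsTorus t W T₁ ∧ IsTorus t W T₂ ∧ Nat.card T₁ * Nat.card T₂ = t ∧
      Nat.Coprime (Nat.card T₁) (Nat.card T₂) ∧
      {g : G | g ≠ 1 ∧ g ^ t = 1} = conjSet (sharp T₁) ∪ conjSet (sharp T₂)) ∨
    (∃ T₁ T₂ T₃ : Subgroup G, IsTorus t W T₁ ∧ IsTorus t W T₂ ∧ IsTorus t W T₃ ∧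
      Nat.Coprime (Nat.card T₁) (Nat.card T₂) ∧ Nat.Coprime (Nat.card T₁) (Nat.card T₃) ∧
      Nat.Coprime (Nat.card T₂) (Nat.card T₃)) := by
  obtain ⟨m, hm⟩ := ht
  have key : ∀ T : Subgroup G, IsTorus t W T → ∀ s p : ℕ, p.Prime → t = Nat.card T * s → p ∣ s → ¬ p ∣ Nat.card T := by
    intro T hT s p hp hs hps h
    apply hT.not_dvd_index hp h
    have h1 := T.card_mul_index
    rw [hm, hs, mul_assoc] at h1
    rw [Nat.eq_of_mul_eq_mul_left Nat.card_pos h1]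
    exact hps.mul_right _
  have prime : ∀ x : G, x ≠ 1 → x ^ t = 1 → ∃ p : ℕ, p.Prime ∧ p ∣ orderOf x ∧ p ∣ t := by
    intro x hx1 hx
    obtain ⟨l, hl, hld⟩ := Nat.exists_prime_and_dvd (n := orderOf x) (by simpa using hx1)
    exact ⟨l, hl, hld, hld.trans (orderOf_dvd_of_pow_eq_one hx)⟩
  obtain ⟨p₁, hp₁, hd₁⟩ := Nat.exists_prime_and_dvd ht1
  obtain ⟨T₁, hT₁, -⟩ := H.exists_torus_dvd ⟨m, hm⟩ hp₁ hd₁
  obtain ⟨s, hs⟩ := hT₁.dvd
  by_cases hs1 : s = 1
  · left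
    rw [hs1, mul_one] at hs
    refine ⟨T₁, hT₁, hs.symm, Set.Subset.antisymm ?_ hT₁.conj_subset⟩
    rintro x ⟨hx1, hx⟩
    obtain ⟨p, hp, h1, h2⟩ := prime x hx1 hx
    exact hT₁.mem_conjSet hp (hs ▸ h2) h1
  right
  obtain ⟨p₂, hp₂, hd₂⟩ := Nat.exists_prime_and_dvd hs1
  obtain ⟨T₂, hT₂, h₂⟩ := H.exists_torus_dvd ⟨m, hm⟩ hp₂ (hs ▸ hd₂.mul_left _)
  have c12 := hT₁.coprime_card hT₂ h₂ (key T₁ hT₁ s p₂ hp₂ hs hd₂)
  obtain ⟨s', hs'⟩ := c12.mul_dvd_of_dvd_of_dvd hT₁.dvd hT₂.dvd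
  by_cases hs1' : s' = 1
  · left
    rw [hs1', mul_one] at hs'
    refine ⟨T₁, T₂, hT₁, hT₂, hs'.symm, c12, Set.Subset.antisymm ?_ (Set.union_subset hT₁.conj_subset hT₂.conj_subset)⟩
    rintro x ⟨hx1, hx⟩
    obtain ⟨p, hp, h1, h2⟩ := prime x hx1 hx
    rw [hs'] at h2
    rcases (Nat.Prime.dvd_mul hp).mp h2 with h | h
    · exact Or.inl (hT₁.mem_conjSet hp h h1)
    · exact Or.inr (hT₂.mem_conjSet hp h h1)
  right
  obtain ⟨p₃, hp₃, hd₃⟩ := Nat.exists_prime_and_dvd hs1'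
  obtain ⟨T₃, hT₃, h₃⟩ := H.exists_torus_dvd ⟨m, hm⟩ hp₃ (hs' ▸ hd₃.mul_left _)
  refine ⟨T₁, T₂, T₃, hT₁, hT₂, hT₃, c12, hT₁.coprime_card hT₃ h₃ (key T₁ hT₁ (Nat.card T₂ * s') p₃ hp₃ ?_ ?_),
    hT₂.coprime_card hT₃ h₃ (key T₂ hT₂ (Nat.card T₁ * s') p₃ hp₃ ?_ ?_)⟩
  · rw [hs', mul_assoc]
  · exact hd₃.mul_left _
  · rw [hs']; ring
  · exact hd₃.mul_left _

end Cfsg.Agent.H9
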