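import Cfsg.Agent.H9.ReeCount
import Cfsg.Agent.H9.Tori

/-!
The two anisotropic cyclic tori of a model of the small Ree group, and the element orders.
-/

set_option autoImplicit false
set_option linter.unusedSectionVars false
set_option linter.unusedSimpArgs false

namespace Cfsg.Agent.H9.Ree
open Matrix MulAction
open scoped MatrixGroups

theorem five_le_of {τ t : ℕ} (h1 : 1 < τ) (hd : τ ∣ t) (ho : Odd t) (h3 : ¬ 3 ∣ t) : 5 ≤ τ := by
  by_contra h
  have : τ = 2 ∨ τ = 3 ∨ τ = 4 := by omega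
  rcases this with rfl | rfl | rfl
  · exact (Nat.not_even_iff_odd.mpr ho) (even_iff_two_dvd.mpr hd)
  · exact h3 hd
  · exact (Nat.not_even_iff_odd.mpr ho) (even_iff_two_dvd.mpr (Dvd.dvd.trans (by norm_num) hd))

/-- Lower bound for the size of a family. -/
theorem family_bound {c w τ g : ℕ} (h : c * (w * τ) = g * (τ - 1)) (h5 : 5 ≤ τ) : 4 * g ≤ 5 * w * c := by
  obtain ⟨s, rfl⟩ : ∃ s, τ = s + 5 := ⟨τ - 5, by omega⟩
  rw [show s + 5 - 1 = s + 4 from rfl] at h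
  apply Nat.le_of_mul_le_mul_right _ (show 0 < s + 5 by omega)
  nlinarith [Nat.zero_le (g * s)]

theorem solve_pm {q r a b : ℕ} (hr : r ^ 2 = 3 * q) (hq : 3 ≤ q) (h1 : a * b = tq q) (h2 : a + b = 2 * q + 2) :
    (a = q - r + 1 ∧ b = q + r + 1) ∨ (b = q - r + 1 ∧ a = q + r + 1) := by
  have hrq : r ≤ q := by nlinarith
  obtain ⟨s, rfl⟩ : ∃ s, q = s + 1 := ⟨q - 1, by omega⟩
  rw [tq_succ] at h1
  have h3 : ((a : ℤ) - (s + 2) - r) * (a - (s + 2) + r) = 0 := by
    zify at h1 h2 hr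
    have hb : (b : ℤ) = 2 * s + 4 - a := by linarith
    rw [hb] at h1
    linear_combination -h1 - hr
  rcases mul_eq_zero.mp h3 with h | h
  · right; omega
  · left; omega

variable {K : Type*} [Field K] [TwF K] [CharP K 3] {G : Type*} [Group G]

local notation "σ" => TwF.s (K := K)

namespace Model

variable (M : Model K G) [Finite K] (hq : Nat.card K % 8 = 3)
include hq

include M in
theorem toriHyp : ToriHyp G (tq (Nat.card K)) 6 := fun _ hp hd _ hy =>
  ⟨(M.centralizer_ppd hq hp hd hy).1, fun _ hc => M.pow_tq_of_comm hq hp hd hy hc, (M.centralizer_ppd hq hp hd hy).2⟩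

include M in
theorem two_tori (h27 : 5 < Nat.card K) (h5 : ¬ 5 ∣ Nat.card G) : ∃ T₁ T₂ : Subgroup G,
    IsTorus (tq (Nat.card K)) 6 T₁ ∧ IsTorus (tq (Nat.card K)) 6 T₂ ∧ Nat.card T₁ * Nat.card T₂ = tq (Nat.card K) ∧
    Nat.card T₁ + Nat.card T₂ = 2 * Nat.card K + 2 ∧
    Nat.card (Subgroup.normalizer (T₁ : Set G)) = 6 * Nat.card T₁ ∧
    Nat.card (Subgroup.normalizer (T₂ : Set G)) = 6 * Nat.card T₂ ∧
    XT K G = conjSet (sharp T₁) ∪ conjSet (sharp T₂) := by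
  have := M.finite
  have hX := M.ncard_XT hq
  have hG := M.card_G'
  have hodd := odd_tq (Nat.card_pos (α := K))
  have h3 := not_three_dvd_tq (Nat.card_pos (α := K)) (three_dvd_card (K := K))
  have hm : 0 < mq (Nat.card K) := by
    by_contra h
    have h' : mq (Nat.card K) = 0 := by omega
    rw [h', mul_zero] at hG
    exact Nat.card_pos.ne' hG
  have hXT : XT K G = {g : G | g ≠ 1 ∧ g ^ tq (Nat.card K) = 1} := rfl
  obtain ⟨s, hs⟩ : ∃ s, Nat.card K = s + 2 := ⟨Nat.card K - 2, by omega⟩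
  have ht : tq (Nat.card K) = s ^ 2 + 3 * s + 3 := by rw [hs, show s + 2 = s + 1 + 1 from rfl, tq_succ]; ring
  have hs4 : 4 ≤ s := by omega
  have hX' : 3 * (XT K G).ncard = mq (Nat.card K) * ((s + 2) * s) := by rw [hX]; congr 1; rw [hs]; rfl
  generalize mq (Nat.card K) = m at *
  have lt : 3 * (XT K G).ncard < Nat.card G := by
    rw [hX', hG, ht]; nlinarith
  have wt : ∀ T : Subgroup G, IsTorus (tq (Nat.card K)) 6 T → ∃ w, 1 ≤ w ∧ w ≤ 6 ∧ w ≠ 5 ∧
      Nat.card (Subgroup.normalizer (T : Set G)) = w * Nat.card T ∧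
      (conjSet (sharp T)).ncard * (w * Nat.card T) = Nat.card G * (Nat.card T - 1) ∧
      4 * Nat.card G ≤ 5 * w * (conjSet (sharp T)).ncard := by
    intro T hT
    obtain ⟨w, h1, h2, h4⟩ := hT.wt
    have h6 := hT.ncard_conj
    rw [h4] at h6
    refine ⟨w, h1, h2, ?_, h4, h6, family_bound h6 (five_le_of hT.one_lt_card hT.dvd hodd h3)⟩
    rintro rfl
    exact h5 ((Dvd.intro _ h4.symm).trans (Subgroup.card_subgroup_dvd_card _))
  rcases (M.toriHyp hq).trichotomy (Dvd.intro _ hG.symm) (by rw [ht]; nlinarith) with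
    ⟨T, hT, h1, h2⟩ | ⟨T₁, T₂, hT₁, hT₂, h1, hc, h2⟩ | ⟨T₁, T₂, T₃, hT₁, hT₂, hT₃, c12, c13, c23⟩
  · exfalso
    obtain ⟨w, w1, w2, -, -, h4, -⟩ := wt T hT
    rw [← h2, ← hXT, h1, hG, ht] at h4
    rw [show s ^ 2 + 3 * s + 3 - 1 = (s + 2) * (s + 1) by apply Nat.sub_eq_of_eq_add; ring] at h4
    have h6 : w * s = 3 * (s + 1) := by
      apply Nat.eq_of_mul_eq_mul_left (show 0 < m * (s + 2) * (s ^ 2 + 3 * s + 3) by positivity)
      zify at h4 hX' ⊢
      linear_combination 3 * h4 - (w * (s ^ 2 + 3 * s + 3)) * hX'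
    have h7 : w = 1 ∨ w = 2 ∨ w = 3 ∨ w = 4 ∨ w = 5 ∨ w = 6 := by omega
    rcases h7 with rfl | rfl | rfl | rfl | rfl | rfl <;> omega
  · obtain ⟨w₁, a1, a2, a3, a4, a5, a6⟩ := wt T₁ hT₁
    obtain ⟨w₂, b1, b2, b3, b4, b5, b6⟩ := wt T₂ hT₂
    have h4 : (XT K G).ncard = (conjSet (sharp T₁)).ncard + (conjSet (sharp T₂)).ncard := by
      rw [hXT, h2, Set.ncard_union_eq (hT₁.disjoint_conj hc)]
    generalize (conjSet (sharp T₁)).ncard = c₁ at *
    generalize (conjSet (sharp T₂)).ncard = c₂ at *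
    have e1 : w₁ = 6 := by
      by_contra h
      have h6 : w₁ ≤ 4 := by omega
      have := Nat.mul_le_mul_right c₁ (Nat.mul_le_mul_left 5 h6)
      have := Nat.mul_le_mul_right c₂ (Nat.mul_le_mul_left 5 b2)
      omega
    have e2 : w₂ = 6 := by
      by_contra h
      have h6 : w₂ ≤ 4 := by omega
      have := Nat.mul_le_mul_right c₂ (Nat.mul_le_mul_left 5 h6)
      have := Nat.mul_le_mul_right c₁ (Nat.mul_le_mul_left 5 a2)
      omega
    subst e1 e2
    refine ⟨T₁, T₂, hT₁, hT₂, h1, ?_, a4, b4, h2⟩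
    have p1 := hT₁.one_lt_card
    have p2 := hT₂.one_lt_card
    rw [hG, ← h1] at a5 b5
    rw [ht] at h1
    rw [h4] at hX'
    rw [hs]
    generalize Nat.card T₁ = τ₁ at *
    generalize Nat.card T₂ = τ₂ at *
    obtain ⟨u, rfl⟩ : ∃ u, τ₁ = u + 1 := ⟨τ₁ - 1, by omega⟩
    obtain ⟨v, rfl⟩ : ∃ v, τ₂ = v + 1 := ⟨τ₂ - 1, by omega⟩
    rw [Nat.add_sub_cancel] at a5 b5
    have f1 : 6 * c₁ = (v + 1) * m * u := by
      apply Nat.eq_of_mul_eq_mul_left (show 0 < u + 1 by omega)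
      linarith
    have f2 : 6 * c₂ = (u + 1) * m * v := by
      apply Nat.eq_of_mul_eq_mul_left (show 0 < v + 1 by omega)
      linarith
    apply Nat.eq_of_mul_eq_mul_left hm
    zify at f1 f2 h1 hX' ⊢
    linear_combination f1 + f2 - 2 * hX' + 2 * m * h1
  · exfalso
    obtain ⟨w₁, -, a2, -, -, -, a6⟩ := wt T₁ hT₁
    obtain ⟨w₂, -, b2, -, -, -, b6⟩ := wt T₂ hT₂
    obtain ⟨w₃, -, d2, -, -, -, d6⟩ := wt T₃ hT₃
    have h4 : (conjSet (sharp T₁)).ncard + (conjSet (sharp T₂)).ncard + (conjSet (sharp T₃)).ncard ≤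
        (XT K G).ncard := by
      rw [← Set.ncard_union_eq (hT₁.disjoint_conj c12), ← Set.ncard_union_eq
        (Set.disjoint_union_left.mpr ⟨hT₁.disjoint_conj c13, hT₂.disjoint_conj c23⟩)]
      exact Set.ncard_le_ncard (Set.union_subset (Set.union_subset hT₁.conj_subset hT₂.conj_subset) hT₃.conj_subset)
    generalize (conjSet (sharp T₁)).ncard = c₁ at *
    generalize (conjSet (sharp T₂)).ncard = c₂ at *
    generalize (conjSet (sharp T₃)).ncard = c₃ at *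
    have := Nat.mul_le_mul_right c₁ (Nat.mul_le_mul_left 5 a2)
    have := Nat.mul_le_mul_right c₂ (Nat.mul_le_mul_left 5 b2)
    have := Nat.mul_le_mul_right c₃ (Nat.mul_le_mul_left 5 d2)
    omega

include M in
theorem two_tori' (h27 : 5 < Nat.card K) (h5 : ¬ 5 ∣ Nat.card G) {r : ℕ} (hr : r ^ 2 = 3 * Nat.card K) :
    ∃ T₁ T₂ : Subgroup G, IsTorus (tq (Nat.card K)) 6 T₁ ∧ IsTorus (tq (Nat.card K)) 6 T₂ ∧
    Nat.card T₁ = Nat.card K - r + 1 ∧ Nat.card T₂ = Nat.card K + r + 1 ∧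
    Nat.card (Subgroup.normalizer (T₁ : Set G)) = 6 * Nat.card T₁ ∧
    Nat.card (Subgroup.normalizer (T₂ : Set G)) = 6 * Nat.card T₂ ∧
    XT K G = conjSet (sharp T₁) ∪ conjSet (sharp T₂) := by
  obtain ⟨T₁, T₂, h1, h2, h3, h4, h6, h7, h8⟩ := M.two_tori hq h27 h5
  rcases solve_pm hr (by omega) h3 h4 with ⟨e1, e2⟩ | ⟨e1, e2⟩
  · exact ⟨T₁, T₂, h1, h2, e1, e2, h6, h7, h8⟩
  · exact ⟨T₂, T₁, h2, h1, e1, e2, h7, h6, by rw [h8, Set.union_comm]⟩

/-- The squares in the split torus. -/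
noncomputable def H2 : Subgroup G where
  carrier := {h | h ∈ M.H ∧ h ^ ((Nat.card K - 1) / 2) = 1}
  one_mem' := ⟨one_mem _, one_pow _⟩
  mul_mem' := fun {x y} hx hy => ⟨mul_mem hx.1 hy.1, by
    rw [Commute.mul_pow (M.R.H_comm hx.1 hy.1), hx.2, hy.2, one_mul]⟩
  inv_mem' := fun {x} hx => ⟨inv_mem hx.1, by rw [inv_pow, hx.2, inv_one]⟩

theorem H2_le : M.H2 ≤ M.H := fun _ h => h.1

omit hq in
theorem isCyclic_H2 : IsCyclic M.H2 := by
  have := M.isCyclic_H
  exact isCyclic_of_injective (Subgroup.inclusion (show M.H2 ≤ M.H from fun _ h => h.1)) (Subgroup.inclusion_injective _)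

theorem card_H2 : Nat.card M.H2 = (Nat.card K - 1) / 2 := by
  have := M.isCyclic_H
  have := M.finite
  have ho : Odd ((Nat.card K - 1) / 2) := by rw [Nat.odd_iff]; omega
  have hc : Nat.card M.H = 2 * ((Nat.card K - 1) / 2) := by rw [card_H]; omega
  rw [← card_odd_order (C := M.H) ho hc]
  refine Nat.card_congr ⟨fun g => ⟨⟨g.1, g.2.1⟩, ?_⟩, fun g => ⟨g.1.1, g.1.2, ?_⟩, fun _ => rfl, fun _ => rfl⟩
  · rw [← Subgroup.orderOf_coe]
    exact ho.of_dvd_nat (orderOf_dvd_of_pow_eq_one g.2.2)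
  · have h1 : orderOf g.1 ∣ 2 * ((Nat.card K - 1) / 2) := hc ▸ orderOf_dvd_natCard g.1
    have h2 := (Nat.Coprime.dvd_mul_left (Nat.coprime_two_right.mpr g.2)).mp h1
    rw [← Subgroup.orderOf_coe] at h2
    exact orderOf_dvd_iff_pow_eq_one.mp h2

theorem normalizer_le_H2 {A₀ : Subgroup G} (hle : A₀ ≤ M.H2) (h0 : A₀ ≠ ⊥) :
    Subgroup.normalizer (A₀ : Set G) = M.N := by
  have := M.finite
  apply le_antisymm
  · intro g hg
    obtain ⟨⟨x, hx⟩, hx1⟩ := Subgroup.ne_bot_iff_exists_ne_one.mp h0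
    refine M.mem_N_of_conj (hle hx).1 (fun h => hx1 (Subtype.ext h)) ?_
      (hle ((Subgroup.mem_normalizer_iff.mp hg x).mp hx)).1
    rintro rfl
    have h1 := orderOf_dvd_of_pow_eq_one (hle hx).2
    rw [orderOf_a] at h1
    omega
  · intro g hg
    apply Subgroup.mem_normalizer_fintype
    intro x hx
    rcases M.conj_of_mem_N hg (hle hx).1 with h | h <;> rw [h]
    · exact hx
    · exact inv_mem hx

include M in
theorem hall_subgroups (h27 : 7 < Nat.card K) (h5 : ¬ 5 ∣ Nat.card G) {r : ℕ} (hr : r ^ 2 = 3 * Nat.card K) :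
    ∀ kn ∈ ({((Nat.card K - 1) / 2, 2 * (Nat.card K - 1)), ((Nat.card K + 1) / 4, 6 * (Nat.card K + 1)),
        (Nat.card K - r + 1, 6 * (Nat.card K - r + 1)),
        (Nat.card K + r + 1, 6 * (Nat.card K + r + 1))} : Set (ℕ × ℕ)),
      ∃ A : Subgroup G, IsCyclic A ∧ Nat.card A = kn.1 ∧ Nat.card (Subgroup.normalizer (A : Set G)) = kn.2 ∧
        ∀ A₀ : Subgroup G, A₀ ≤ A → A₀ ≠ ⊥ →
          Subgroup.normalizer (A₀ : Set G) = Subgroup.normalizer (A : Set G) := by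
  have := M.finite
  obtain ⟨T₁, T₂, h1, h2, h3, h4, h6, h7, -⟩ := M.two_tori' hq (by omega) h5 hr
  rintro _ (rfl | rfl | rfl | rfl)
  · have h0 : M.H2 ≠ ⊥ := by
      rw [← Subgroup.one_lt_card_iff_ne_bot, M.card_H2 hq]; omega
    refine ⟨M.H2, M.isCyclic_H2, M.card_H2 hq, by rw [M.normalizer_le_H2 hq le_rfl h0, card_N], fun A₀ h h' => ?_⟩
    rw [M.normalizer_le_H2 hq le_rfl h0, M.normalizer_le_H2 hq h h']
  · have h0 : M.A ≠ ⊥ := by
      rw [← Subgroup.one_lt_card_iff_ne_bot, M.card_A hq]; omega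
    refine ⟨M.A, M.isCyclic_A, M.card_A hq, by rw [M.normalizer_le_A hq le_rfl h0, card_normalizer_V4],
      fun A₀ h h' => ?_⟩
    rw [M.normalizer_le_A hq le_rfl h0, M.normalizer_le_A hq h h']
  · exact ⟨T₁, h1.cyc, h3, by rw [h6, h3], fun A₀ h h' => h1.normalizer_eq h h'⟩
  · exact ⟨T₂, h2.cyc, h4, by rw [h7, h4], fun A₀ h h' => h2.normalizer_eq h h'⟩

include M in
theorem element_orders (h27 : 7 < Nat.card K) (h5 : ¬ 5 ∣ Nat.card G) {r : ℕ} (hr : r ^ 2 = 3 * Nat.card K) (d : ℕ) :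
    (∃ g : G, orderOf g = d) ↔ (d ∣ 6 ∨ d ∣ 9 ∨ d ∣ Nat.card K - 1 ∨ d ∣ (Nat.card K + 1) / 2 ∨
      d ∣ Nat.card K - r + 1 ∨ d ∣ Nat.card K + r + 1) := by
  have := M.finite
  obtain ⟨T₁, T₂, h1, h2, h3, h4, -, -, h8⟩ := M.two_tori' hq (by omega) h5 hr
  constructor
  · rintro ⟨g, rfl⟩
    simp only [orderOf_dvd_iff_pow_eq_one]
    rcases M.classify hq g with h | h | h | h | h | h | h
    · left; rw [h, one_pow]
    · left; exact conjSet_pow (by rintro _ rfl; rw [show 6 = 2 * 3 from rfl, pow_mul, pow_two, M.a_sq, one_pow]) h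
    · right; left; exact conjSet_pow (by rintro _ ⟨⟨a, b, c, rfl⟩, -⟩; exact M.x_pow_nine ..) h
    · left; exact conjSet_pow (fun s hs => M.S6_pow_six hs) h
    · right; right; left; exact conjSet_pow (fun s hs => by rw [← M.card_H]; exact pow_card_of_mem hs.1) h
    · right; right; right; left
      rw [show (Nat.card K + 1) / 2 = 2 * ((Nat.card K + 1) / 4) by omega]
      exact conjSet_pow (fun s hs => by rw [pow_mul, pow_two]; exact (M.SY_sq hq hs).1.2) h
    · rw [h8] at h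
      right; right; right; right
      rcases h with h | h
      · left; rw [← h3]; exact (IsTorus.of_mem_conjSet h).2
      · right; rw [← h4]; exact (IsTorus.of_mem_conjSet h).2
  · have cyc : ∀ T : Subgroup G, IsCyclic T → d ∣ Nat.card T → ∃ g : G, orderOf g = d := by
      intro T hT hd
      obtain ⟨g, -, hg⟩ := exists_orderOf_eq_card hT
      exact exists_orderOf_eq_of_dvd (hg ▸ hd)
    rintro (h | h | h | h | h | h)
    · have hg : M.x 0 1 0 * M.a ∈ M.S6 := M.mem_S6_iff.mpr ⟨0, 1, 0, by simp, rfl⟩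
      refine exists_orderOf_eq_of_dvd (g := M.x 0 1 0 * M.a) ?_
      rw [orderOf_eq_of_pow_and_pow_div_prime (n := 6) (by norm_num) (M.S6_pow_six hg)]
      · exact h
      · intro p hp hd
        have hp' : p = 2 ∨ p = 3 := by
          rcases (Nat.Prime.dvd_mul hp).mp (show p ∣ 2 * 3 from hd) with h | h
          · exact Or.inl ((Nat.prime_dvd_prime_iff_eq hp Nat.prime_two).mp h)
          · exact Or.inr ((Nat.prime_dvd_prime_iff_eq hp Nat.prime_three).mp h)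
        rcases hp' with rfl | rfl
        · intro e
          apply M.S6_pow_nine hg
          rw [show 9 = 6 / 2 * 3 from rfl, pow_mul, e, one_pow]
        · rw [show 6 / 3 = 2 from rfl, pow_two]; exact hg.2
    · refine exists_orderOf_eq_of_dvd (g := M.x 1 0 0) ?_
      have : Fact (Nat.Prime 3) := ⟨Nat.prime_three⟩
      rw [orderOf_eq_prime_pow (p := 3) (n := 1) (by rw [pow_one, x_cube_eq_one]; exact one_ne_zero) (M.x_pow_nine ..)]
      exact h
    · exact cyc _ M.isCyclic_H (M.card_H ▸ h)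
    · refine cyc _ M.isCyclic_Z ?_
      rwa [show (Nat.card K + 1) / 2 = Nat.card M.Z by have := M.card_Z; omega] at h
    · exact cyc _ h1.cyc (h3 ▸ h)
    · exact cyc _ h2.cyc (h4 ▸ h)

omit hq in
include M in
theorem not_five_dvd {m : ℕ} (hK : Nat.card K = 3 ^ (2 * m + 1)) : ¬ 5 ∣ Nat.card G := by
  have h1 : ∀ m : ℕ, 3 ^ (2 * m + 1) % 5 = 2 ∨ 3 ^ (2 * m + 1) % 5 = 3 := by
    intro m
    induction m with
    | zero => simp
    | succ m ih => rw [show 2 * (m + 1) + 1 = 2 * m + 1 + 2 by ring, pow_add]; omega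
  have h2 := h1 m
  rw [← hK] at h2
  rw [M.card_G, Nat.Prime.dvd_mul Nat.prime_five, Nat.Prime.dvd_mul Nat.prime_five]
  rintro (h | h | h)
  · rw [Nat.dvd_iff_mod_eq_zero, Nat.add_mod, Nat.pow_mod] at h
    rcases h2 with h2 | h2 <;> rw [h2] at h <;> norm_num at h
  · have := Nat.prime_five.dvd_of_dvd_pow h
    omega
  · omega

end Model

end Cfsg.Agent.H9.Ree
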