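import Cfsg.Agent.H9.ReeCent
import Cfsg.Agent.H9.GrpLemmas

/-!
The non-split torus of SL₂ over a field in which `-1` is not a square, and its image in the small Ree group.
-/

set_option autoImplicit false
set_option linter.unusedSectionVars false
set_option linter.unusedSimpArgs false

namespace Cfsg.Agent.H9.Ree
open Matrix MulAction
open scoped MatrixGroups

variable {K : Type*} [Field K]

theorem sl_neg_apply (y : SL(2, K)) (i j : Fin 2) : (-y) i j = -y i j := rfl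

theorem sl_inv_00 (y : SL(2, K)) : y⁻¹ 0 0 = y 1 1 := by
  rw [Matrix.SpecialLinearGroup.SL2_inv_expl]; rfl
theorem sl_inv_01 (y : SL(2, K)) : y⁻¹ 0 1 = -y 0 1 := by
  rw [Matrix.SpecialLinearGroup.SL2_inv_expl]; rfl
theorem sl_inv_10 (y : SL(2, K)) : y⁻¹ 1 0 = -y 1 0 := by
  rw [Matrix.SpecialLinearGroup.SL2_inv_expl]; rfl
theorem sl_inv_11 (y : SL(2, K)) : y⁻¹ 1 1 = y 0 0 := by
  rw [Matrix.SpecialLinearGroup.SL2_inv_expl]; rfl

theorem sl_eq_iff {y z : SL(2, K)} :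
    y = z ↔ y 0 0 = z 0 0 ∧ y 0 1 = z 0 1 ∧ y 1 0 = z 1 0 ∧ y 1 1 = z 1 1 :=
  ⟨fun h => by simp [h], fun h => sl_ext h.1 h.2.1 h.2.2.1 h.2.2.2⟩

/-- The centraliser of `slI`. -/
def Zt (K : Type*) [Field K] : Subgroup SL(2, K) where
  carrier := {y | y 0 0 = y 1 1 ∧ y 0 1 = -y 1 0}
  one_mem' := ⟨rfl, by simp⟩
  mul_mem' := by
    rintro y z ⟨h1, h2⟩ ⟨h3, h4⟩
    simp only [Set.mem_ofPred_eq, sl_mul_apply, h1, h2, h3, h4]
    constructor <;> ring
  inv_mem' := by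
    rintro y ⟨h1, h2⟩
    simp only [Set.mem_ofPred_eq, sl_inv_00, sl_inv_01, sl_inv_10, sl_inv_11, h1, h2]
    exact ⟨trivial, trivial⟩

theorem mem_Zt {y : SL(2, K)} : y ∈ Zt K ↔ y 0 0 = y 1 1 ∧ y 0 1 = -y 1 0 := Iff.rfl

theorem Zt_comm {y z : SL(2, K)} (hy : y ∈ Zt K) (hz : z ∈ Zt K) : y * z = z * y := by
  obtain ⟨h1, h2⟩ := hy
  obtain ⟨h3, h4⟩ := hz
  apply sl_ext <;> simp only [sl_mul_apply, h1, h2, h3, h4] <;> ring

theorem mem_center_iff'' (y : SL(2, K)) : y ∈ Subgroup.center SL(2, K) ↔ y = 1 ∨ y = -1 := by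
  rw [mem_center_iff']
  constructor
  · rintro ⟨h1, h2, h3⟩
    have hd := sl_det y
    rw [h1, zero_mul, sub_zero, ← h3] at hd
    rcases mul_self_eq_one_iff.mp hd with e | e
    · left
      exact sl_ext e h1 h2 (h3 ▸ e)
    · right
      apply sl_ext <;> simp [sl_neg_apply, e, h1, h2, ← h3]
  · rintro (rfl | rfl) <;> simp [sl_neg_apply]

variable [TwF K] [CharP K 3] {G : Type*} [Group G]

local notation "σ" => TwF.s (K := K)

theorem one_add_sq_ne_zero (t : K) : 1 + t ^ 2 ≠ 0 := by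
  intro h
  exact not_isSquare_neg_one (K := K) ⟨t, by linear_combination -h⟩

theorem slI_mem_Zt : slI ∈ Zt K := ⟨rfl, rfl⟩

theorem isCyclic_Zt [Finite K] : IsCyclic (Zt K) := by
  have : Fact (∀ r : K, r ^ 2 ≠ -1 + 0 * r) := ⟨fun r h => one_add_sq_ne_zero r (by linear_combination h)⟩
  let f : Zt K →* QuadraticAlgebra K (-1) 0 :=
    { toFun := fun y => ⟨y.1 0 0, y.1 1 0⟩
      map_one' := rfl
      map_mul' := by
        rintro ⟨y, h1, h2⟩ ⟨z, h3, h4⟩
        ext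
        · simp only [Subgroup.coe_mul, sl_mul_apply, QuadraticAlgebra.re_mul, h2]; ring
        · simp only [Subgroup.coe_mul, sl_mul_apply, QuadraticAlgebra.im_mul, h1]; ring }
  refine isCyclic_of_injective_ringHom f ?_
  rintro ⟨y, h1, h2⟩ ⟨z, h3, h4⟩ e
  have e1 : y 0 0 = z 0 0 := congrArg QuadraticAlgebra.re e
  have e2 : y 1 0 = z 1 0 := congrArg QuadraticAlgebra.im e
  exact Subtype.ext (sl_ext e1 (by rw [h2, h4, e2]) e2 (by rw [← h1, ← h3, e1]))

theorem card_Zt [Finite K] : Nat.card (Zt K) = Nat.card K + 1 := by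
  rw [← Finite.card_option]
  symm
  refine Nat.card_congr (Equiv.ofBijective (fun o => o.elim ⟨-1, by simp [mem_Zt, sl_neg_apply]⟩ fun t =>
    ⟨sl ((1 - t ^ 2) / (1 + t ^ 2)) (-(2 * t / (1 + t ^ 2))) (2 * t / (1 + t ^ 2)) ((1 - t ^ 2) / (1 + t ^ 2))
      (by have := one_add_sq_ne_zero t; field_simp; ring), rfl, rfl⟩) ⟨?_, ?_⟩)
  · have key : ∀ t : K, (1 - t ^ 2) / (1 + t ^ 2) ≠ -1 := by
      intro t h
      have := one_add_sq_ne_zero t
      field_simp at h
      grobner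
    rintro (_ | s) (_ | t) e
    · rfl
    · exact absurd (congrArg (fun y => y.1 0 0) e).symm (key t)
    · exact absurd (congrArg (fun y => y.1 0 0) e) (key s)
    · have e1 : (1 - s ^ 2) / (1 + s ^ 2) = (1 - t ^ 2) / (1 + t ^ 2) := congrArg (fun y => y.1 0 0) e
      have e2 : 2 * s / (1 + s ^ 2) = 2 * t / (1 + t ^ 2) := congrArg (fun y => y.1 1 0) e
      have hs := one_add_sq_ne_zero s
      have ht := one_add_sq_ne_zero t
      field_simp at e1 e2
      have h1 : s ^ 2 = t ^ 2 := by grobner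
      rw [h1] at e2
      congr 1
      have := mul_right_cancel₀ ht (a := s) (c := t) (by grobner)
      exact this
  · rintro ⟨y, h1, h2⟩
    have hd := sl_det y
    rw [← h1, h2] at hd
    by_cases h : 1 + y 0 0 = 0
    · refine ⟨none, Subtype.ext ?_⟩
      have h3 : y 0 0 = -1 := by linear_combination h
      have h4 : y 1 0 = 0 := by
        have : y 1 0 * y 1 0 = 0 := by grobner
        exact mul_self_eq_zero.mp this
      apply sl_ext <;> simp [sl_neg_apply, h2, h3, h4, ← h1]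
    · refine ⟨some (y 1 0 / (1 + y 0 0)), Subtype.ext ?_⟩
      have h5 : 1 + (y 1 0 / (1 + y 0 0)) ^ 2 = 2 / (1 + y 0 0) := by
        field_simp; grobner
      have h6 : (2 : K) ≠ 0 := by grobner
      apply sl_ext <;> simp only [Option.elim_some, sl_00, sl_01, sl_10, sl_11, h5, ← h1, h2] <;>
        field_simp <;> grobner

theorem comm_Zt {z y : SL(2, K)} (hz : z ∈ Zt K) (hz0 : z 1 0 ≠ 0) (h : y * z = z * y) : y ∈ Zt K := by
  obtain ⟨h1, h2⟩ := hz
  rw [sl_eq_iff] at h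
  simp only [sl_mul_apply, h1, h2] at h
  obtain ⟨e1, e2, -, -⟩ := h
  constructor
  · apply mul_right_cancel₀ hz0; grobner
  · apply mul_right_cancel₀ hz0; grobner

theorem anticomm_Zt {z y : SL(2, K)} (hz : z ∈ Zt K) (h : y * z = -(z * y)) : z 0 0 = 0 := by
  obtain ⟨h1, h2⟩ := hz
  have hd := sl_det y
  rw [sl_eq_iff] at h
  simp only [sl_mul_apply, sl_neg_apply, ← h1, h2] at h
  obtain ⟨e1, e2, e3, e4⟩ := h
  have hz := sl_det z
  rw [← h1, h2] at hz
  grobner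

theorem anticomm_slI {y : SL(2, K)} (h : y * slI = -(slI * y)) : y * slJ ∈ Zt K := by
  rw [sl_eq_iff] at h
  simp only [sl_mul_apply, sl_neg_apply, slI, sl_00, sl_01, sl_10, sl_11] at h
  obtain ⟨e1, e2, e3, e4⟩ := h
  simp only [mem_Zt, sl_mul_apply, slJ, sl_00, sl_01, sl_10, sl_11]
  constructor <;> grobner

theorem slJ_conj {z : SL(2, K)} (hz : z ∈ Zt K) : slJ * z * slJ⁻¹ = z⁻¹ := by
  obtain ⟨h1, h2⟩ := hz
  apply sl_ext <;> simp only [sl_mul_apply, sl_inv_00, sl_inv_01, sl_inv_10, sl_inv_11, slJ, sl_00, sl_01, sl_10,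
    sl_11, h1, h2] <;> grobner

theorem slJ_sq : (slJ : SL(2, K)) * slJ = -1 := by
  apply sl_ext <;> simp only [sl_mul_apply, sl_neg_apply, slJ, sl_00, sl_01, sl_10, sl_11, sl_one_00, sl_one_01,
    sl_one_10, sl_one_11] <;> grobner

theorem slW_slI : (slW : SL(2, K)) * slI * slW⁻¹ = -slJ := by
  apply sl_ext <;> simp only [sl_mul_apply, sl_neg_apply, sl_inv_00, sl_inv_01, sl_inv_10, sl_inv_11, slI, slW, slJ,
    sl_00, sl_01, sl_10, sl_11] <;> grobner

theorem slW_slJ : (slW : SL(2, K)) * slJ * slW⁻¹ = -(slI * slJ) := by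
  apply sl_ext <;> simp only [sl_mul_apply, sl_neg_apply, sl_inv_00, sl_inv_01, sl_inv_10, sl_inv_11, slI, slW, slJ,
    sl_00, sl_01, sl_10, sl_11] <;> grobner

theorem Zt_sq {z : SL(2, K)} (hz : z ∈ Zt K) (h : z * z = 1 ∨ z * z = -1) :
    z = 1 ∨ z = -1 ∨ z = slI ∨ z = -slI := by
  obtain ⟨h1, h2⟩ := hz
  have hd := sl_det z
  have h3 : z 1 0 * z 0 0 = 0 := by
    rcases h with h | h <;> rw [sl_eq_iff] at h <;>
      simp only [sl_mul_apply, sl_neg_apply, sl_one_10, ← h1] at h <;> obtain ⟨-, -, e, -⟩ := h <;> grobner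
  rw [← h1, h2] at hd
  rcases mul_eq_zero.mp h3 with h4 | h4
  · rw [← or_assoc, ← mem_center_iff'', mem_center_iff']
    left
    exact ⟨by rw [h2, h4, neg_zero], h4, h1⟩
  · have : z 1 0 * z 1 0 = 1 := by grobner
    rcases mul_self_eq_one_iff.mp this with e | e
    · right; right; left
      apply sl_ext <;> simp [slI, h2, e, h4, ← h1]
    · right; right; right
      apply sl_ext <;> simp [slI, sl_neg_apply, h2, e, h4, ← h1]

namespace Model

variable (M : Model K G)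

theorem φ_neg_one : M.φ (-1) = 1 := M.φ_eq_one_iff.mpr ((mem_center_iff'' _).mpr (Or.inr rfl))

theorem φ_neg (y : SL(2, K)) : M.φ (-y) = M.φ y := by
  rw [← neg_one_mul, map_mul, φ_neg_one, one_mul]

theorem φ_eq_iff {y z : SL(2, K)} : M.φ y = M.φ z ↔ y = z ∨ y = -z := by
  constructor
  · intro h
    have : M.φ (y * z⁻¹) = 1 := by rw [map_mul, map_inv, h, mul_inv_cancel]
    rcases (mem_center_iff'' _).mp (M.φ_eq_one_iff.mp this) with e | e
    · exact Or.inl (mul_inv_eq_one.mp e)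
    · exact Or.inr (by rw [mul_inv_eq_iff_eq_mul.mp e, neg_one_mul])
  · rintro (rfl | rfl)
    · rfl
    · exact M.φ_neg z

/-- The image of the non-split torus. -/
noncomputable def Z : Subgroup G := (Zt K).map M.φ

theorem mem_Z {g : G} : g ∈ M.Z ↔ ∃ z ∈ Zt K, M.φ z = g := Iff.rfl

theorem isCyclic_Z [Finite K] : IsCyclic M.Z := by
  have := isCyclic_Zt (K := K)
  exact isCyclic_of_surjective _ (M.φ.subgroupMap_surjective (Zt K))

theorem card_Z [Finite K] : 2 * Nat.card M.Z = Nat.card K + 1 := by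
  have : Fact (Nat.Prime 2) := ⟨Nat.prime_two⟩
  have h1 : (M.φ.domRestrict (Zt K)).ker = Subgroup.zpowers ⟨-1, by simp [mem_Zt, sl_neg_apply]⟩ := by
    ext ⟨y, hy⟩
    rw [MonoidHom.mem_ker, MonoidHom.domRestrict_apply, M.φ_eq_one_iff, mem_center_iff'']
    constructor
    · rintro (rfl | rfl)
      · exact one_mem _
      · exact Subgroup.mem_zpowers _
    · rintro ⟨k, hk⟩
      have : y = (-1) ^ k := (congrArg Subtype.val hk).symm
      rcases Int.even_or_odd k with h | h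
      · left; exact this.trans h.neg_one_zpow
      · right; exact this.trans h.neg_one_zpow
  have h2 : Nat.card (M.φ.domRestrict (Zt K)).ker = 2 := by
    rw [h1, Nat.card_zpowers]
    apply orderOf_eq_prime
    · apply Subtype.ext; simp
    · intro h
      have h' : (-1 : SL(2, K)) 0 0 = (1 : SL(2, K)) 0 0 := congrArg (fun y => y.1 0 0) h
      rw [sl_neg_apply, sl_one_00] at h'
      grobner
  have h3 := (M.φ.domRestrict (Zt K)).ker.index_mul_card
  rw [h2, Subgroup.index_ker, MonoidHom.domRestrict_range, card_Zt] at h3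
  rw [mul_comm]; exact h3

theorem Z_comm {g g' : G} (hg : g ∈ M.Z) (hg' : g' ∈ M.Z) : g * g' = g' * g := by
  obtain ⟨y, hy, rfl⟩ := hg
  obtain ⟨z, hz, rfl⟩ := hg'
  rw [← map_mul, ← map_mul, Zt_comm hy hz]

theorem n_mem_Z : M.n ∈ M.Z := ⟨slI, slI_mem_Zt, M.φ_slI⟩

theorem a_not_mem_Z : M.a ∉ M.Z := fun ⟨y, _, h⟩ => M.φ_ne_a y h

theorem a_comm_Z {g : G} (hg : g ∈ M.Z) : M.a * g = g * M.a := by
  obtain ⟨y, hy, rfl⟩ := hg
  exact M.a_φ y

theorem j_conj_Z {g : G} (hg : g ∈ M.Z) : M.j * g * M.j⁻¹ = g⁻¹ := by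
  obtain ⟨y, hy, rfl⟩ := hg
  rw [Model.j, ← map_inv, ← map_mul, ← map_mul, slJ_conj hy, map_inv]

theorem j_sq : M.j * M.j = 1 := by rw [Model.j, ← map_mul, slJ_sq, φ_neg_one]

theorem a_comm_j : M.a * M.j = M.j * M.a := M.a_φ _

theorem n_comm_j : M.n * M.j = M.j * M.n := by
  have := M.j_conj_Z M.n_mem_Z
  rw [mul_inv_eq_iff_eq_mul, inv_eq_of_mul_eq_one_right M.n_sq] at this
  exact this.symm

theorem j_not_mem_Z : M.j ∉ M.Z := by
  rintro ⟨y, ⟨h1, h2⟩, h⟩
  rcases M.φ_eq_iff.mp h with rfl | rfl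
  · simp only [slJ, sl_00, sl_11] at h1; grobner
  · simp only [slJ, sl_neg_apply, sl_00, sl_11] at h1; grobner

theorem Z_sq {g : G} (hg : g ∈ M.Z) (h : g * g = 1) : g = 1 ∨ g = M.n := by
  obtain ⟨y, hy, rfl⟩ := hg
  rw [← map_mul, φ_eq_one_iff, mem_center_iff''] at h
  rcases Zt_sq hy h with rfl | rfl | rfl | rfl
  · exact Or.inl (map_one _)
  · exact Or.inl M.φ_neg_one
  · exact Or.inr M.φ_slI
  · exact Or.inr (by rw [φ_neg, φ_slI])

noncomputable def ω : G := M.φ slW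

theorem ω_a : M.ω * M.a * M.ω⁻¹ = M.a := by rw [Model.ω, ← M.a_φ, mul_inv_cancel_right]

theorem ω_n : M.ω * M.n * M.ω⁻¹ = M.j := by
  rw [Model.ω, ← φ_slI, ← map_inv, ← map_mul, ← map_mul, slW_slI, φ_neg, Model.j]

theorem ω_j : M.ω * M.j * M.ω⁻¹ = M.n * M.j := by
  rw [Model.ω, Model.j, ← map_inv, ← map_mul, ← map_mul, slW_slJ, φ_neg, map_mul, φ_slI]

/-- Elements of the image of SL₂ commuting with `n`. -/
theorem φ_comm_n {y : SL(2, K)} (h : M.φ y * M.n = M.n * M.φ y) : M.φ y ∈ M.Z ∨ M.φ y * M.j ∈ M.Z := by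
  rw [← φ_slI, ← map_mul, ← map_mul, φ_eq_iff] at h
  rcases h with h | h
  · exact Or.inl ⟨y, comm_Zt slI_mem_Zt (by simp [slI]) h, rfl⟩
  · exact Or.inr ⟨_, anticomm_slI h, by rw [map_mul]; rfl⟩

/-- Elements of the image of SL₂ commuting with an element of `Z` of order greater than two. -/
theorem φ_comm_Z {y : SL(2, K)} {g : G} (hg : g ∈ M.Z) (hg2 : g * g ≠ 1) (h : M.φ y * g = g * M.φ y) :
    M.φ y ∈ M.Z := by
  obtain ⟨z, hz, rfl⟩ := hg
  rw [← map_mul, ← map_mul, φ_eq_iff] at h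
  have hd := sl_det z
  rcases h with h | h
  · refine ⟨y, comm_Zt hz (fun h0 => hg2 ?_) h, rfl⟩
    have : M.φ z = 1 := by
      rw [φ_eq_one_iff, mem_center_iff']
      exact ⟨by rw [hz.2, h0, neg_zero], h0, hz.1⟩
    rw [this, mul_one]
  · exfalso
    apply hg2
    have h0 := anticomm_Zt hz h
    rw [← map_mul, φ_eq_one_iff, mem_center_iff']
    simp only [sl_mul_apply, ← hz.1, h0, hz.2]
    refine ⟨by ring, by ring, by ring⟩

end Model

end Cfsg.Agent.H9.Ree
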