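import Cfsg.Agent.H9.ReeTorus

/-!
The 2-local structure of a model of the small Ree group: a four-group, a Sylow 2-subgroup, their centralisers and
normalisers.
-/

set_option autoImplicit false
set_option linter.unusedSectionVars false
set_option linter.unusedSimpArgs false

namespace Cfsg.Agent.H9.Ree
open Matrix MulAction
open scoped MatrixGroups

variable {K : Type*} [Field K] [TwF K] [CharP K 3] {G : Type*} [Group G]

namespace Model

variable (M : Model K G)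

theorem a_inv : M.a⁻¹ = M.a := inv_eq_of_mul_eq_one_right M.a_sq
theorem n_inv : M.n⁻¹ = M.n := inv_eq_of_mul_eq_one_right M.n_sq
theorem j_inv : M.j⁻¹ = M.j := inv_eq_of_mul_eq_one_right M.j_sq

theorem n_ne_one : M.n ≠ 1 := fun h => M.R.n_not_mem (by rw [R_n, h]; exact one_mem _)
theorem a_ne_n : M.a ≠ M.n := fun h => M.a_not_mem_Z (h ▸ M.n_mem_Z)
theorem an_ne_one : M.a * M.n ≠ 1 := fun h => M.a_ne_n (by rw [eq_inv_of_mul_eq_one_left h, n_inv])
theorem an_ne_a : M.a * M.n ≠ M.a := fun h => M.n_ne_one (mul_eq_left.mp h)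
theorem an_ne_n : M.a * M.n ≠ M.n := fun h => M.a_ne_one (mul_eq_right.mp h)

theorem mem_bot_adj {g : G} : g * M.a = 1 ↔ g = M.a := by
  rw [mul_eq_one_iff_eq_inv, a_inv]

/-- The subgroup generated by `a`. -/
noncomputable def V2 : Subgroup G := adj ⊥ M.a (by rw [M.a_sq]; exact one_mem _) (by
  intro x hx; rw [Subgroup.mem_bot.mp hx]; simp)

theorem mem_V2 {g : G} : g ∈ M.V2 ↔ g = 1 ∨ g = M.a := by
  rw [V2, mem_adj, Subgroup.mem_bot, Subgroup.mem_bot, mem_bot_adj]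

/-- The four-group generated by `a` and `n`. -/
noncomputable def V4 : Subgroup G := adj M.V2 M.n (by rw [M.n_sq]; exact one_mem _) (by
  intro x hx
  rcases M.mem_V2.mp hx with rfl | rfl
  · simp
  · rw [← M.a_comm_n, mul_inv_cancel_right]; exact hx)

theorem mem_V4 {g : G} : g ∈ M.V4 ↔ g = 1 ∨ g = M.a ∨ g = M.n ∨ g = M.a * M.n := by
  rw [V4, mem_adj, mem_V2, mem_V2, mul_eq_one_iff_eq_inv, n_inv, ← eq_mul_inv_iff_mul_eq, n_inv, or_assoc]

theorem a_mem_V4 : M.a ∈ M.V4 := M.mem_V4.mpr (by simp)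
theorem n_mem_V4 : M.n ∈ M.V4 := M.mem_V4.mpr (by simp)

theorem comm_V4 {g : G} (ha : M.a * g = g * M.a) (hn : M.n * g = g * M.n) {v : G} (hv : v ∈ M.V4) :
    v * g = g * v := by
  rcases M.mem_V4.mp hv with rfl | rfl | rfl | rfl
  · simp
  · exact ha
  · exact hn
  · rw [mul_assoc, hn, ← mul_assoc, ha, mul_assoc]

theorem V4_sq {v : G} (hv : v ∈ M.V4) : v * v = 1 := by
  rcases M.mem_V4.mp hv with rfl | rfl | rfl | rfl
  · simp
  · exact M.a_sq
  · exact M.n_sq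
  · rw [mul_assoc, ← mul_assoc M.n, ← M.a_comm_n, mul_assoc, M.n_sq, mul_one, M.a_sq]

/-- The elementary abelian group of order eight. -/
noncomputable def S : Subgroup G := adj M.V4 M.j (by rw [M.j_sq]; exact one_mem _) (by
  intro x hx
  rw [← M.comm_V4 M.a_comm_j M.n_comm_j hx, mul_inv_cancel_right]; exact hx)

theorem mem_S {g : G} : g ∈ M.S ↔ g ∈ M.V4 ∨ ∃ v ∈ M.V4, g = v * M.j := by
  rw [S, mem_adj]
  refine or_congr Iff.rfl ⟨fun h => ⟨_, h, by rw [mul_assoc, M.j_sq, mul_one]⟩, ?_⟩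
  rintro ⟨v, hv, rfl⟩
  rwa [mul_assoc, M.j_sq, mul_one]

theorem V4_le_S : M.V4 ≤ M.S := le_adj
theorem j_mem_S : M.j ∈ M.S := self_mem_adj

theorem comm_S {g : G} (ha : M.a * g = g * M.a) (hn : M.n * g = g * M.n) (hj : M.j * g = g * M.j) {v : G}
    (hv : v ∈ M.S) : v * g = g * v := by
  rcases M.mem_S.mp hv with h | ⟨v, h, rfl⟩
  · exact M.comm_V4 ha hn h
  · rw [mul_assoc, hj, ← mul_assoc, M.comm_V4 ha hn h, mul_assoc]

theorem S_comm {v w : G} (hv : v ∈ M.S) (hw : w ∈ M.S) : v * w = w * v :=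
  M.comm_S (M.comm_S rfl M.a_comm_n.symm M.a_comm_j.symm hw).symm (M.comm_S M.a_comm_n rfl M.n_comm_j.symm hw).symm
    (M.comm_S M.a_comm_j M.n_comm_j rfl hw).symm hv

theorem S_sq {v : G} (hv : v ∈ M.S) : v * v = 1 := by
  rcases M.mem_S.mp hv with h | ⟨v, h, rfl⟩
  · exact M.V4_sq h
  · rw [mul_assoc, ← mul_assoc M.j, ← M.comm_V4 M.a_comm_j M.n_comm_j h, mul_assoc, M.j_sq, mul_one, M.V4_sq h]

/-- The abelian group `⟨a⟩ × Z` of order `q + 1`. -/
noncomputable def Y : Subgroup G := adj M.Z M.a (by rw [M.a_sq]; exact one_mem _) (by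
  intro x hx
  rw [M.a_comm_Z hx, mul_inv_cancel_right]; exact hx)

theorem mem_Y {g : G} : g ∈ M.Y ↔ g ∈ M.Z ∨ ∃ z ∈ M.Z, g = z * M.a := by
  rw [Y, mem_adj]
  refine or_congr Iff.rfl ⟨fun h => ⟨_, h, by rw [mul_assoc, M.a_sq, mul_one]⟩, ?_⟩
  rintro ⟨v, hv, rfl⟩
  rwa [mul_assoc, M.a_sq, mul_one]

theorem Z_le_Y : M.Z ≤ M.Y := le_adj
theorem a_mem_Y : M.a ∈ M.Y := self_mem_adj

theorem V4_le_Y : M.V4 ≤ M.Y := by
  intro v hv
  rcases M.mem_V4.mp hv with rfl | rfl | rfl | rfl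
  · exact one_mem _
  · exact M.a_mem_Y
  · exact M.Z_le_Y M.n_mem_Z
  · exact mul_mem M.a_mem_Y (M.Z_le_Y M.n_mem_Z)

theorem Y_comm {g g' : G} (hg : g ∈ M.Y) (hg' : g' ∈ M.Y) : g * g' = g' * g := by
  have key : ∀ g ∈ M.Y, ∀ w : G, Commute M.a w → (∀ z ∈ M.Z, Commute z w) → Commute g w := by
    intro g hg w h1 h2
    rcases M.mem_Y.mp hg with h | ⟨z, h, rfl⟩
    · exact h2 g h
    · exact (h2 z h).mul_left h1
  refine key g hg g' (key g' hg' M.a rfl (fun z hz => (M.a_comm_Z hz).symm)).symm fun z hz => ?_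
  exact (key g' hg' z (M.a_comm_Z hz) fun z' hz' => M.Z_comm hz' hz).symm

theorem j_conj_Y {g : G} (hg : g ∈ M.Y) : M.j * g * M.j⁻¹ = g⁻¹ := by
  rcases M.mem_Y.mp hg with h | ⟨z, h, rfl⟩
  · exact M.j_conj_Z h
  · have : M.j * (z * M.a) * M.j⁻¹ = (M.j * z * M.j⁻¹) * (M.j * M.a * M.j⁻¹) := by simp [mul_assoc]
    rw [this, M.j_conj_Z h, ← M.a_comm_j, mul_inv_cancel_right, _root_.mul_inv_rev, a_inv,
      M.a_comm_Z (inv_mem h)]

theorem Y_sq {g : G} (hg : g ∈ M.Y) (h : g * g = 1) : g ∈ M.V4 := by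
  rcases M.mem_Y.mp hg with hz | ⟨z, hz, rfl⟩
  · rcases M.Z_sq hz h with rfl | rfl
    · exact one_mem _
    · exact M.n_mem_V4
  · rw [mul_assoc, ← mul_assoc M.a, M.a_comm_Z hz, mul_assoc, M.a_sq, mul_one] at h
    refine mul_mem ?_ M.a_mem_V4
    rcases M.Z_sq hz h with rfl | rfl
    · exact one_mem _
    · exact M.n_mem_V4

theorem j_not_mem_Y : M.j ∉ M.Y := by
  intro h
  rcases M.mem_Y.mp h with hz | ⟨_, ⟨z, hz, rfl⟩, e⟩
  · exact M.j_not_mem_Z hz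
  · apply M.φ_ne_a (z⁻¹ * slJ)
    rw [map_mul, map_inv, inv_mul_eq_iff_eq_mul, ← e, Model.j]

/-- The centraliser of the four-group. -/
noncomputable def D : Subgroup G := adj M.Y M.j (by rw [M.j_sq]; exact one_mem _) (by
  intro x hx
  rw [M.j_conj_Y hx]; exact inv_mem hx)

theorem mem_D {g : G} : g ∈ M.D ↔ g ∈ M.Y ∨ ∃ z ∈ M.Y, g = z * M.j := by
  rw [D, mem_adj]
  refine or_congr Iff.rfl ⟨fun h => ⟨_, h, by rw [mul_assoc, M.j_sq, mul_one]⟩, ?_⟩
  rintro ⟨v, hv, rfl⟩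
  rwa [mul_assoc, M.j_sq, mul_one]

theorem Y_le_D : M.Y ≤ M.D := le_adj
theorem j_mem_D : M.j ∈ M.D := self_mem_adj

theorem mem_D_iff [Finite K] {g : G} : g ∈ M.D ↔ M.a * g = g * M.a ∧ M.n * g = g * M.n := by
  constructor
  · intro hg
    rcases M.mem_D.mp hg with h | ⟨z, h, rfl⟩
    · exact ⟨M.Y_comm M.a_mem_Y h, M.Y_comm (M.Z_le_Y M.n_mem_Z) h⟩
    · exact ⟨Commute.mul_right (M.Y_comm M.a_mem_Y h) M.a_comm_j,
        Commute.mul_right (M.Y_comm (M.Z_le_Y M.n_mem_Z) h) M.n_comm_j⟩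
  · rintro ⟨ha, hn⟩
    have key : ∀ y, M.φ y * M.n = M.n * M.φ y → M.φ y ∈ M.D := by
      intro y h
      rcases M.φ_comm_n h with h' | h'
      · exact M.Y_le_D (M.Z_le_Y h')
      · exact Or.inr (M.Z_le_Y h')
    obtain ⟨y, rfl | rfl⟩ := M.comm_a_iff.mp ha
    · exact key y hn.symm
    · refine mul_mem (M.Y_le_D M.a_mem_Y) (key y ?_)
      rw [← mul_assoc, ← M.a_comm_n, mul_assoc, mul_assoc, mul_right_inj] at hn
      exact hn.symm

theorem card_V4 : Nat.card M.V4 = 4 := by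
  rw [V4, card_adj, V2, card_adj]
  · simp
  · rw [Subgroup.mem_bot]; exact M.a_ne_one
  · rw [mem_V2]; exact fun h => h.elim M.n_ne_one fun h => M.a_ne_n h.symm

theorem card_S : Nat.card M.S = 8 := by
  rw [S, card_adj, card_V4]
  exact fun h => M.j_not_mem_Y (M.V4_le_Y h)

theorem card_Y [Finite K] : Nat.card M.Y = Nat.card K + 1 := by
  rw [Y, card_adj M.a_not_mem_Z, card_Z]

theorem card_D [Finite K] : Nat.card M.D = 2 * (Nat.card K + 1) := by
  rw [D, card_adj M.j_not_mem_Y, card_Y]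

theorem conj_mul (c x y : G) : c * (x * y) * c⁻¹ = (c * x * c⁻¹) * (c * y * c⁻¹) := by simp [mul_assoc]

theorem τ_an : M.τ * (M.a * M.n) * M.τ⁻¹ = M.a := by
  rw [conj_mul, τ_a, τ_n, ← mul_assoc, ← M.a_comm_n, mul_assoc, M.n_sq, mul_one]

theorem τ_mem_normalizer_V4 : M.τ ∈ Subgroup.normalizer (M.V4 : Set G) := by
  have : Finite M.V4 := Nat.finite_of_card_ne_zero (by rw [card_V4]; norm_num)
  have : Finite (M.V4 : Set G) := this
  apply Subgroup.mem_normalizer_fintype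
  intro v hv
  rcases M.mem_V4.mp hv with rfl | rfl | rfl | rfl
  · simp
  · rw [τ_a]; exact M.n_mem_V4
  · rw [τ_n]; exact mul_mem M.a_mem_V4 M.n_mem_V4
  · rw [τ_an]; exact M.a_mem_V4

theorem mem_normalizer_S {c : G} (ha : c * M.a * c⁻¹ ∈ M.S) (hn : c * M.n * c⁻¹ ∈ M.S) (hj : c * M.j * c⁻¹ ∈ M.S) :
    c ∈ Subgroup.normalizer (M.S : Set G) := by
  have : Finite M.S := Nat.finite_of_card_ne_zero (by rw [card_S]; norm_num)
  have : Finite (M.S : Set G) := this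
  apply Subgroup.mem_normalizer_fintype
  have key : ∀ v ∈ M.V4, c * v * c⁻¹ ∈ M.S := by
    intro v hv
    rcases M.mem_V4.mp hv with rfl | rfl | rfl | rfl
    · simp
    · exact ha
    · exact hn
    · rw [conj_mul]; exact mul_mem ha hn
  intro v hv
  rcases M.mem_S.mp hv with h | ⟨v, h, rfl⟩
  · exact key v h
  · rw [conj_mul]; exact mul_mem (key v h) hj

theorem τ_mem_normalizer_S : M.τ ∈ Subgroup.normalizer (M.S : Set G) := by
  have ha := M.V4_le_S M.a_mem_V4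
  have hn := M.V4_le_S M.n_mem_V4
  apply M.mem_normalizer_S
  · rwa [τ_a]
  · rw [τ_n]; exact mul_mem ha hn
  · rw [τ_j]; exact mul_mem hn M.j_mem_S

theorem ω_mem_normalizer_S : M.ω ∈ Subgroup.normalizer (M.S : Set G) := by
  have ha := M.V4_le_S M.a_mem_V4
  have hn := M.V4_le_S M.n_mem_V4
  apply M.mem_normalizer_S
  · rwa [ω_a]
  · rw [ω_n]; exact M.j_mem_S
  · rw [ω_j]; exact mul_mem hn M.j_mem_S

theorem conj_a_of_mem_S {s : G} (hs : s ∈ M.S) (hs1 : s ≠ 1) :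
    ∃ c ∈ Subgroup.normalizer (M.S : Set G), c * M.a * c⁻¹ = s := by
  have hτ := M.τ_mem_normalizer_S
  have hω := M.ω_mem_normalizer_S
  have step : ∀ c ∈ Subgroup.normalizer (M.S : Set G), ∀ s t : G, c * s * c⁻¹ = t →
      (∃ c ∈ Subgroup.normalizer (M.S : Set G), c * M.a * c⁻¹ = s) →
      ∃ c ∈ Subgroup.normalizer (M.S : Set G), c * M.a * c⁻¹ = t := by
    rintro c hc s t rfl ⟨d, hd, rfl⟩
    exact ⟨c * d, mul_mem hc hd, by simp [mul_assoc]⟩
  have h1 : ∃ c ∈ Subgroup.normalizer (M.S : Set G), c * M.a * c⁻¹ = M.a := ⟨1, one_mem _, by simp⟩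
  have h2 := step _ hτ _ _ M.τ_a h1
  have h3 := step _ hτ _ _ M.τ_n h2
  have h4 := step _ hω _ _ M.ω_n h2
  have h5 := step _ hω _ _ M.ω_j h4
  have h6 := step _ hω _ (M.a * M.j) (by rw [conj_mul, ω_a, ω_n]) h3
  have h7 := step _ hω _ (M.a * M.n * M.j) (by rw [conj_mul, ω_a, ω_j, mul_assoc]) h6
  rcases M.mem_S.mp hs with h | ⟨v, h, rfl⟩ <;> rcases M.mem_V4.mp h with rfl | rfl | rfl | rfl
  · exact absurd rfl hs1
  · exact h1
  · exact h2
  · exact h3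
  · rwa [one_mul]
  · exact h6
  · exact h5
  · exact h7

include M in
theorem card_G [Finite K] : Nat.card G = (Nat.card K ^ 3 + 1) * (Nat.card K ^ 3 * (Nat.card K - 1)) := by
  have := M.finite
  rw [M.R.card_G, R_U, R_H, card_U, card_H]

theorem isPGroup_S : IsPGroup 2 M.S := by
  rintro ⟨s, hs⟩
  exact ⟨1, Subtype.ext (by simpa [pow_two] using M.S_sq hs)⟩

theorem not_two_dvd_index_S [Finite K] (hq : Nat.card K % 8 = 3) : ¬ 2 ∣ M.S.index := by
  have h := M.S.index_mul_card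
  rw [card_S, M.card_G] at h
  obtain ⟨t, ht⟩ : ∃ t, Nat.card K = 8 * t + 3 := ⟨Nat.card K / 8, by omega⟩
  rw [ht, show 8 * t + 3 - 1 = 8 * t + 2 by omega] at h
  have h2 : M.S.index = (128 * t ^ 3 + 144 * t ^ 2 + 54 * t + 7) * ((8 * t + 3) ^ 3 * (4 * t + 1)) := by
    apply Nat.eq_of_mul_eq_mul_right (show 0 < 8 by norm_num)
    rw [h]; ring
  rw [h2, Nat.two_dvd_ne_zero, ← Nat.odd_iff]
  refine Odd.mul ?_ (Odd.mul (Odd.pow ?_) ?_)
  · exact ⟨64 * t ^ 3 + 72 * t ^ 2 + 27 * t + 3, by ring⟩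
  · exact ⟨4 * t + 1, by ring⟩
  · exact ⟨2 * t, by ring⟩

theorem exists_conj_mem_S [Finite K] (hq : Nat.card K % 8 = 3) {x : G} {k : ℕ} (hx : x ^ 2 ^ k = 1) :
    ∃ c : G, c⁻¹ * x * c ∈ M.S := by
  have := M.finite
  have : Fact (Nat.Prime 2) := ⟨Nat.prime_two⟩
  exact exists_conj_mem_of_not_dvd_index hx (M.not_two_dvd_index_S hq)

/-- All involutions are conjugate. -/
theorem conj_a_of_two_elt [Finite K] (hq : Nat.card K % 8 = 3) {x : G} {k : ℕ} (hx : x ^ 2 ^ k = 1) (hx1 : x ≠ 1) :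
    ∃ c : G, x = c * M.a * c⁻¹ := by
  obtain ⟨c, hc⟩ := M.exists_conj_mem_S hq hx
  obtain ⟨d, -, hd⟩ := M.conj_a_of_mem_S hc (by
    intro h
    apply hx1
    have : x = c * (c⁻¹ * x * c) * c⁻¹ := by simp [mul_assoc]
    rw [this, h]; simp)
  refine ⟨c * d, ?_⟩
  calc x = c * (c⁻¹ * x * c) * c⁻¹ := by simp [mul_assoc]
    _ = _ := by rw [← hd]; simp [mul_assoc]

theorem exists_sylow_eq [Finite K] (hq : Nat.card K % 8 = 3) [Fact (Nat.Prime 2)] (P : Sylow 2 G) :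
    ∃ c : G, (P : Subgroup G) = M.S.map (MulAut.conj c).toMonoidHom := by
  have := M.finite
  obtain ⟨c, hc⟩ := exists_smul_eq G (M.isPGroup_S.toSylow (M.not_two_dvd_index_S hq)) P
  exact ⟨c, by rw [← hc]; rfl⟩

include M in
theorem sylow_two [Finite K] (hq : Nat.card K % 8 = 3) [Fact (Nat.Prime 2)] (P : Sylow 2 G) :
    Nat.card P = 8 ∧ ∀ x ∈ P, x * x = 1 := by
  obtain ⟨c, hc⟩ := M.exists_sylow_eq hq P
  constructor
  · rw [← M.card_S]
    show Nat.card (P : Subgroup G) = _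
    rw [hc, Subgroup.card_map_of_injective (MulAut.conj c).injective]
  · intro x hx
    have hx' : x ∈ (P : Subgroup G) := hx
    rw [hc] at hx'
    obtain ⟨s, hs, rfl⟩ := hx'
    rw [← map_mul, M.S_sq hs, map_one]

end Model

end Cfsg.Agent.H9.Ree
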