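import Cfsg.Agent.H9.ReeTwo

/-!
The cyclic subgroup of order `(q + 1) / 4`, its centraliser and normaliser, and the normaliser of a Sylow 2-subgroup
in a model of the small Ree group.
-/

set_option autoImplicit false
set_option linter.unusedSectionVars false
set_option linter.unusedSimpArgs false

namespace Cfsg.Agent.H9.Ree
open Matrix MulAction
open scoped MatrixGroups

theorem conj_comm {G : Type*} [Group G] {x y : G} (c : G) (h : x * y = y * x) :
    (c * x * c⁻¹) * (c * y * c⁻¹) = (c * y * c⁻¹) * (c * x * c⁻¹) := by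
  rw [← Model.conj_mul, ← Model.conj_mul, h]

theorem conj_ne_one {G : Type*} [Group G] {x : G} (c : G) (h : x ≠ 1) : c * x * c⁻¹ ≠ 1 := by
  intro e
  exact h (by simpa using e)

theorem conj_inj {G : Type*} [Group G] {x y : G} (c : G) (h : c * x * c⁻¹ = c * y * c⁻¹) : x = y := by
  simpa using h

theorem eq_one_of_pow_coprime {G : Type*} [Group G] {x : G} {a b : ℕ} (hab : Nat.Coprime a b) (ha : x ^ a = 1)
    (hb : x ^ b = 1) : x = 1 := by
  rw [← orderOf_eq_one_iff]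
  exact Nat.eq_one_of_dvd_coprimes hab (orderOf_dvd_of_pow_eq_one ha) (orderOf_dvd_of_pow_eq_one hb)

variable {K : Type*} [Field K] [TwF K] [CharP K 3] {G : Type*} [Group G]

theorem three_dvd_card [Finite K] : 3 ∣ Nat.card K := by
  cases nonempty_fintype K
  rw [Nat.card_eq_fintype_card]
  exact (CharP.cast_eq_zero_iff K 3 _).mp (FiniteField.cast_card_eq_zero K)

theorem odd_r {q : ℕ} (hq : q % 8 = 3) : Odd ((q + 1) / 4) := by
  rw [Nat.odd_iff]; omega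

theorem coprime_r {q : ℕ} (hq : q % 8 = 3) : Nat.Coprime ((q + 1) / 4) (q ^ 3 * (q - 1)) := by
  obtain ⟨t, rfl⟩ : ∃ t, q = 8 * t + 3 := ⟨q / 8, by omega⟩
  rw [show (8 * t + 3 + 1) / 4 = 2 * t + 1 by omega, show 8 * t + 3 - 1 = 8 * t + 2 by omega]
  refine Nat.Coprime.mul_right (Nat.Coprime.pow_right _ ?_) ?_
  · rw [← Nat.isCoprime_iff_coprime]
    exact ⟨4, -1, by push_cast; ring⟩
  · rw [← Nat.isCoprime_iff_coprime]
    exact ⟨1 - 4 * t, t, by push_cast; ring⟩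

namespace Model

variable (M : Model K G)

/-- The subgroup of odd order `(q + 1) / 4` of `Z`. -/
noncomputable def A : Subgroup G where
  carrier := {g | g ∈ M.Z ∧ g ^ ((Nat.card K + 1) / 4) = 1}
  one_mem' := ⟨one_mem _, one_pow _⟩
  mul_mem' := by
    rintro g g' ⟨h1, h2⟩ ⟨h3, h4⟩
    exact ⟨mul_mem h1 h3, by rw [Commute.mul_pow (M.Z_comm h1 h3), h2, h4, mul_one]⟩
  inv_mem' := by
    rintro g ⟨h1, h2⟩
    exact ⟨inv_mem h1, by rw [inv_pow, h2, inv_one]⟩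

theorem A_le_Z : M.A ≤ M.Z := fun _ h => h.1

variable [Finite K] (hq : Nat.card K % 8 = 3)

theorem isCyclic_A : IsCyclic M.A := by
  have := M.isCyclic_Z
  exact isCyclic_of_injective (Subgroup.inclusion M.A_le_Z) (Subgroup.inclusion_injective _)

include hq

theorem card_Z' : Nat.card M.Z = 2 * ((Nat.card K + 1) / 4) := by
  have := M.card_Z
  omega

theorem card_A : Nat.card M.A = (Nat.card K + 1) / 4 := by
  have := M.isCyclic_Z
  have := M.finite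
  rw [← card_odd_order (C := M.Z) (odd_r hq) (M.card_Z' hq)]
  refine Nat.card_congr ⟨fun g => ⟨⟨g.1, g.2.1⟩, ?_⟩, fun g => ⟨g.1.1, g.1.2, ?_⟩, fun _ => rfl, fun _ => rfl⟩
  · rw [← Subgroup.orderOf_coe]
    exact (odd_r hq).of_dvd_nat (orderOf_dvd_of_pow_eq_one g.2.2)
  · have h1 : orderOf g.1 ∣ 2 * ((Nat.card K + 1) / 4) := M.card_Z' hq ▸ orderOf_dvd_natCard g.1
    have h2 := (Nat.Coprime.dvd_mul_left (Nat.coprime_two_right.mpr g.2)).mp h1
    rw [← Subgroup.orderOf_coe] at h2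
    exact orderOf_dvd_iff_pow_eq_one.mp h2

theorem pow_r_of_sq {g : G} (h : g * g = 1) : g ^ ((Nat.card K + 1) / 4) = g := by
  obtain ⟨k, hk⟩ := odd_r hq
  rw [hk, pow_succ, pow_mul, pow_two, h, one_pow, one_mul]

theorem A_sq_ne_one {x : G} (hx : x ∈ M.A) (hx1 : x ≠ 1) : x * x ≠ 1 := by
  intro h
  exact hx1 ((pow_r_of_sq hq h).symm.trans hx.2)

theorem Z_decomp {z : G} (hz : z ∈ M.Z) : z ∈ M.A ∨ z * M.n ∈ M.A := by
  have := M.finite
  have h1 : z ^ ((Nat.card K + 1) / 4) * z ^ ((Nat.card K + 1) / 4) = 1 := by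
    rw [← pow_add, ← two_mul, ← M.card_Z' hq]
    exact congrArg Subtype.val (pow_card_eq_one' (G := M.Z) (x := ⟨z, hz⟩))
  rcases M.Z_sq (pow_mem hz _) h1 with h | h
  · exact Or.inl ⟨hz, h⟩
  · refine Or.inr ⟨mul_mem hz M.n_mem_Z, ?_⟩
    rw [Commute.mul_pow (M.Z_comm hz M.n_mem_Z), h, pow_r_of_sq hq M.n_sq, M.n_sq]

theorem mem_Y_iff {g : G} : g ∈ M.Y ↔ ∃ v ∈ M.V4, ∃ x ∈ M.A, g = v * x := by
  constructor
  · have key : ∀ z ∈ M.Z, ∃ v ∈ M.V4, ∃ x ∈ M.A, z = v * x := by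
      intro z hz
      rcases M.Z_decomp hq hz with h | h
      · exact ⟨1, one_mem _, z, h, (one_mul z).symm⟩
      · exact ⟨M.n, M.n_mem_V4, _, h, by rw [M.Z_comm hz M.n_mem_Z, ← mul_assoc, M.n_sq, one_mul]⟩
    intro hg
    rcases M.mem_Y.mp hg with h | ⟨z, h, rfl⟩
    · exact key g h
    · obtain ⟨v, hv, x, hx, e⟩ := key z h
      exact ⟨M.a * v, mul_mem M.a_mem_V4 hv, x, hx, by rw [← M.a_comm_Z h, e, mul_assoc]⟩
  · rintro ⟨v, hv, x, hx, rfl⟩
    exact mul_mem (M.V4_le_Y hv) (M.Z_le_Y hx.1)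

theorem mem_A_of_mem_D {g : G} (hg : g ∈ M.D) (h : g ^ ((Nat.card K + 1) / 4) = 1) : g ∈ M.A := by
  rcases M.mem_D.mp hg with hy | ⟨y, hy, rfl⟩
  · obtain ⟨v, hv, x, hx, rfl⟩ := (M.mem_Y_iff hq).mp hy
    rw [Commute.mul_pow (M.Y_comm (M.V4_le_Y hv) (M.Z_le_Y hx.1)), hx.2, mul_one, pow_r_of_sq hq (M.V4_sq hv)] at h
    rwa [h, one_mul]
  · have : y * M.j * (y * M.j) = 1 := by
      have h1 := M.j_conj_Y hy
      rw [j_inv] at h1
      rw [mul_assoc, ← mul_assoc M.j, h1, mul_inv_cancel]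
    rw [pow_r_of_sq hq this] at h
    rw [h]; exact one_mem _

omit hq in
theorem conj_mem_D {c : G} (hc : c ∈ Subgroup.normalizer (M.V4 : Set G)) {g : G} (hg : g ∈ M.D) :
    c * g * c⁻¹ ∈ M.D := by
  rw [mem_D_iff] at hg ⊢
  have key : ∀ v ∈ M.V4, v * (c * g * c⁻¹) = (c * g * c⁻¹) * v := by
    intro v hv
    have h1 : c⁻¹ * v * c ∈ M.V4 := (Subgroup.mem_normalizer_iff''.mp hc v).mp hv
    have := conj_comm c (M.comm_V4 hg.1 hg.2 h1)
    simpa [mul_assoc] using this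
  exact ⟨key _ M.a_mem_V4, key _ M.n_mem_V4⟩

theorem conj_mem_A {c : G} (hc : c ∈ Subgroup.normalizer (M.V4 : Set G)) {g : G} (hg : g ∈ M.A) :
    c * g * c⁻¹ ∈ M.A :=
  M.mem_A_of_mem_D hq (M.conj_mem_D hc (M.Y_le_D (M.Z_le_Y hg.1))) (by rw [conj_pow, hg.2]; simp)

theorem conj_mem_Y {c : G} (hc : c ∈ Subgroup.normalizer (M.V4 : Set G)) {g : G} (hg : g ∈ M.Y) :
    c * g * c⁻¹ ∈ M.Y := by
  obtain ⟨v, hv, x, hx, rfl⟩ := (M.mem_Y_iff hq).mp hg
  exact (M.mem_Y_iff hq).mpr ⟨_, (Subgroup.mem_normalizer_iff.mp hc v).mp hv, _, M.conj_mem_A hq hc hx,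
    conj_mul _ _ _⟩

omit hq in
theorem conj_φ_of_comm_a {g : G} (hg : M.a * g = g * M.a) (y : SL(2, K)) : ∃ z, g * M.φ y * g⁻¹ = M.φ z := by
  obtain ⟨w, rfl | rfl⟩ := M.comm_a_iff.mp hg
  · exact ⟨w * y * w⁻¹, by simp⟩
  · refine ⟨w * y * w⁻¹, ?_⟩
    calc M.a * M.φ w * M.φ y * (M.a * M.φ w)⁻¹ = M.a * M.φ (w * y * w⁻¹) * M.a⁻¹ := by simp [mul_assoc]
      _ = _ := by rw [a_φ, mul_inv_cancel_right]

omit hq in
theorem a_mul_φ_ne (y z : SL(2, K)) : M.a * M.φ y ≠ M.φ z := by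
  intro h
  apply M.φ_ne_a (z * y⁻¹)
  rw [map_mul, map_inv, ← h, mul_inv_cancel_right]

omit hq in
theorem normalizer_V4_inf : Subgroup.normalizer (M.V4 : Set G) ⊓ Subgroup.centralizer {M.a} = M.D := by
  have := M.finite
  ext g
  rw [Subgroup.mem_inf, Subgroup.mem_centralizer_singleton_iff, mem_D_iff]
  constructor
  · rintro ⟨h1, h2⟩
    refine ⟨h2.symm, ?_⟩
    have h3 := (Subgroup.mem_normalizer_iff.mp h1 M.n).mp M.n_mem_V4
    obtain ⟨z, hz⟩ := M.conj_φ_of_comm_a h2.symm slI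
    rw [φ_slI] at hz
    rcases M.mem_V4.mp h3 with h | h | h | h
    · exact absurd h (conj_ne_one _ M.n_ne_one)
    · exact absurd (hz.symm.trans h) (M.φ_ne_a z)
    · exact (mul_inv_eq_iff_eq_mul.mp h).symm
    · rw [hz, ← φ_slI] at h
      exact absurd h.symm (M.a_mul_φ_ne _ _)
  · rintro ⟨h1, h2⟩
    refine ⟨?_, h1.symm⟩
    apply Subgroup.mem_normalizer_fintype
    intro v hv
    rw [← M.comm_V4 h1 h2 hv, mul_inv_cancel_right]
    exact hv

omit hq in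
theorem card_normalizer_V4 : Nat.card (Subgroup.normalizer (M.V4 : Set G)) = 6 * (Nat.card K + 1) := by
  rw [card_eq_conj_orbit_mul _ M.a {M.a, M.n, M.a * M.n}, normalizer_V4_inf, card_D,
    Set.ncard_eq_three.mpr ⟨_, _, _, M.a_ne_n, M.an_ne_a.symm, M.an_ne_n.symm, rfl⟩]
  · ring
  · intro y
    simp only [Set.mem_insert_iff, Set.mem_singleton_iff]
    constructor
    · rintro (rfl | rfl | rfl)
      · exact ⟨1, one_mem _, by simp⟩
      · exact ⟨M.τ, M.τ_mem_normalizer_V4, M.τ_a⟩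
      · exact ⟨M.τ * M.τ, mul_mem M.τ_mem_normalizer_V4 M.τ_mem_normalizer_V4, by
          rw [← M.τ_n, ← M.τ_a]; simp [mul_assoc]⟩
    · rintro ⟨g, hg, rfl⟩
      exact (M.mem_V4.mp ((Subgroup.mem_normalizer_iff.mp hg M.a).mp M.a_mem_V4)).resolve_left
        (conj_ne_one _ M.a_ne_one)

theorem mem_Y_of_comm_a {x : G} (hx : x ∈ M.A) (hx1 : x ≠ 1) {g : G} (h : g * x = x * g) (ha : M.a * g = g * M.a) :
    g ∈ M.Y := by
  obtain ⟨y, rfl | rfl⟩ := M.comm_a_iff.mp ha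
  · exact M.Z_le_Y (M.φ_comm_Z hx.1 (M.A_sq_ne_one hq hx hx1) h)
  · refine mul_mem M.a_mem_Y (M.Z_le_Y (M.φ_comm_Z hx.1 (M.A_sq_ne_one hq hx hx1) ?_))
    rw [← mul_assoc x, ← M.a_comm_Z hx.1, mul_assoc, mul_assoc, mul_right_inj] at h
    exact h

theorem mem_Y_of_comm {x : G} (hx : x ∈ M.A) (hx1 : x ≠ 1) {g : G} (h : g * x = x * g) {e : G} (he : e ∈ M.V4)
    (he1 : e ≠ 1) (ha : e * g = g * e) : g ∈ M.Y := by
  have key : ∀ c ∈ Subgroup.normalizer (M.V4 : Set G), c * e * c⁻¹ = M.a → g ∈ M.Y := by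
    intro c hc hce
    have h1 := M.mem_Y_of_comm_a hq (M.conj_mem_A hq hc hx) (conj_ne_one _ hx1) (conj_comm c h)
      (hce ▸ conj_comm c ha)
    have := M.conj_mem_Y hq (inv_mem hc) h1
    simpa [mul_assoc] using this
  have hτ := M.τ_mem_normalizer_V4
  rcases M.mem_V4.mp he with rfl | rfl | rfl | rfl
  · exact absurd rfl he1
  · exact key 1 (one_mem _) (by simp)
  · exact key M.τ⁻¹ (inv_mem hτ) (by rw [← M.τ_a]; simp [mul_assoc])
  · exact key M.τ hτ M.τ_an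

omit hq in
include M in
/-- An element commuting with an element of order three has order dividing `|B|`. -/
theorem pow_card_B_of_comm_three {x y : G} (hy : orderOf y = 3) (h : x * y = y * x) :
    x ^ (Nat.card K ^ 3 * (Nat.card K - 1)) = 1 := by
  have := M.finite
  have : Fact (Nat.Prime 3) := ⟨Nat.prime_three⟩
  have hy1 : y ≠ 1 := by rintro rfl; simp at hy
  obtain ⟨p, hp, hu⟩ := M.R.p_elt_fix_unique M.isPGroup_U M.U_ne_bot M.not_three_dvd_card_H hy1 (k := 1)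
    (by rw [pow_one, ← hy, pow_orderOf_eq_one])
  have h1 : x • p = p := hu _ (by rw [← mul_smul, ← h, mul_smul, hp])
  obtain ⟨c, rfl⟩ := M.R.trans p
  have h2 : c⁻¹ * x * c⁻¹⁻¹ ∈ M.R.B := by
    rw [← M.R.smul_inf_eq_iff, inv_inv, mul_smul, mul_smul, h1, inv_smul_smul]
  have h3 : (c⁻¹ * x * c⁻¹⁻¹) ^ Nat.card M.R.B = 1 :=
    congrArg Subtype.val (pow_card_eq_one' (G := M.R.B) (x := ⟨_, h2⟩))
  rw [M.R.card_B, R_U, R_H, card_U, card_H, conj_pow] at h3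
  by_contra h4
  exact conj_ne_one _ h4 h3

theorem mem_Y_of_conj_mem {x : G} (hx : x ∈ M.A) (hx1 : x ≠ 1) {c : G} (h : c * x = x * c) {e : G} (he : e ∈ M.V4)
    (he1 : e ≠ 1) (hce : c * e * c⁻¹ ∈ M.V4) : c ∈ M.Y := by
  have := M.finite
  have hxc : c * x * c⁻¹ = x := mul_inv_eq_iff_eq_mul.mpr h
  have key : ∀ v ∈ M.V4, c * v * c⁻¹ ∈ M.V4 := by
    intro v hv
    apply M.Y_sq
    · refine M.mem_Y_of_comm hq hx hx1 ?_ hce (conj_ne_one _ he1)
        (conj_comm c (M.Y_comm (M.V4_le_Y he) (M.V4_le_Y hv)))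
      have := conj_comm c (M.Y_comm (M.V4_le_Y hv) (M.Z_le_Y hx.1))
      rwa [hxc] at this
    · rw [← conj_mul, M.V4_sq hv]; simp
  by_contra hc
  have fix : ∀ v ∈ M.V4, v ≠ 1 → c * v * c⁻¹ ≠ v := by
    intro v hv hv1 e
    exact hc (M.mem_Y_of_comm hq hx hx1 h hv hv1 (mul_inv_eq_iff_eq_mul.mp e).symm)
  have fa := fix _ M.a_mem_V4 M.a_ne_one
  have fn := fix _ M.n_mem_V4 M.n_ne_one
  have fan := fix _ (mul_mem M.a_mem_V4 M.n_mem_V4) M.an_ne_one
  have h3 : c ^ 3 * M.a * (c ^ 3)⁻¹ = M.a := by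
    have e3 : c ^ 3 * M.a * (c ^ 3)⁻¹ = c * (c * (c * M.a * c⁻¹) * c⁻¹) * c⁻¹ := by
      simp [pow_three, mul_assoc]
    rw [conj_mul] at fan
    rw [e3]
    rcases M.mem_V4.mp (key _ M.a_mem_V4) with h1 | h1 | h1 | h1
    · exact absurd h1 (conj_ne_one _ M.a_ne_one)
    · exact absurd h1 fa
    · rcases M.mem_V4.mp (key _ M.n_mem_V4) with h2 | h2 | h2 | h2
      · exact absurd h2 (conj_ne_one _ M.n_ne_one)
      · rw [h1, h2, M.a_comm_n] at fan; exact absurd rfl fan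
      · exact absurd h2 fn
      · rw [h1, h2, conj_mul, h1, h2, ← mul_assoc, ← M.a_comm_n, mul_assoc, M.n_sq, mul_one]
    · rcases M.mem_V4.mp (key _ M.n_mem_V4) with h2 | h2 | h2 | h2
      · exact absurd h2 (conj_ne_one _ M.n_ne_one)
      · rw [h1, conj_mul c M.a, h1, h2, mul_assoc M.a, ← M.a_comm_n, ← mul_assoc M.a, M.a_sq, one_mul, h2]
      · exact absurd h2 fn
      · exact absurd (conj_inj c (h1.trans h2.symm)) M.a_ne_n
  have h4 : c ^ 3 ∈ M.Y := M.mem_Y_of_comm_a hq hx hx1 (Commute.pow_left h 3)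
    (mul_inv_eq_iff_eq_mul.mp h3).symm
  by_cases h5 : 3 ∣ orderOf c
  · obtain ⟨k, hk⟩ := exists_pow_orderOf_eq_prime h5
    exact hx1 (eq_one_of_pow_coprime (coprime_r hq) hx.2
      (M.pow_card_B_of_comm_three hk (Commute.pow_right h.symm k)))
  · obtain ⟨k, hk⟩ := exists_pow_eq_self_of_coprime ((Nat.Prime.coprime_iff_not_dvd Nat.prime_three).mpr h5)
    exact hc (hk ▸ pow_mem h4 k)

/-- The centraliser of a non-trivial element of `A`. -/
theorem mem_Y_of_comm_A {x : G} (hx : x ∈ M.A) (hx1 : x ≠ 1) {g : G} (h : g * x = x * g) : g ∈ M.Y := by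
  have := M.finite
  have hxg : g * x * g⁻¹ = x := mul_inv_eq_iff_eq_mul.mpr h
  have hf : Commute (g * M.n * g⁻¹) x := by
    have := conj_comm g (M.Z_comm M.n_mem_Z hx.1)
    rwa [hxg] at this
  have hs : ∀ k : ℕ, Commute ((M.a * (g * M.n * g⁻¹)) ^ k) x := fun k =>
    (Commute.mul_left (M.a_comm_Z hx.1) hf).pow_left k
  obtain ⟨k, hk | ⟨h1, h2, h3, h4⟩⟩ := involutions_conj_or (s := M.a) (t := g * M.n * g⁻¹) M.a_sq
    (by rw [← conj_mul, M.n_sq]; simp)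
  · exfalso
    have h5 : g⁻¹ * (M.a * (g * M.n * g⁻¹)) ^ k * M.a * (g⁻¹ * (M.a * (g * M.n * g⁻¹)) ^ k)⁻¹ = M.n := by
      calc _ = g⁻¹ * ((M.a * (g * M.n * g⁻¹)) ^ k * M.a * ((M.a * (g * M.n * g⁻¹)) ^ k)⁻¹) * g := by
            simp only [_root_.mul_inv_rev, inv_inv, mul_assoc]
        _ = M.n := by rw [hk]; simp [mul_assoc]
    have h6 := M.mem_Y_of_conj_mem hq hx hx1 (c := g⁻¹ * (M.a * (g * M.n * g⁻¹)) ^ k)
      (Commute.mul_left (Commute.inv_left h) (hs k)) M.a_mem_V4 M.a_ne_one (by rw [h5]; exact M.n_mem_V4)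
    rw [M.Y_comm h6 M.a_mem_Y, mul_inv_cancel_right] at h5
    exact M.a_ne_n h5
  · have h5 := M.Y_sq (M.mem_Y_of_comm_a hq hx hx1 (hs k) h3) h2
    have h6 := M.mem_Y_of_comm hq hx hx1 hf h5 h1 h4.symm
    exact M.mem_Y_of_conj_mem hq hx hx1 h M.n_mem_V4 M.n_ne_one
      (M.Y_sq h6 (by rw [← conj_mul, M.n_sq]; simp))

theorem mem_normalizer_V4_of_conj {x : G} (hx : x ∈ M.A) (hx1 : x ≠ 1) {g : G} (h : g * x * g⁻¹ ∈ M.A) :
    g ∈ Subgroup.normalizer (M.V4 : Set G) := by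
  have := M.finite
  apply Subgroup.mem_normalizer_fintype
  intro v hv
  apply M.Y_sq
  · exact M.mem_Y_of_comm_A hq h (conj_ne_one _ hx1) (conj_comm g (M.Y_comm (M.V4_le_Y hv) (M.Z_le_Y hx.1)))
  · rw [← conj_mul, M.V4_sq hv]; simp

theorem normalizer_le_A {A₀ : Subgroup G} (hle : A₀ ≤ M.A) (h0 : A₀ ≠ ⊥) :
    Subgroup.normalizer (A₀ : Set G) = Subgroup.normalizer (M.V4 : Set G) := by
  have := M.finite
  have := M.isCyclic_A
  apply le_antisymm
  · intro g hg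
    obtain ⟨⟨x, hx⟩, hx1⟩ := Subgroup.ne_bot_iff_exists_ne_one.mp h0
    exact M.mem_normalizer_V4_of_conj hq (hle hx) (fun e => hx1 (Subtype.ext e))
      (hle ((Subgroup.mem_normalizer_iff.mp hg x).mp hx))
  · refine le_trans ?_ (normalizer_le_of_isCyclic hle)
    intro g hg
    exact Subgroup.mem_normalizer_fintype fun x hx => M.conj_mem_A hq hg hx

theorem mem_S_of_mem_D {g : G} (hg : g ∈ M.D) (hN : g * M.j * g⁻¹ ∈ M.S) : g ∈ M.S := by
  have key : ∀ y ∈ M.Y, y * M.j * y⁻¹ ∈ M.S → y ∈ M.S := by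
    intro y hy h
    obtain ⟨v, hv, x, hx, rfl⟩ := (M.mem_Y_iff hq).mp hy
    have h1 : v * x * M.j * (v * x)⁻¹ * M.j⁻¹ = (v * x) * (v * x) := by
      have := M.j_conj_Y (inv_mem hy)
      rw [inv_inv] at this
      rw [mul_assoc, mul_assoc, ← mul_assoc M.j, this]
    have h2 : (v * x) * (v * x) = x * x := by
      rw [mul_assoc, ← mul_assoc x, ← M.Y_comm (M.V4_le_Y hv) (M.Z_le_Y hx.1), ← mul_assoc, ← mul_assoc,
        M.V4_sq hv, one_mul]
    have h3 : x * x ∈ M.S := by rw [← h2, ← h1]; exact mul_mem h (inv_mem M.j_mem_S)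
    have h4 : x = 1 := by
      by_contra hx1
      have h5 := M.A_sq_ne_one hq hx hx1
      exact M.A_sq_ne_one hq (mul_mem hx hx) h5 (M.S_sq h3)
    rw [h4, mul_one]
    exact M.V4_le_S hv
  rcases M.mem_D.mp hg with hy | ⟨y, hy, rfl⟩
  · exact key g hy hN
  · refine mul_mem (key y hy ?_) M.j_mem_S
    simpa [mul_assoc] using hN

theorem centralizer_S : Subgroup.centralizer (M.S : Set G) = M.S := by
  apply le_antisymm
  · intro g hg
    rw [Subgroup.mem_centralizer_iff] at hg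
    refine M.mem_S_of_mem_D hq (M.mem_D_iff.mpr ⟨hg _ (M.V4_le_S M.a_mem_V4), hg _ (M.V4_le_S M.n_mem_V4)⟩) ?_
    rw [← hg _ M.j_mem_S, mul_inv_cancel_right]
    exact M.j_mem_S
  · intro g hg
    rw [Subgroup.mem_centralizer_iff]
    exact fun s hs => M.S_comm hs hg

theorem card_normalizer_S : Nat.card (Subgroup.normalizer (M.S : Set G)) = 168 := by
  have := M.finite
  have hj1 : M.j ≠ 1 := fun h => M.j_not_mem_Z (h ▸ one_mem _)
  have hnj : M.n ≠ M.j := fun h => M.j_not_mem_Z (h ▸ M.n_mem_Z)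
  have h1 : ((M.S : Set G) \ {1}).ncard = 7 := by
    rw [Set.ncard_sdiff_singleton_of_mem (one_mem M.S), ← Nat.card_coe_set_eq]
    exact congrArg (· - 1) M.card_S
  have h2 : ({M.n, M.j, M.n * M.j} : Set G).ncard = 3 :=
    Set.ncard_eq_three.mpr ⟨_, _, _, hnj, fun h => hj1 (mul_eq_left.mp h.symm),
      fun h => M.n_ne_one (mul_eq_right.mp h.symm), rfl⟩
  have h3 : Subgroup.normalizer (M.S : Set G) ⊓ Subgroup.centralizer {M.a} ⊓ Subgroup.centralizer {M.n} = M.S := by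
    ext g
    simp only [Subgroup.mem_inf, Subgroup.mem_centralizer_singleton_iff]
    constructor
    · rintro ⟨⟨e1, e2⟩, e3⟩
      exact M.mem_S_of_mem_D hq (M.mem_D_iff.mpr ⟨e2.symm, e3.symm⟩)
        ((Subgroup.mem_normalizer_iff.mp e1 _).mp M.j_mem_S)
    · intro hg
      exact ⟨⟨Subgroup.le_normalizer hg, M.S_comm hg (M.V4_le_S M.a_mem_V4)⟩, M.S_comm hg (M.V4_le_S M.n_mem_V4)⟩
  rw [card_eq_conj_orbit_mul _ M.a ((M.S : Set G) \ {1}), h1,
    card_eq_conj_orbit_mul _ M.n {M.n, M.j, M.n * M.j}, h2, h3, card_S]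
  · intro y
    have hω : M.ω ∈ Subgroup.normalizer (M.S : Set G) ⊓ Subgroup.centralizer {M.a} :=
      ⟨M.ω_mem_normalizer_S, Subgroup.mem_centralizer_singleton_iff.mpr (mul_inv_eq_iff_eq_mul.mp M.ω_a)⟩
    simp only [Set.mem_insert_iff, Set.mem_singleton_iff]
    constructor
    · rintro (rfl | rfl | rfl)
      · exact ⟨1, one_mem _, by simp⟩
      · exact ⟨M.ω, hω, M.ω_n⟩
      · exact ⟨M.ω * M.ω, mul_mem hω hω, by rw [← M.ω_j, ← M.ω_n]; simp [mul_assoc]⟩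
    · rintro ⟨g, ⟨hg1, hg2⟩, rfl⟩
      have e1 := (Subgroup.mem_normalizer_iff.mp hg1 _).mp (M.V4_le_S M.n_mem_V4)
      obtain ⟨z, hz⟩ := M.conj_φ_of_comm_a (Subgroup.mem_centralizer_singleton_iff.mp hg2).symm slI
      rw [φ_slI] at hz
      rcases M.mem_S.mp e1 with h | ⟨v, h, e⟩
      · rcases M.mem_V4.mp h with h | h | h | h
        · exact absurd h (conj_ne_one _ M.n_ne_one)
        · exact absurd (hz.symm.trans h) (M.φ_ne_a z)
        · exact Or.inl h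
        · rw [hz, ← φ_slI] at h
          exact absurd h.symm (M.a_mul_φ_ne _ _)
      · rcases M.mem_V4.mp h with rfl | rfl | rfl | rfl
        · exact Or.inr (Or.inl (by rw [e, one_mul]))
        · rw [hz] at e
          exact absurd e.symm (M.a_mul_φ_ne _ _)
        · exact Or.inr (Or.inr e)
        · rw [hz, ← φ_slI, Model.j, mul_assoc, ← map_mul] at e
          exact absurd e.symm (M.a_mul_φ_ne _ _)
  · intro y
    constructor
    · rintro ⟨hy, hy1⟩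
      exact M.conj_a_of_mem_S hy hy1
    · rintro ⟨g, hg, rfl⟩
      exact ⟨(Subgroup.mem_normalizer_iff.mp hg _).mp (M.V4_le_S M.a_mem_V4), conj_ne_one _ M.a_ne_one⟩

include M in
theorem sylow_two_normalizer [Fact (Nat.Prime 2)] (P : Sylow 2 G) :
    Subgroup.centralizer ((P : Subgroup G) : Set G) = P ∧
      Nat.card (Subgroup.normalizer ((P : Subgroup G) : Set G)) = 168 := by
  obtain ⟨c, hc⟩ := M.exists_sylow_eq hq P
  constructor
  · show _ = (P : Subgroup G)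
    rw [hc]
    ext g
    rw [Subgroup.mem_centralizer_iff]
    constructor
    · intro h
      refine ⟨c⁻¹ * g * c, ?_, by simp [mul_assoc]⟩
      rw [← M.centralizer_S hq, SetLike.mem_coe, Subgroup.mem_centralizer_iff]
      intro s hs
      have := conj_comm c⁻¹ (h _ ⟨s, hs, rfl⟩)
      simpa [mul_assoc] using this
    · rintro ⟨s, hs, rfl⟩ _ ⟨t, ht, rfl⟩
      rw [← map_mul, ← map_mul, M.S_comm hs ht]
  · rw [hc, ← Subgroup.map_equiv_normalizer_eq, Subgroup.card_map_of_injective (MulAut.conj c).injective,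
      M.card_normalizer_S hq]

end Model

end Cfsg.Agent.H9.Ree
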