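import Cfsg.Agent.Asch.Perp

/-!
Perfect subgroups of some small soluble classical groups are trivial.
-/

set_option autoImplicit false
set_option linter.unusedSectionVars false
set_option linter.unusedSimpArgs false
set_option linter.style.haveILetI false

namespace Cfsg.Agent.H9
open Matrix Cfsg.Geo Cfsg.Agent.Asch
open scoped commutatorElement

theorem isSolvable_perm_fin_four : Group.IsSolvable (Equiv.Perm (Fin 4)) := by
  have h4 : Nat.card (Fin 4) = 4 := by simp
  have := alternatingGroup.kleinFour_isKleinFour h4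
  have h1 : Group.IsSolvable (alternatingGroup.kleinFour (Fin 4)) :=
    Group.isSolvable_of_comm fun a b => (IsKleinFour.isMulCommutative).is_comm.comm a b
  have h2 : Group.IsSolvable (alternatingGroup (Fin 4)) :=
    Group.isSolvable_of_ker_le_range (alternatingGroup.kleinFour (Fin 4)).subtype (Abelianization.of) (by
      rw [Abelianization.ker_of, Subgroup.range_subtype, alternatingGroup.kleinFour_eq_commutator h4])
  exact Group.isSolvable_of_ker_le_range (alternatingGroup (Fin 4)).subtype Equiv.Perm.sign (by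
    rw [Subgroup.range_subtype]; exact le_rfl)

theorem isSolvable_perm_of_card_le_four {X : Type*} [Finite X] (h : Nat.card X ≤ 4) :
    Group.IsSolvable (Equiv.Perm X) := by
  have := isSolvable_perm_fin_four
  have := Fintype.ofFinite X
  obtain ⟨e⟩ := Function.Embedding.nonempty_of_card_le (α := X) (β := Fin 4) (by simpa using h)
  exact Group.isSolvable_of_isSolvable_injective (Equiv.Perm.viaEmbeddingHom_injective e)

theorem perfect_hom_eq_one {G A : Type*} [Group G] [Group A] [Group.IsSolvable A] {L : Subgroup G} (hL : ⁅L, L⁆ = L)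
    (φ : L →* A) (g : L) : φ g = 1 := by
  have h1 : (⁅(⊤ : Subgroup L), ⊤⁆ : Subgroup L) = ⊤ := by
    apply Subgroup.map_injective L.subtype_injective
    rw [Subgroup.map_commutator, ← MonoidHom.range_eq_map, Subgroup.range_subtype, hL]
  have h2 : ⁅φ.range, φ.range⁆ = φ.range := by
    rw [MonoidHom.range_eq_map, ← Subgroup.map_commutator, h1]
  by_contra h
  have h3 : φ.range ≠ ⊥ := fun e => h (Subgroup.mem_bot.mp (e ▸ ⟨g, rfl⟩))
  exact (Group.IsSolvable.commutator_lt_of_ne_bot h3).ne h2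

/-- A perfect group preserves every invariant colouring with at most four colours. -/
theorem perfect_fix {G V X : Type*} [Group G] [MulAction G V] [Finite X] (hX : Nat.card X ≤ 4) {L : Subgroup G}
    (hL : ⁅L, L⁆ = L) (S : V → Prop) (hS : ∀ g ∈ L, ∀ v, S v → S (g • v)) (f : V → X)
    (hf : ∀ g ∈ L, ∀ v w, S v → S w → f v = f w → f (g • v) = f (g • w)) {g : G} (hg : g ∈ L) {v : V} (hv : S v) :
    f (g • v) = f v := by
  let Y := {x : X // ∃ v, S v ∧ f v = x}
  have hY : Nat.card Y ≤ 4 := (Nat.card_le_card_of_injective _ Subtype.val_injective).trans hX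
  have := isSolvable_perm_of_card_le_four hY
  letI : SMul L Y := ⟨fun g y => ⟨f ((g : G) • y.2.choose), _, hS g g.2 _ y.2.choose_spec.1, rfl⟩⟩
  have key : ∀ (g : L) (v : V) (hv : S v), ((g • (⟨f v, v, hv, rfl⟩ : Y) : Y) : X) = f ((g : G) • v) := fun g v hv =>
    hf g g.2 _ _ (Exists.choose_spec (⟨v, hv, rfl⟩ : ∃ w, S w ∧ f w = f v)).1 hv
      (Exists.choose_spec (⟨v, hv, rfl⟩ : ∃ w, S w ∧ f w = f v)).2
  letI : MulAction L Y :=
    { one_smul := by
        rintro ⟨_, v, hv, rfl⟩
        exact Subtype.ext ((key 1 v hv).trans (by simp))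
      mul_smul := by
        rintro a b ⟨_, v, hv, rfl⟩
        have h1 : b • (⟨f v, v, hv, rfl⟩ : Y) = ⟨f ((b : G) • v), _, hS b b.2 v hv, rfl⟩ := Subtype.ext (key b v hv)
        rw [h1]
        exact Subtype.ext ((key _ v hv).trans ((key a _ (hS b b.2 v hv)).trans (by simp [mul_smul])).symm) }
  have h1 := perfect_hom_eq_one hL (MulAction.toPermHom L Y) ⟨g, hg⟩
  have h2 := congrArg Subtype.val (Equiv.congr_fun h1 ⟨f v, v, hv, rfl⟩)
  exact (key ⟨g, hg⟩ v hv).symm.trans h2

variable {ι : Type} [Fintype ι] [DecidableEq ι] {F : Type*} [Field F]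

theorem GL_smul_def (g : GL ι F) (v : ι → F) : g • v = (g : Matrix ι ι F) *ᵥ v := rfl

theorem perfect_eq_bot_of_comm {G : Type*} [Group G] {L : Subgroup G} (hL : ⁅L, L⁆ = L)
    (h : ∀ g ∈ L, ∀ g' ∈ L, g * g' = g' * g) : L = ⊥ := by
  rw [← hL, eq_bot_iff, Subgroup.commutator_le]
  intro g hg g' hg'
  exact Subgroup.mem_bot.mpr (commutatorElement_eq_one_iff_mul_comm.mpr (h g hg g' hg'))

theorem perfect_diagonal {L : Subgroup (GL ι F)} (hL : ⁅L, L⁆ = L)
    (h : ∀ g ∈ L, ∀ i j, i ≠ j → (g : Matrix ι ι F) i j = 0) : L = ⊥ := by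
  refine perfect_eq_bot_of_comm hL fun g hg g' hg' => Units.ext ?_
  have e : ∀ x ∈ L, (x : Matrix ι ι F) = diagonal fun i => (x : Matrix ι ι F) i i := by
    intro x hx
    ext i j
    by_cases hij : i = j
    · subst hij; simp
    · rw [h x hx i j hij, diagonal_apply_ne _ hij]
  rw [Units.val_mul, Units.val_mul, e g hg, e g' hg', diagonal_mul_diagonal, diagonal_mul_diagonal]
  simp only [diagonal_apply_eq, mul_comm]

theorem perfect_monomial (hι : Fintype.card ι ≤ 4) {L : Subgroup (GL ι F)} (hL : ⁅L, L⁆ = L)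
    (h : ∀ g ∈ L, ∀ j, ∃ i, ∀ k, k ≠ i → (g : Matrix ι ι F) k j = 0) : L = ⊥ := by
  classical
  refine perfect_diagonal hL fun g hg i j hij => ?_
  let S : (ι → F) → Prop := fun v => ∃ i c, c ≠ 0 ∧ v = Pi.single i c
  let f : (ι → F) → ι := fun v => if h : ∃ i, v i ≠ 0 then h.choose else i
  have hf : ∀ k c, c ≠ 0 → f (Pi.single k c) = k := by
    intro k c hc
    have h1 : ∃ i, (Pi.single k c : ι → F) i ≠ 0 := ⟨k, by simpa using hc⟩
    simp only [f, dif_pos h1]
    by_contra h2
    exact h1.choose_spec (Pi.single_eq_of_ne (M := fun _ => F) h2 c)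
  have hm : ∀ g ∈ L, ∀ j, ∃ i d, d ≠ 0 ∧ ∀ c, g • (Pi.single j c : ι → F) = Pi.single i (d * c) := by
    intro g hg j
    obtain ⟨i, hi⟩ := h g hg j
    have h1 : ∀ c, g • (Pi.single j c : ι → F) = Pi.single i ((g : Matrix ι ι F) i j * c) := by
      intro c
      ext k
      rw [GL_smul_def, mulVec_single]
      by_cases hk : k = i
      · subst hk; simp [mul_comm]
      · simp [hi k hk, hk]
    refine ⟨i, _, fun h0 => ?_, h1⟩
    have h2 := h1 1
    rw [h0, zero_mul, Pi.single_zero, smul_eq_zero_iff_eq] at h2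
    simpa using congrFun h2 j
  have h1 := perfect_fix (by simpa using hι) hL S (by
      rintro g hg _ ⟨j, c, hc, rfl⟩
      obtain ⟨i, d, hd, e⟩ := hm g hg j
      exact ⟨i, _, mul_ne_zero hd hc, e c⟩) f (by
      rintro g hg _ _ ⟨j, c, hc, rfl⟩ ⟨j', c', hc', rfl⟩ e
      rw [hf j c hc, hf j' c' hc'] at e
      subst e
      obtain ⟨i, d, hd, e⟩ := hm g hg j
      rw [e, e, hf _ _ (mul_ne_zero hd hc), hf _ _ (mul_ne_zero hd hc')]) hg ⟨j, 1, one_ne_zero, rfl⟩
  obtain ⟨k, d, hd, e⟩ := hm g hg j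
  rw [e, hf _ _ (by simpa using hd), hf _ _ one_ne_zero] at h1
  subst h1
  have h2 := congrFun (e 1) i
  rw [GL_smul_def, mulVec_single_one] at h2
  simpa [hij] using h2

variable [Fintype F]

theorem perfect_GL2 (hF : Fintype.card F ≤ 3) (L : Subgroup (GL (Fin 2) F)) (hL : ⁅L, L⁆ = L) : L = ⊥ := by
  classical
  let f : (Fin 2 → F) → Option F := fun v => if v 1 = 0 then none else some (v 0 / v 1)
  have hf : ∀ (c : F) v, c ≠ 0 → f (c • v) = f v := by
    intro c v hc
    simp only [f, Pi.smul_apply, smul_eq_mul, mul_eq_zero, hc, false_or, mul_div_mul_left _ _ hc]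
  have key : ∀ g ∈ L, ∀ v : Fin 2 → F, v ≠ 0 → f (g • v) = f v := fun g hg v hv =>
    perfect_fix (by simp; omega) hL (fun v : Fin 2 → F => v ≠ 0)
      (fun g _ v hv => by rwa [Ne, smul_eq_zero_iff_eq]) f (by
        intro g _ v w hv hw e
        obtain ⟨c, hc, rfl⟩ : ∃ c : F, c ≠ 0 ∧ w = c • v := by
          by_cases h1 : v 1 = 0 <;> by_cases h2 : w 1 = 0 <;> simp only [f, h1, h2, if_true, if_false] at e
          · have h3 : v 0 ≠ 0 := fun h => hv (by ext i; fin_cases i <;> simp [h, h1])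
            have h4 : w 0 ≠ 0 := fun h => hw (by ext i; fin_cases i <;> simp [h, h2])
            exact ⟨w 0 / v 0, div_ne_zero h4 h3, by ext i; fin_cases i <;> simp [h1, h2, h3]⟩
          · cases e
          · cases e
          · refine ⟨w 1 / v 1, div_ne_zero h2 h1, ?_⟩
            have e' := Option.some.inj e
            ext i
            fin_cases i
            · simp only [Fin.zero_eta, Pi.smul_apply, smul_eq_mul]
              field_simp at e' ⊢
              exact e'.symm
            · simp [h1]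
        rw [GL_smul_def, GL_smul_def, mulVec_smul, hf _ _ hc]) hg hv
  refine perfect_diagonal hL fun g hg i j hij => ?_
  have h0 := key g hg (Pi.single 0 1) (by simp)
  have h1 := key g hg (Pi.single 1 1) (by simp)
  rw [GL_smul_def, mulVec_single_one] at h0 h1
  fin_cases i <;> fin_cases j
  · exact absurd rfl hij
  · by_cases h : (g : Matrix (Fin 2) (Fin 2) F) 1 1 = 0 <;> simp [f, h] at h1
    exact h1
  · by_contra h
    have h' : (g : Matrix (Fin 2) (Fin 2) F) 1 0 ≠ 0 := h
    simp [f, h'] at h0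
  · exact absurd rfl hij

omit [Fintype F] in
theorem perfect_comap {κ : Type} [Fintype κ] [DecidableEq κ] (φ : GL κ F ≃* GL ι F) {L : Subgroup (GL ι F)}
    (hL : ⁅L, L⁆ = L) (h : ⁅L.map φ.symm.toMonoidHom, L.map φ.symm.toMonoidHom⁆ = L.map φ.symm.toMonoidHom →
      L.map φ.symm.toMonoidHom = ⊥) : L = ⊥ :=
  (Subgroup.map_eq_bot_iff_of_injective _ φ.symm.injective).mp (h (by rw [← Subgroup.map_commutator, hL]))

theorem perfect_GO3 (hF : Fintype.card F = 3) {G : Matrix (Fin 3) (Fin 3) F} (hG : Herm (RingEquiv.refl F) 1 G)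
    (L : Subgroup (GL (Fin 3) F)) (hs : L ≤ similarityGroup (gf (RingEquiv.refl F) G)) (hL : ⁅L, L⁆ = L) :
    L = ⊥ := by
  have : CharP F 3 := charP_of_card_eq_prime (p := 3) hF
  have h3 : ∀ x : F, x ^ 3 = x := fun x => hF ▸ FiniteField.pow_card x
  obtain ⟨P, c, hc, hP⟩ := hG.exists_pbG_smul_one (by grobner) (by decide) (Equiv.refl (Fin 3))
  refine perfect_comap (trGL (Equiv.refl (Fin 3)) P) hL fun hL' => perfect_monomial (by simp) hL' ?_
  rintro _ ⟨g, hg, rfl⟩ j
  have h1 := hs hg
  rw [← (trGL (Equiv.refl (Fin 3)) P).apply_symm_apply g, trGL_mem_similarityGroup, hP, mem_similarityGroup_gf] at h1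
  obtain ⟨m, hm⟩ := h1
  show ∃ i, ∀ k, k ≠ i → (((trGL (Equiv.refl (Fin 3)) P).symm g : GL (Fin 3) F) : Matrix (Fin 3) (Fin 3) F) k j = 0
  generalize (trGL (Equiv.refl (Fin 3)) P).symm g = x at hm
  rw [map_refl, Matrix.mul_smul, Matrix.smul_mul, Matrix.mul_one, smul_comm] at hm
  have h2 : (x : Matrix (Fin 3) (Fin 3) F)ᵀ * x = (m : F) • 1 := smul_right_injective _ hc hm
  have h4 := congrArg det h2
  rw [det_mul, det_transpose, det_smul, det_one, Fintype.card_fin, h3, mul_one] at h4
  have h5 : (x : Matrix (Fin 3) (Fin 3) F).det ≠ 0 := x.det_ne_zero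
  have h6 := h3 (x : Matrix (Fin 3) (Fin 3) F).det
  have h7 : (m : F) = 1 := by
    rw [← h4]
    exact mul_left_cancel₀ h5 (by linear_combination h6)
  have h8 := congrFun (congrFun h2 j) j
  simp only [Matrix.mul_apply, Fin.sum_univ_three, transpose_apply, h7, one_smul, one_apply_eq] at h8
  have a0 := h3 ((x : Matrix (Fin 3) (Fin 3) F) 0 j)
  have a1 := h3 ((x : Matrix (Fin 3) (Fin 3) F) 1 j)
  have a2 := h3 ((x : Matrix (Fin 3) (Fin 3) F) 2 j)
  by_cases b0 : (x : Matrix (Fin 3) (Fin 3) F) 0 j = 0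
  · by_cases b1 : (x : Matrix (Fin 3) (Fin 3) F) 1 j = 0
    · exact ⟨2, fun k hk => by fin_cases k <;> first | exact b0 | exact b1 | exact absurd rfl hk⟩
    · have b2 : (x : Matrix (Fin 3) (Fin 3) F) 2 j = 0 := mul_left_cancel₀ b1 (by grobner)
      exact ⟨1, fun k hk => by fin_cases k <;> first | exact b0 | exact b2 | exact absurd rfl hk⟩
  · have b1 : (x : Matrix (Fin 3) (Fin 3) F) 1 j = 0 := mul_left_cancel₀ b0 (by grobner)
    have b2 : (x : Matrix (Fin 3) (Fin 3) F) 2 j = 0 := mul_left_cancel₀ b0 (by grobner)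
    exact ⟨0, fun k hk => by fin_cases k <;> first | exact b1 | exact b2 | exact absurd rfl hk⟩

theorem ringEquiv_eq_sq (hF : Fintype.card F = 4) {σ : F ≃+* F} (hne : σ ≠ RingEquiv.refl F) (x : F) :
    σ x = x ^ 2 := by
  classical
  have : CharP F 2 := charP_of_card_eq_prime_pow (p := 2) (f := 2) hF
  have h4 : ∀ x : F, x ^ 4 = x := fun x => hF ▸ FiniteField.pow_card x
  obtain ⟨a, ha⟩ := exists_ne_of_ne_refl hne
  replace ha : σ a ≠ a := ha
  have key : ∀ y : F, y = 0 ∨ y = 1 ∨ y ^ 2 + y + 1 = 0 := by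
    intro y
    have : y * ((y + 1) * (y ^ 2 + y + 1)) = 0 := by have := h4 y; grobner
    rcases mul_eq_zero.mp this with h | h
    · exact Or.inl h
    rcases mul_eq_zero.mp h with h | h
    · exact Or.inr (Or.inl (by grobner))
    · exact Or.inr (Or.inr h)
  have ha2 : a ^ 2 + a + 1 = 0 := by
    rcases key a with rfl | rfl | h
    · simp at ha
    · simp at ha
    · exact h
  have hs := congrArg σ ha2
  rw [map_add, map_add, map_pow, map_one, map_zero] at hs
  have h5 : σ a = a + 1 := by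
    have : (σ a - a) * (σ a - (a + 1)) = 0 := by grobner
    exact sub_eq_zero.mp ((mul_eq_zero.mp this).resolve_left (sub_ne_zero.mpr ha))
  rcases key x with rfl | rfl | h
  · simp
  · simp
  · have : (x - a) * (x - (a + 1)) = 0 := by grobner
    rcases mul_eq_zero.mp this with h6 | h6
    · rw [sub_eq_zero.mp h6, h5]; grobner
    · rw [sub_eq_zero.mp h6, map_add, map_one, h5]; grobner

theorem perfect_GU3 (hF : Fintype.card F = 4) {σ : F ≃+* F} (hne : σ ≠ RingEquiv.refl F)
    {G : Matrix (Fin 3) (Fin 3) F} (hG : Herm σ 1 G) (L : Subgroup (GL (Fin 3) F))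
    (hs : L ≤ similarityGroup (gf σ G)) (hL : ⁅L, L⁆ = L) : L = ⊥ := by
  have : CharP F 2 := charP_of_card_eq_prime_pow (p := 2) (f := 2) hF
  have h4 : ∀ x : F, x ^ 4 = x := fun x => hF ▸ FiniteField.pow_card x
  have hσ := ringEquiv_eq_sq hF hne
  obtain ⟨P, hP⟩ := hG.exists_pbG_one hne (Equiv.refl (Fin 3))
  refine perfect_comap (trGL (Equiv.refl (Fin 3)) P) hL fun hL' => ?_
  have hB : ∀ u v : Fin 3 → F, gf σ 1 u v = u 0 * v 0 ^ 2 + u 1 * v 1 ^ 2 + u 2 * v 2 ^ 2 := by
    intro u v
    simp [gf, dotProduct, Fin.sum_univ_three, hσ]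
  have hiso : ∀ x ∈ L.map (trGL (Equiv.refl (Fin 3)) P).symm.toMonoidHom, ∀ u v : Fin 3 → F,
      gf σ 1 (x • u) (x • v) = gf σ 1 u v := by
    rintro _ ⟨g, hg, rfl⟩
    have h1 := hs hg
    rw [← (trGL (Equiv.refl (Fin 3)) P).apply_symm_apply g, trGL_mem_similarityGroup, hP] at h1
    obtain ⟨m, hm⟩ := h1
    have h2 := hm (Pi.single 0 1) (Pi.single 0 1)
    rw [gf_single, one_apply_eq, mul_one, hB] at h2
    have h3 : (m : F) = 1 := by
      apply mul_left_cancel₀ m.ne_zero
      rw [← h2]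
      generalize ((((trGL (Equiv.refl (Fin 3)) P).symm g : GL (Fin 3) F) : Matrix (Fin 3) (Fin 3) F) *ᵥ
        Pi.single 0 1) = w
      have a0 := h4 (w 0)
      have a1 := h4 (w 1)
      have a2 := h4 (w 2)
      grobner
    intro u v
    exact (hm u v).trans (by rw [h3, one_mul])
  generalize L.map (trGL (Equiv.refl (Fin 3)) P).symm.toMonoidHom = L' at hL' hiso
  have key : ∀ g ∈ L', ∀ v : Fin 3 → F, gf σ 1 v v = 1 → (g • v) 0 * (g • v) 1 * (g • v) 2 = v 0 * v 1 * v 2 :=
    fun g hg v hv => perfect_fix (X := F) (by simp [hF]) hL' (fun v : Fin 3 → F => gf σ 1 v v = 1)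
      (fun g hg v hv => by rw [hiso g hg, hv]) (fun v => v 0 * v 1 * v 2) (by
        intro g hg v w hv hw e
        by_cases h0 : gf σ 1 w v = 0
        · rw [← hiso g hg] at h0 hv hw
          rw [hB] at h0 hv hw
          generalize g • v = v' at *
          generalize g • w = w' at *
          have a0 := h4 (v' 0)
          have a1 := h4 (v' 1)
          have a2 := h4 (v' 2)
          have b0 := h4 (w' 0)
          have b1 := h4 (w' 1)
          have b2 := h4 (w' 2)
          grobner
        · have h1 : w = gf σ 1 w v • v := by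
            have a0 := h4 (v 0)
            have a1 := h4 (v 1)
            have a2 := h4 (v 2)
            have b0 := h4 (w 0)
            have b1 := h4 (w 1)
            have b2 := h4 (w 2)
            ext i
            apply mul_left_cancel₀ h0
            rw [Pi.smul_apply, smul_eq_mul]
            rw [hB] at hv hw ⊢
            fin_cases i
            · show _ * w 0 = _ * (_ * v 0); grobner
            · show _ * w 1 = _ * (_ * v 1); grobner
            · show _ * w 2 = _ * (_ * v 2); grobner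
          generalize gf σ 1 w v = c at h0 h1
          have h2 : c ^ 3 = 1 := mul_left_cancel₀ h0 (by linear_combination h4 c)
          rw [h1, GL_smul_def g (c • v), mulVec_smul, ← GL_smul_def]
          simp only [Pi.smul_apply, smul_eq_mul]
          linear_combination (-((g • v) 0 * (g • v) 1 * (g • v) 2)) * h2) hg hv
  refine perfect_monomial (by simp) hL' fun g hg j => ?_
  have h1 := key g hg (Pi.single j 1) (by rw [gf_single, one_apply_eq])
  have h2 := hiso g hg (Pi.single j 1) (Pi.single j 1)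
  rw [gf_single, one_apply_eq, hB] at h2
  have h3 : (Pi.single j 1 : Fin 3 → F) 0 * (Pi.single j 1 : Fin 3 → F) 1 * (Pi.single j 1 : Fin 3 → F) 2 = 0 := by
    fin_cases j <;> simp
  rw [h3] at h1
  rw [GL_smul_def, mulVec_single_one] at h1 h2
  simp only [col_apply] at h1 h2
  have a0 := h4 ((g : Matrix (Fin 3) (Fin 3) F) 0 j)
  have a1 := h4 ((g : Matrix (Fin 3) (Fin 3) F) 1 j)
  have a2 := h4 ((g : Matrix (Fin 3) (Fin 3) F) 2 j)
  by_cases b0 : (g : Matrix (Fin 3) (Fin 3) F) 0 j = 0
  · by_cases b1 : (g : Matrix (Fin 3) (Fin 3) F) 1 j = 0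
    · exact ⟨2, fun k hk => by fin_cases k <;> first | exact b0 | exact b1 | exact absurd rfl hk⟩
    · have b2 : (g : Matrix (Fin 3) (Fin 3) F) 2 j = 0 := mul_left_cancel₀ b1 (by grobner)
      exact ⟨1, fun k hk => by fin_cases k <;> first | exact b0 | exact b2 | exact absurd rfl hk⟩
  · have b1 : (g : Matrix (Fin 3) (Fin 3) F) 1 j = 0 := mul_left_cancel₀ b0 (by grobner)
    have b2 : (g : Matrix (Fin 3) (Fin 3) F) 2 j = 0 := mul_left_cancel₀ b0 (by grobner)
    exact ⟨0, fun k hk => by fin_cases k <;> first | exact b1 | exact b2 | exact absurd rfl hk⟩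

end Cfsg.Agent.H9
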